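import Cfsg.Agent.R2.T1.T2p.Msk
import Cfsg.Agent.Prune
set_option linter.all false
prune_inst 0x7f00000000000000000000000000000000000000000000000000000000000000000000000000000000000000000000000000000000000000000000000000000000000000000000000000000000000000003fffffffffffffffffffffffffffbeffbdffffffff

/-- decoders of the packed data (elaboration time only) -/
private noncomputable def pk61d (b S i : Nat) : Nat := Nat.mod (Nat.shiftRight S (Nat.mul b i)) (Nat.shiftLeft (nat_lit 1) b)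
private noncomputable def pk61f {α : Type} (t : Nat) (f : Nat → α) : α := Nat.rec (f Nat.zero) (fun k _ => f (Nat.succ k)) t
private noncomputable def pk61l {α : Type} (f : Nat → α) (s e : Nat) (tl : List α) : List α :=
  pk61f e fun e => Nat.rec tl (fun k ih => List.cons (pk61f (Nat.sub e (Nat.succ k)) f) ih) (Nat.sub e s)

/-!
# S5929, `n = 7`: tables of subgroups of `A_7` (helper27)
-/

set_option autoImplicit false
set_option maxRecDepth 100000

namespace Cfsg.Agent.R2.T1.N7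

open Cfsg.Agent.R2.T1.Odd

/-- representatives of the classes: `1`, `2²`, `42`, `3`, `33`, `5` -/
def r7 : List (List (ℕ × ℕ)) :=
  [[], [(0, 1), (2, 3)], [(0, 1), (1, 2), (2, 3), (4, 5)], [(0, 1), (1, 2)], [(0, 1), (1, 2), (4, 5), (5, 6)],
   [(0, 1), (1, 2), (2, 3), (3, 4)]]

/-- `A_4` on `{0,1,2,3}` -/
def gA4 : List (List (ℕ × ℕ)) :=
[[(0, 1), (2, 3)], [(0, 1), (1, 2)]]

def eA4 : List (List ℕ) :=
[[], [0], [1], [1, 0], [0, 1], [1, 1], [0, 1, 0], [1, 1, 0], [1, 0, 1], [0, 1, 1], [1, 1, 0, 1], [1, 0, 1, 1]]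

def dA4 : List (ℕ × List (ℕ × ℕ)) :=
[(0, []), (1, []), (3, []), (3, [(1, 2), (2, 3)]), (3, [(0, 1), (1, 3)]), (3, [(1, 2), (5, 6)]), (3, [(1, 3), (3,
   2)]), (3, [(0, 3), (5, 6)]), (3, [(2, 3), (5, 6)]), (3, [(1, 3), (5, 6)]), (1, [(1, 2), (5, 6)]), (1, [(1, 3),
   (3, 2)])]

/-- `A_5` on `{0,..,4}` -/
def gA5 : List (List (ℕ × ℕ)) :=
[[(0, 1), (1, 2)], [(2, 3), (3, 4)], [(0, 1), (1, 2), (2, 3), (3, 4)]]

noncomputable def eA5 : List (List ℕ) :=
  (by
  refine (?fq9001 : ((pk61l (fun i1 => ((fun g1 : Nat → Nat => pk61l (fun i2 => (pk61d (nat_lit 2) 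
    (nat_lit 0x26286a192186618826094220841a066622a2219a19988a8989488846864602824201816aa2696285a65828920614206a61948424) i2)) (g1 i1) (g1 (Nat.succ i1)) List.nil) fun j => (pk61d (nat_lit 8) 
    (nat_lit 0xcfcac5c0bbb6b1aca7a29d98938f8b87837f7b77736f6b67635f5b57534f4b4743403d3a3734312e2b2825221f1c191613110f0d0b0907050302010000) j))) (nat_lit 0) (nat_lit 60) List.nil) : List (List ℕ))
    = ?xq9001 → (List (List ℕ))) ?hq9001; (case hq9001 => (set_option maxRecDepth 1000000 in conv => lhs; reduce)); intro _; exact ?xq9001 : List (List ℕ))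

noncomputable def dA5 : List (ℕ × List (ℕ × ℕ)) :=
  (by
  refine (?fq9002 : ((pk61l (fun i1 => (_root_.Prod.mk (pk61d (nat_lit 3) 
    (nat_lit 0x24925bb5b76b75d66965d35da4b34ba6bb5db6d76bad8) i1) ((fun g1 : Nat → Nat => pk61l (fun i2 => (_root_.Prod.mk (pk61d (nat_lit 3) 
    (nat_lit 0x69046b860461868448a19848469a61862219650a2945146c658662659a6a451a5066a468b11aa8ac8a5aa48) i2) (pk61d (nat_lit 3) 
    (nat_lit 0x8e28b451c89c5336a1cd37196b3d1471c8534e3d348dc7328e389c8e3cb38a3cdc8b48f2ce2cf1d1cca3ca3) i2))) (g1 i1) (g1 (Nat.succ i1)) List.nil) fun j => (pk61d (nat_lit 7) 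
    (nat_lit 0x74e5c376cd5ab466c98b05eb96ac56a94a84e992a446890a03e78e9c3664c172c54a13244480f1c3460b14203860a10182020400000) j)))) (nat_lit 0) (nat_lit 60) List.nil) : List (ℕ × List (ℕ × ℕ)))
    = ?xq9002 → (List (ℕ × List (ℕ × ℕ)))) ?hq9002; (case hq9002 => (set_option maxRecDepth 1000000 in set_option simprocs false in conv => lhs; reduce; dsimp only)); intro _; exact ?xq9002 : List (ℕ × List (ℕ × ℕ)))

/-- `PSL_2(5)` on `{0,..,5}` -/
def gB5 : List (List (ℕ × ℕ)) :=
[[(0, 1), (1, 2), (2, 3), (3, 4)], [(0, 5), (1, 4)]]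

noncomputable def eB5 : List (List ℕ) :=
  (by
  refine (?fq9003 : ((pk61l (fun i1 => ((fun g1 : Nat → Nat => pk61l (fun i2 => (pk61d (nat_lit 1) 
    (nat_lit 0x4488a2248912452208a4625151088468c99116222222445344b24489240a252514a0a4154c2a108588892) i2)) (g1 i1) (g1 (Nat.succ i1)) List.nil) fun j => (pk61d (nat_lit 9) 
    (nat_lit 0x155a5d066f2e92c72270a813e9e4ea71369a6cc62af96eb054a89369547a25067d3b9c4d6652f968aa5025918823c1b8cc5e2b1388c3e1b0b850220e058200c04010040000) j))) (nat_lit 0) (nat_lit 60) List.nil) : List (List ℕ))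
    = ?xq9003 → (List (List ℕ))) ?hq9003; (case hq9003 => (set_option maxRecDepth 1000000 in conv => lhs; reduce)); intro _; exact ?xq9003 : List (List ℕ))

noncomputable def dB5 : List (ℕ × List (ℕ × ℕ)) :=
  (by
  refine (?fq9004 : ((pk61l (fun i1 => (_root_.Prod.mk (pk61d (nat_lit 3) 
    (nat_lit 0x36924926db6492492596c94c24d30c92d96db6db64a68) i1) ((fun g1 : Nat → Nat => pk61l (fun i2 => (_root_.Prod.mk (pk61d (nat_lit 3) 
    (nat_lit 0x87a9b1a86b429688651d59d615a9aa16506885994c87516886a965a616650ad16506889aa2d0cd865aa88659559ce1cd12d0b1083321a44844865086c659418b118e9) i2) (pk61d (nat_lit 3) 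
    (nat_lit 0x214f5d63534965b114e29ab7ac8b5d54d2ad61b33b99d2ad29ce5d74a62cecd5ad62ce973595a9abaabd51b328abb94b9c99ad62ae666caea72595dab28f38b3ce251d) i2))) (g1 i1) (g1 (Nat.succ i1)) List.nil) fun j => (pk61d (nat_lit 8) 
    (nat_lit 0xb2b0aca8a6a4a2a09c9a9894908c8884807c7874706c6a686662605c5854504c4a484644403e3c3834302c282622201e1c1a181614120e0a0804000000) j)))) (nat_lit 0) (nat_lit 60) List.nil) : List (ℕ × List (ℕ × ℕ)))
    = ?xq9004 → (List (ℕ × List (ℕ × ℕ)))) ?hq9004; (case hq9004 => (set_option maxRecDepth 1000000 in set_option simprocs false in conv => lhs; reduce; dsimp only)); intro _; exact ?xq9004 : List (ℕ × List (ℕ × ℕ)))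

/-- `3² : 4` on `{0,..,5}` -/
def gE4 : List (List (ℕ × ℕ)) :=
[[(0, 1), (1, 2)], [(3, 4), (4, 5)], [(0, 3), (3, 1), (1, 4), (2, 5)]]

noncomputable def eE4 : List (List ℕ) :=
  (by
  refine (?fq9005 : ((pk61l (fun i1 => ((fun g1 : Nat → Nat => pk61l (fun i2 => (pk61d (nat_lit 2) 
    (nat_lit 0x2226888a1aa8a2a21a9a0a88868201816aa2268a20614206a1948424) i2)) (g1 i1) (g1 (Nat.succ i1)) List.nil) fun j => (pk61d (nat_lit 7) 
    (nat_lit 0x6fd59705baf4e7cb8f0dfbb6ecd7ac52991a03a68b94223c68b121c2830404000) j))) (nat_lit 0) (nat_lit 36) List.nil) : List (List ℕ))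
    = ?xq9005 → (List (List ℕ))) ?hq9005; (case hq9005 => (set_option maxRecDepth 1000000 in conv => lhs; reduce)); intro _; exact ?xq9005 : List (List ℕ))

noncomputable def dE4 : List (ℕ × List (ℕ × ℕ)) :=
  (by
  refine (?fq9006 : ((pk61l (fun i1 => (_root_.Prod.mk (pk61d (nat_lit 3) 
    (nat_lit 0x49248a2894a22494a28526a34d8) i1) ((fun g1 : Nat → Nat => pk61l (fun i2 => (_root_.Prod.mk (pk61d (nat_lit 3) 
    (nat_lit 0x8e921942941166b45d21068842945885169a42b861cd965a65c215208458a50a88) i2) (pk61d (nat_lit 3) 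
    (nat_lit 0x51d863ae576ab358a3a6ab11715973522aec89572c9a5ca3aeb862ae9b33ca3d63) i2))) (g1 i1) (g1 (Nat.succ i1)) List.nil) fun j => (pk61d (nat_lit 7) 
    (nat_lit 0x58a94a84e992a44684f9e386cd182e58a94264480f1c3460b121c304060800000) j)))) (nat_lit 0) (nat_lit 36) List.nil) : List (ℕ × List (ℕ × ℕ)))
    = ?xq9006 → (List (ℕ × List (ℕ × ℕ)))) ?hq9006; (case hq9006 => (set_option maxRecDepth 1000000 in set_option simprocs false in conv => lhs; reduce; dsimp only)); intro _; exact ?xq9006 : List (ℕ × List (ℕ × ℕ)))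

/-- `A_6` on `{0,..,5}` -/
def gA6 : List (List (ℕ × ℕ)) :=
[[(0, 1), (1, 2)], [(1, 2), (2, 3), (3, 4), (4, 5)], [(0, 1), (2, 3)], [(0, 1), (1, 2), (3, 4), (4, 5)]]

noncomputable def eA6 : List (List ℕ) :=
  (by
  refine (?fq9007 : ((pk61l (fun i1 => ((fun g1 : Nat → Nat => pk61l (fun i2 => (pk61d (nat_lit 2) 
    (nat_lit 0x97675974366739d36435327627521e1ef1ed1d319919317e17716f15914e14d1460bb09908d087085059fbfe5e7799e5f95dd76fd9f66d9764d6753d4343beeefb9ed7b56769d6749b6679965f976579424f93a43906378be2d89e268961f87a1d855fb7bded77dde76dd6751d3745d067d9b66597651935f9775d9755bd6d59d5f565545414e53546515435053e4ed3647d1d465164510f43507414fb3e4ef3b4e7398e537cde374db364d7358d5350be2ecb92d49f2789d26c99250912408e234872188520c811f87b1dc761d06f1b467198651905f1745b164571585514c510dc350bc2e0b42709825090230841f0741705815fbf9efede7e6e5dfdedddbd9d7d6d5d4d3d1d0bebbb9b59f9e9d9b99979695949391908f8e8d8b8987868583817e7b777675746f6d676665645f5e5d5b59575655545351504f4e4d47464543413e3b393736352f2e2d272625242321201f1e1d1b19171615140f0d0b09080705fbbe77db5d2fbad9e69648e28607de75b6575955134503ce34b2481c6143081fedb9876543210e4)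 i2)) (g1 i1) (g1 (Nat.succ i1)) List.nil) fun j => (pk61d (nat_lit 11) 
    (nat_lit 0x624c3d8630960cc0d802fd5f4bdd7a2f15dcbad742e55c4b7d6e2d95acb4d682cd594b1d622c157caef5cab6d68ac757aacd54a9f52aa2d40a774da98d2ca4f48a8ed18a2743a84d049ff3ea7acf09d739a70cdc9af34a66cc89872fa5ccb495f2aa52ca093725a48c8c90f20a3ec788e71ba34c648bf16a2ac5089711a20c3c86f0ca16c2884707a0cc1481f02a02c007f6fd9f8bec7cef89eebd87a6f39e4bc477eee9dabb0756e99d0b9c72ee49c6b88706df9bcb746deda9b2b606b6d59a8b4c68ed099eb38666cb994b2463ec698ab10616c1980afc5eebc976ae85c6b796cad459eb2962ac0576ad958aac54ea894ea98526a3944a844fe9e93aa704d699930a5c4ae9492724a48c9091f23a46c8c91722a44c8890f21a42c8490720a40c808ff1fa3ec7c8f71ea3cc788ef1da3ac748e71ca38c708df1ba36c6c8d71aa34c688cf19a32c648c718a30c608bf17a2ec5c8b716a2cc588af15a2ac548a714a28c5089f13a26c4c89712a24c4888f11a22c4488710a20c4087f0fa1ec3c8770ea1cc3886f0da1ac348670ca18c3085f0ba16c2c8570aa14c2884f09b1302544908f118224430831001f43d0770e81c43706b0d01943105f0b81642b0530a0134250470881041f03b0700d41902f0580a4130230400780e01a0300580a0120200380600a0100180200300400400000)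 j))) (nat_lit 0) (nat_lit 360) List.nil) : List (List ℕ))
    = ?xq9007 → (List (List ℕ))) ?hq9007; (case hq9007 => (set_option maxRecDepth 1000000 in conv => lhs; reduce)); intro _; exact ?xq9007 : List (List ℕ))

noncomputable def dA6 : List (ℕ × List (ℕ × ℕ)) :=
  let y0 : List (ℕ × List (ℕ × ℕ)) := (by
  refine (?fq9008 : (pk61l (fun i0 => (_root_.Prod.mk (pk61d (nat_lit 3) 
    (nat_lit 0xaa46ca9369556b5522a296995baaaa6936db69362a9cb54aad74db2d) i0) ((fun g0 : Nat → Nat => pk61l (fun i1 => (_root_.Prod.mk (pk61d (nat_lit 3) 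
    (nat_lit 0xa5145069962066a411859a60d51691ae1a61423a62a5a2296a9426a51688a8821aa51a23a614504594688a95a97a9d5a4c86a6a594087a9611620a50613222456a5945ea69ae15a96a9228) i1) (pk61d (nat_lit 3) 
    (nat_lit 0x56369c8e3d2a4e5723aa576c9ab8dd55cd6c89475c573865d15a54d62ce9cdcae3d5dd14754aec8e26a57356b58b59ab959adcd738944f58e5d69d4aa6665c963d65b23d65d5c735ce5b31) i1))) (g0 i0) (g0 (Nat.succ i0)) List.nil) fun j => (pk61d (nat_lit 8) 
    (nat_lit 0xc8c6c4c2c0bebcbab8b6b4b2b0aeacaaa8a4a2a09c9a9896928e8a8884827e7c787674726e6c6a666462605e5c5a5854504c4844423e3a383432302e2c282622201e1a181612100c08040200) j)))) (nat_lit 0) (nat_lit 75) List.nil : List (ℕ × List (ℕ × ℕ)))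
    = ?xq9008 → (List (ℕ × List (ℕ × ℕ)))) ?hq9008; (case hq9008 => (set_option maxRecDepth 1000000 in set_option simprocs false in conv => lhs; reduce; dsimp only)); intro _; exact ?xq9008 : List (ℕ × List (ℕ × ℕ)))
  let y1 : List (ℕ × List (ℕ × ℕ)) := (by
  refine (?fq9009 : (fun tl : List (ℕ × List (ℕ × ℕ)) => pk61l (fun i0 => (_root_.Prod.mk (pk61d (nat_lit 3) 
    (nat_lit 0x2d30946aa92b5a6e9b6a5152a9b4ab49a9d66a4aa76b854a6d2ac554b5586ab5da94a5d929) i0) ((fun g0 : Nat → Nat => pk61l (fun i1 => (_root_.Prod.mk (pk61d (nat_lit 3) 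
    (nat_lit 0x29ada62b45565a22b6ab848419aac45021122822c47565a45959970885842266545061d459ad8659451a696084e96a9468819451729a6220b415219850451b11690b19a88688748b197482192198a6aaaa698e9a084c8a5143567321d211ae1) i1) (pk61d (nat_lit 3) 
    (nat_lit 0x32d2ccf58a2aec4658f55297637758dd8eb8f28738a6aa5aab8b3ae1aec8ebb1caa2ae6aab96bb2c8a2555a9589d8d571d71375cca5d1ca6669ea63aaaaa2762d6cd62761d299a95638e9773a6aadcd6576551d961b99565b16ae6674a65d54) i1))) (g0 i0) (g0 (Nat.succ i0)) List.nil) fun j => (pk61d (nat_lit 8) 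
    (nat_lit 0xfefcfaf8f6f2eeeeeae8e6e2e0dedcdad6d4d2d0cecccac6c2c0bebcb8b4b2b0aeacaaa6a6a4a29e9c9a98969492908e8c8a8884807e7c7a787674706e6a6662605e5c5a585452504c4844403c38363432302e2a282624201e1c181614120e0a060400) j)))) (nat_lit 0) (nat_lit 98) tl)
    = ?xq9009 → (List (ℕ × List (ℕ × ℕ)))) ?hq9009; (case hq9009 => (set_option maxRecDepth 1000000 in set_option simprocs false in conv => lhs; reduce; dsimp only)); intro _; exact ?xq9009 y0 : List (ℕ × List (ℕ × ℕ)))
  let y2 : List (ℕ × List (ℕ × ℕ)) := (by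
  refine (?fq9010 : (fun tl : List (ℕ × List (ℕ × ℕ)) => pk61l (fun i0 => (_root_.Prod.mk (pk61d (nat_lit 3) 
    (nat_lit 0x149aaa92da6928d36cb6965555bb2cb5196d555aa5a924ada4a6e9aaaaaa4acb2355d962) i0) ((fun g0 : Nat → Nat => pk61l (fun i1 => (_root_.Prod.mk (pk61d (nat_lit 3) 
    (nat_lit 0x42b616a53862a69751675451aa1a60651421a19b117aa65022aa9086141946989069941584b421b0b410cd162146122ba888cc41aac8aa1aa141c46135043566b219848225658450b088106587516a25486b545d47346846c648a99999616648) i1) (pk61d (nat_lit 3) 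
    (nat_lit 0xaf48e2d6a71c55dcecd5eb2cd5c76b96ca5ccead5a8f5cea975d25514aa2733723af589eb2e69cd6c6aab9cb2ca9caa5d51b298b3d59d5475486b89486a766af5b2badda54ae5aebd61325aa98ea96c9a9d1eab4aae89daf54e5d5353396cce5) i1))) (g0 i0) (g0 (Nat.succ i0)) List.nil) fun j => (pk61d (nat_lit 9) 
    (nat_lit 0x803f9f8fa7b3c9dcec74399c4e06e369b0d66a349a0ce6632188c05f2f174b85b2d164b0572b154a8532893c9a4c259249046229108642209007c3d1d8e870361a0cc6230170b4562a148a04e261288c4421100783a1c0d86830170b050261107834180b048200c040180400) j)))) (nat_lit 0) (nat_lit 95) tl)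
    = ?xq9010 → (List (ℕ × List (ℕ × ℕ)))) ?hq9010; (case hq9010 => (set_option maxRecDepth 1000000 in set_option simprocs false in conv => lhs; reduce; dsimp only)); intro _; exact ?xq9010 y1 : List (ℕ × List (ℕ × ℕ)))
  (by
  refine (?fq9011 : (fun tl : List (ℕ × List (ℕ × ℕ)) => pk61l (fun i0 => (_root_.Prod.mk (pk61d (nat_lit 3) 
    (nat_lit 0x49daac4ad50b4edaa4955365a5ab6c46a75a6cd4aaaaaaedadd49bb2ab5ab5469c358) i0) ((fun g0 : Nat → Nat => pk61l (fun i1 => (_root_.Prod.mk (pk61d (nat_lit 3) 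
    (nat_lit 0x6a1821ad1a5521563346a68869421a229aa242b475875859673233811a19233854662408519b19ad06194182d0b19448350658a112d0d51428d628dc21ab11628548559a99ae242ab1055922a229a116084c8711ad144b42c6932086484c8a51628) i1) (pk61d (nat_lit 3) 
    (nat_lit 0xad471cd5ad22a66ae669db29b2a87587275caf5716b1eb22d2e866b2c753aee52a8ecb21aa3ca3d5aaf4aacb1ad638ec9aa4e5cea95a9aa94d7acb2b86bd6284d8ab9abd63d5c973d628abaf58f3565cd5b19ae2d626a56b58ea66cc99959caccf5) i1))) (g0 i0) (g0 (Nat.succ i0)) List.nil) fun j => (pk61d (nat_lit 9) 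
    (nat_lit 0x104803f9f8f87b3c9dcea74399c8e26f369b0d66a3499cca6331184be5e2e970b65a2c95caa5429948a04e2612c9248231108642200fc7c3d1e0e870371b0d06631180b85a2c150a04c2411888401e0e86c34190b85828120803c1a0b048200e060200c02010000000) j)))) (nat_lit 0) (nat_lit 92) tl)
    = ?xq9011 → (List (ℕ × List (ℕ × ℕ)))) ?hq9011; (case hq9011 => (set_option maxRecDepth 1000000 in set_option simprocs false in conv => lhs; reduce; dsimp only)); intro _; exact ?xq9011 y2 : List (ℕ × List (ℕ × ℕ)))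

theorem chkG_A4 : chkG 7 gA4 eA4 = true := Fq.chkG_of 40 (by decide +kernel)

theorem chkC_A4 : chkC 7 gA4 eA4 [] r7 dA4 = true := Fq.chkC_of (by decide +kernel)

theorem len_A4 : eA4.length = 12 := by decide +kernel

theorem cnt_A4 : (List.range 6).map (fun k => (dA4.map Prod.fst).count k) = [1, 3, 0, 8, 0, 0] := by decide +kernel

theorem chkG_A5 : chkG 7 gA5 eA5 = true := Fq.chkG_of 379 (by decide +kernel)

theorem chkC_A5 : chkC 7 gA5 eA5 [] r7 dA5 = true := Fq.chkC_of (by decide +kernel)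

theorem len_A5 : eA5.length = 60 := by decide +kernel

theorem cnt_A5 : (List.range 6).map (fun k => (dA5.map Prod.fst).count k) = [1, 15, 0, 20, 0, 24] := by decide +kernel

theorem chkG_B5 : chkG 7 gB5 eB5 = true := Fq.chkG_of 629 (by decide +kernel)

theorem chkC_B5 : chkC 7 gB5 eB5 [] r7 dB5 = true := Fq.chkC_of (by decide +kernel)

theorem len_B5 : eB5.length = 60 := by decide +kernel

theorem cnt_B5 : (List.range 6).map (fun k => (dB5.map Prod.fst).count k) = [1, 15, 0, 0, 20, 24] := by decide +kernel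

theorem chkG_E4 : chkG 7 gE4 eE4 = true := Fq.chkG_of 151 (by decide +kernel)

theorem chkC_E4 : chkC 7 gE4 eE4 [] r7 dE4 = true := Fq.chkC_of (by decide +kernel)

theorem len_E4 : eE4.length = 36 := by decide +kernel

theorem cnt_E4 : (List.range 6).map (fun k => (dE4.map Prod.fst).count k) = [1, 9, 18, 4, 4, 0] := by decide +kernel

theorem chkG_A6 : chkG 7 gA6 eA6 = true := Fq.chkG_of 9503 (by decide +kernel)

theorem chkC_A6 : chkC 7 gA6 eA6 [] r7 dA6 = true := Fq.chkC_of (by decide +kernel)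

theorem len_A6 : eA6.length = 360 := by decide +kernel

theorem cnt_A6 : (List.range 6).map (fun k => (dA6.map Prod.fst).count k) = [1, 45, 90, 40, 40, 144] := by decide +kernel

end Cfsg.Agent.R2.T1.N7
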