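import Cfsg.Agent.R2.T1.Odd.Nrm
import Cfsg.Agent.R2.T1.Odd.Ten
import Cfsg.Agent.R2.T1.N7.Tab
import Cfsg.Agent.R2.T1.Inf.LForm
import Cfsg.Agent.R2.T1.N6D.Out_m3
import Mathlib
import Cfsg.Agent.H952.F4.Scott_m3
import Cfsg.Agent.R2.T1.Odd.T9
import Cfsg.Agent.FastGrp
import Cfsg.Agent.Prune
set_option linter.all false

section
prune_inst 0x7fbdacfbbbfcf9dfffff7e7fae9fdffdf9bb3fffe6dff9cbffe063ff0b9f5b84cbc5fb8f8fe810fe1ed7e21410f87b53fbffefffe86bd87ffffd1ff41ffbff9fedf7350851dc98b40fbc2ffe83f0778e7f3fffffffffffffffffffffffffffbeffffffffffff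

-- part: R2/T1/N7/Grp
section
prune_inst 0x4043000000040000000000502000000404800000000000000c9400a040a00a042000200003020021200088c0040080040010000300200000000008400400401208c8152023240a104240017800880000000000000000000000000000000000000000000000
set_option linter.all false
open scoped Cfsg.Agent.FastGrp

-- part: R2/T1/Odd/Red
section
/-!
# S5771, ODD5 (O6): no proper `ψ(A_n)`-stable subspaces if the 3-cycles are of type 32 (helper11)

`no_red32` : as `no32`, but `W` need only be stable under `ψ(A_n)` (not under the preimage of `H`).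
-/

set_option autoImplicit false

namespace Cfsg.Agent.R2.T1.Odd

open Cfsg Cfsg.Lie Module Equiv Equiv.Perm
open Cfsg.Agent.H943.E7V.Block (D1 rho)
open Cfsg.Agent.H952.F4 (ev es MaxAlt)

universe u

variable {F : Type u} [Field F] [Finite F] {n : ℕ} {H : Subgroup ↥(chevE7.group F)}
  {φ : ↥(alternatingGroup (Fin n)) →* ↥(chevE7.group F)} {ψ : ↥(alternatingGroup (Fin n)) →* Gh F}

/-- `W` is stable under `ψ(A_n)` -/
def PsSt (ψ : ↥(alternatingGroup (Fin n)) →* Gh F) (W : Submodule F (D1 → F)) : Prop := ∀ a, ∀ w ∈ W, V F (ψ a) w ∈ W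

/-- the elements stabilizing all `ψ(A_n)`-stable subspaces -/
def Jg (ψ : ↥(alternatingGroup (Fin n)) →* Gh F) : Subgroup (Gh F) where
  carrier := {g | ∀ W, PsSt ψ W → g ∈ St (V F) W}
  one_mem' := fun W _ => one_mem _
  mul_mem' := fun ha hb W hW => mul_mem (ha W hW) (hb W hW)
  inv_mem' := fun ha W hW => inv_mem (ha W hW)

theorem ψ_mem (a : ↥(alternatingGroup (Fin n))) : ψ a ∈ Jg ψ := fun _ hW => mem_St_of (hW a)

theorem conj_Jg (hn : 7 ≤ n) (hM : MaxAlt H n φ) (hψ : Lift φ ψ) {h j : Gh F} (hh : ad F h ∈ H) (hj : j ∈ Jg ψ) :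
    h * j * h⁻¹ ∈ Jg ψ := by
  obtain ⟨σ, hσ⟩ := norm_lift hn hM hψ hh
  intro W hW
  let W' : Submodule F (D1 → F) := W.comap (V F h)
  have hW' : PsSt ψ W' := by
    intro a w hw
    have hmem : σ * (a : Perm (Fin n)) * σ⁻¹ ∈ alternatingGroup (Fin n) := by
      rw [mem_alternatingGroup, Perm.sign_mul, Perm.sign_mul, Perm.sign_inv, mem_alternatingGroup.1 a.2, mul_one]
      exact Int.units_mul_self _
    have h1 := hσ a ⟨_, hmem⟩ rfl
    rw [Submodule.mem_comap] at hw ⊢
    have h2 := hW ⟨_, hmem⟩ _ hw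
    rw [← h1] at h2
    have h3 : V F (h * ψ a * h⁻¹) (V F h w) = V F h (V F (ψ a) w) := by
      rw [map_mul, map_mul, Module.End.mul_apply, Module.End.mul_apply, Cfsg.Agent.R2.T1.ρ_inv (V F)]
    rwa [h3] at h2
  have h4 := hj W' hW'
  rw [mem_St] at h4 ⊢
  intro w
  have h5 := h4 (V F h⁻¹ w)
  rw [Submodule.mem_comap, Submodule.mem_comap, Cfsg.Agent.R2.T1.ρ_inv' (V F)] at h5
  rw [← h5, map_mul, map_mul]
  rfl

/-- **`ad (Jg ψ) ≤ H`** if there is a proper non-zero stable subspace -/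
theorem ad_Jg_le (hs : IsSimpleGroup ↥(chevE7.group F)) (hn : 7 ≤ n) (hM : MaxAlt H n φ) (hψ : Lift φ ψ)
    {W : Submodule F (D1 → F)} (hW : PsSt ψ W) (h0 : W ≠ ⊥) (h1 : W ≠ ⊤) : (Jg ψ).map (ad F) ≤ H := by
  by_contra hle
  set A := (Jg ψ).map (ad F) with hA
  have hHn : H ≤ Subgroup.normalizer (A : Set ↥(chevE7.group F)) := by
    intro h hh
    obtain ⟨g, rfl⟩ := ad_surjective h
    have key : ∀ g : Gh F, ad F g ∈ H → ∀ x ∈ A, ad F g * x * (ad F g)⁻¹ ∈ A := by
      rintro g hg _ ⟨j, hj, rfl⟩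
      exact ⟨g * j * g⁻¹, conj_Jg hn hM hψ hg hj, by rw [map_mul, map_mul, map_inv]⟩
    rw [Subgroup.mem_normalizer_iff]
    intro x
    refine ⟨fun hx => key g hh x hx, fun hx => ?_⟩
    have h2 := key g⁻¹ (by rw [map_inv]; exact inv_mem hh) _ hx
    rw [map_inv, inv_inv] at h2
    have h3 : (ad F g)⁻¹ * (ad F g * x * (ad F g)⁻¹) * ad F g = x := by group
    rwa [h3] at h2
  have hlt : H < H ⊔ A := lt_of_le_of_ne le_sup_left fun h => hle (by rw [h]; exact le_sup_right)
  have htop : H ⊔ A = ⊤ := hM.coatom.2 _ hlt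
  have hnorm : Subgroup.normalizer (A : Set ↥(chevE7.group F)) = ⊤ := by
    rw [eq_top_iff, ← htop]
    exact sup_le hHn Subgroup.le_normalizer
  have hAn : A.Normal := Subgroup.normalizer_eq_top_iff.1 hnorm
  rcases hAn.eq_bot_or_eq_top with h | h
  · have hne : ∃ a : ↥(alternatingGroup (Fin n)), a ≠ 1 := by
      have h2 : Nontrivial ↥(alternatingGroup (Fin n)) := by
        have h3 : Fact (3 ≤ n) := ⟨by omega⟩
        apply alternatingGroup.nontrivial_of_three_le_card
        rw [Nat.card_eq_fintype_card, Fintype.card_fin]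
        omega
      exact exists_ne 1
    obtain ⟨a, ha⟩ := hne
    have h2 : φ a ∈ A := ⟨ψ a, ψ_mem a, hψ a⟩
    rw [h, Subgroup.mem_bot] at h2
    exact ha (hM.inj (by rw [h2, map_one]))
  · apply h1
    apply irrV W _ h0
    intro g w hw
    have h2 : ad F g ∈ A := by rw [h]; trivial
    obtain ⟨j, hj, hjg⟩ := h2
    have h3 : ad F (j⁻¹ * g) = 1 := by rw [map_mul, map_inv, hjg, inv_mul_cancel]
    have h4 : g = j * (j⁻¹ * g) := by rw [mul_inv_cancel_left]
    rw [h4, map_mul, Module.End.mul_apply]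
    have h5 : V F (j⁻¹ * g) w ∈ W := by
      rcases ad_eq_one_iff.1 h3 with h6 | h6
      · rw [h6]
        exact hw
      · rw [neg_apply h6]
        exact neg_mem hw
    exact ((hj W hW) _).2 h5

/-- **no proper stable subspaces for 3-cycles of type 32** -/
theorem no_red32 (hs : IsSimpleGroup ↥(chevE7.group F)) (h3 : (3 : F) ≠ 0) (hq2 : Nat.card F ≠ 2) (hq4 : Nat.card F ≠ 4)
    (hn : 7 ≤ n) (hM : MaxAlt H n φ) (hψ : Lift φ ψ)
    {c : ↥(alternatingGroup (Fin n))} (hc : (c : Perm (Fin n)).IsThreeCycle)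
    {W : Submodule F (D1 → F)} (hW : PsSt ψ W) (h0 : W ≠ ⊥) (h1 : W ≠ ⊤) :
    ev (V F (ψ c)) 1 ≠ 32 := by
  intro h32
  have hx : ψ c ^ 3 = 1 := by
    rw [← map_pow]
    have h5 : c ^ 3 = 1 := by
      apply Subtype.ext
      have h6 := hc.orderOf
      have h7 : (c : Perm (Fin n)) ^ 3 = 1 := by rw [← h6]; exact pow_orderOf_eq_one _
      rw [SubmonoidClass.coe_pow, h7]
      rfl
    rw [h5, map_one]
  obtain ⟨y, a, b, c', m, ⟨e1, e2⟩, e3, e4, e5, -⟩ := tor32 h3 hx h32
  have hyJ : y ∈ Jg ψ := fun W' hW' => mem_St_of (stable_of_poly e1 (hW' c))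
  have hyH : ad F y ∈ H := ad_Jg_le hs hn hM hψ hW h0 h1 ⟨y, hyJ, rfl⟩
  have h4 := no_tor hn hM hc hx (hψ c) (fun g hg => commute_of_poly e1 hg) hyH
  obtain ⟨v, hv0, hv⟩ : ∃ v : D1 → F, v ≠ 0 ∧ V F (ψ c) v = v := by
    have h5 : Module.End.eigenspace (V F (ψ c)) 1 ≠ ⊥ := by
      intro h6
      rw [ev, h6, finrank_bot] at h32
      exact absurd h32 (by norm_num)
    obtain ⟨v, hv, hv0⟩ := Submodule.exists_mem_ne_zero_of_ne_bot h5
    rw [Module.End.mem_eigenspace_iff, one_smul] at hv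
    exact ⟨v, hv0, hv⟩
  rw [orderOf_ad hv0 (fixed_of_poly e1 e2 hv), e4] at h4
  have h5 := Nat.le_of_dvd (by norm_num) h4
  have hq1 : 1 < Nat.card F := Finite.one_lt_card
  omega

end Cfsg.Agent.R2.T1.Odd
end

-- part: R2/T1/Odd/No32
section
/-!
# S5771, ODD5 (O6): 3-cycles are not of type 32, `p ≥ 5`, `8 ≤ n ≤ 10` (helper11)
-/

set_option autoImplicit false
set_option maxRecDepth 100000

namespace Cfsg.Agent.R2.T1.Odd

open Cfsg Cfsg.Lie Module Equiv Equiv.Perm
open Cfsg.Agent.H943.E7V.Block (D1 rho)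
open Cfsg.Agent.H952.F4 (ev es MaxAlt)

universe u v

theorem card_ne {F : Type u} [Field F] [Finite F] (h2 : (2 : F) ≠ 0) : Nat.card F ≠ 2 ∧ Nat.card F ≠ 4 := by
  have := Fintype.ofFinite F
  have h1 : ((Nat.card F : ℕ) : F) = 0 := by
    rw [Nat.card_eq_fintype_card]
    exact Nat.cast_card_eq_zero F
  constructor
  · intro h
    rw [h] at h1
    exact h2 (by exact_mod_cast h1)
  · intro h
    rw [h] at h1
    have h3 : (2 : F) * 2 = 0 := by
      have : (2 : F) * 2 = ((4 : ℕ) : F) := by norm_num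
      rw [this, h1]
    rcases mul_eq_zero.1 h3 with h4 | h4 <;> exact h2 h4

section
variable {F : Type u} [Field F] [Finite F] {n : ℕ} [NeZero n] {H : Subgroup ↥(chevE7.group F)}
  {φ : ↥(alternatingGroup (Fin n)) →* ↥(chevE7.group F)} {ψ : ↥(alternatingGroup (Fin n)) →* Gh F}

omit [Finite F] [NeZero n] in
theorem lift_inj' (hM : MaxAlt H n φ) (hψ : Lift φ ψ) : ∀ a, ad F (ψ a) = 1 → a = 1 := by
  intro a ha
  rw [hψ] at ha
  exact hM.inj (by rw [ha, map_one])

end

end Cfsg.Agent.R2.T1.Odd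
end

-- part: R2/T1/N7/Grp
section
/-!
# S5929, `n = 7`: point stabilizers, fixed vectors (helper27)

* `mem_A6`, `mem_A5` : `Tg 7 gA6`, `Tg 7 gA5` are the stabilizers of `6`, of `5, 6`;
* `three_u`, `two_u` : if `W^X = 0` then `3 dim W^{A6} ≤ dim W^{A4}`, `2 dim W^{A6} ≤ dim W^{A5}`;
* `orbit_le` : the dimension of the submodule generated by a fixed vector.
-/

set_option autoImplicit false
set_option maxRecDepth 100000

namespace Cfsg.Agent.R2.T1.N7

open Equiv Equiv.Perm Module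
open Cfsg.Agent.R2.T1.Odd

universe u v

abbrev A7 := ↥(alternatingGroup (Fin 7))

theorem two_trans {i j : Fin 7} (h : i ≠ j) : ∃ g : A7, (g : Perm (Fin 7)) 0 = i ∧ (g : Perm (Fin 7)) 1 = j := by
  have h0 : swap 0 i j ≠ 0 := by
    intro h1
    have h2 := congrArg (swap 0 i) h1
    rw [swap_apply_self, swap_apply_left] at h2
    exact h h2.symm
  have e0 : (swap 0 i * swap 1 (swap 0 i j)) 0 = i := by
    rw [Perm.mul_apply, swap_apply_of_ne_of_ne (by decide) h0.symm, swap_apply_left]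
  have e1 : (swap 0 i * swap 1 (swap 0 i j)) 1 = j := by
    rw [Perm.mul_apply, swap_apply_left, swap_apply_self]
  generalize swap 0 i * swap 1 (swap 0 i j) = σ at e0 e1
  by_cases hs : sign σ = 1
  · exact ⟨⟨σ, mem_alternatingGroup.2 hs⟩, e0, e1⟩
  · have h3 : sign (σ * swap 2 3) = 1 := by
      rw [Perm.sign_mul, sign_swap (by decide), (Int.units_eq_one_or _).resolve_left hs]
      decide
    refine ⟨⟨σ * swap 2 3, mem_alternatingGroup.2 h3⟩, ?_, ?_⟩
    · show (σ * swap 2 3 : Perm (Fin 7)) 0 = i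
      rw [Perm.mul_apply, swap_apply_of_ne_of_ne (by decide) (by decide), e0]
    · show (σ * swap 2 3 : Perm (Fin 7)) 1 = j
      rw [Perm.mul_apply, swap_apply_of_ne_of_ne (by decide) (by decide), e1]

theorem mul_ap (g k : A7) (i : Fin 7) : ((g * k : A7) : Perm (Fin 7)) i = (g : Perm (Fin 7)) ((k : Perm (Fin 7)) i) := rfl

theorem inv_ap {g : A7} {i j : Fin 7} (h : (g : Perm (Fin 7)) i = j) : ((g⁻¹ : A7) : Perm (Fin 7)) j = i := by
  rw [Subgroup.coe_inv, Perm.inv_eq_iff_eq, h]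

theorem two_trans' {i j i' j' : Fin 7} (h : i ≠ j) (h' : i' ≠ j') :
    ∃ g : A7, (g : Perm (Fin 7)) i = i' ∧ (g : Perm (Fin 7)) j = j' := by
  obtain ⟨x, hx0, hx1⟩ := two_trans h
  obtain ⟨y, hy0, hy1⟩ := two_trans h'
  exact ⟨y * x⁻¹, by rw [mul_ap, inv_ap hx0, hy0], by rw [mul_ap, inv_ap hx1, hy1]⟩

theorem trans1 (i j : Fin 7) : ∃ g : A7, (g : Perm (Fin 7)) i = j := by
  obtain ⟨a, ha⟩ : ∃ a : Fin 7, a ≠ i := by
    by_cases h : i = 0
    · exact ⟨1, by rw [h]; decide⟩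
    · exact ⟨0, fun h' => h h'.symm⟩
  obtain ⟨b, hb⟩ : ∃ a : Fin 7, a ≠ j := by
    by_cases h : j = 0
    · exact ⟨1, by rw [h]; decide⟩
    · exact ⟨0, fun h' => h h'.symm⟩
  obtain ⟨g, hg, -⟩ := two_trans' ha.symm hb.symm
  exact ⟨g, hg⟩

/-- the values of `P` -/
theorem P_ap {l : List (ℕ × ℕ)} (hl : vl 7 l = true) (i : Fin 7) : (((P 7 l : A7) : Perm (Fin 7)) i).val = ap l i.val := by
  rw [coe_P le_rfl hl, pm_apply (vl_iff.1 hl).2]

theorem P_fix {l : List (ℕ × ℕ)} (hl : vl 7 l = true) {i : Fin 7} (h : ap l i.val = i.val) :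
    ((P 7 l : A7) : Perm (Fin 7)) i = i := Fin.ext (by rw [P_ap hl, h])

/-- the stabilizer of a point -/
def S1 (i : Fin 7) : Subgroup A7 where
  carrier := {g | (g : Perm (Fin 7)) i = i}
  one_mem' := rfl
  mul_mem' := fun {g k} hg hk => by
    show ((g * k : A7) : Perm (Fin 7)) i = i
    rw [mul_ap]
    have hg' : (g : Perm (Fin 7)) i = i := hg
    have hk' : (k : Perm (Fin 7)) i = i := hk
    rw [hk', hg']
  inv_mem' := fun {g} hg => inv_ap hg

theorem mem_S1 {i : Fin 7} {g : A7} : g ∈ S1 i ↔ (g : Perm (Fin 7)) i = i := Iff.rfl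

theorem card_A7 : Nat.card A7 = 2520 := by
  have h : 2 * Nat.card A7 = 5040 := Cfsg.Agent.R2.T1.card_alt (n := 7) (by norm_num)
  omega

/-- the index of a point stabilizer -/
theorem index_S1 (i : Fin 7) : (S1 i).index = 7 := by
  have h : (S1 i).index = Nat.card (Fin 7) := by
    let f : A7 ⧸ S1 i → Fin 7 := Quotient.lift (fun g : A7 => (g : Perm (Fin 7)) i) (by
      intro a b hab
      have h1 : a⁻¹ * b ∈ S1 i := QuotientGroup.leftRel_apply.1 hab
      rw [mem_S1, mul_ap] at h1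
      have h2 : (a : Perm (Fin 7)) (((a⁻¹ : A7) : Perm (Fin 7)) ((b : Perm (Fin 7)) i)) = (a : Perm (Fin 7)) i :=
        congrArg (fun j => (a : Perm (Fin 7)) j) h1
      rw [← mul_ap, mul_inv_cancel] at h2
      exact h2.symm)
    refine Nat.card_eq_of_bijective f ⟨?_, ?_⟩
    · intro x y
      refine Quotient.inductionOn₂ x y fun a b h => ?_
      have h1 : (a : Perm (Fin 7)) i = (b : Perm (Fin 7)) i := h
      refine Quotient.sound (QuotientGroup.leftRel_apply.2 ?_)
      rw [mem_S1, mul_ap, ← h1, inv_ap rfl]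
    · intro j
      obtain ⟨g, hg⟩ := trans1 i j
      exact ⟨Quotient.mk _ g, hg⟩
  rw [h, Nat.card_eq_fintype_card, Fintype.card_fin]

theorem card_S1 (i : Fin 7) : Nat.card ↥(S1 i) = 360 := by
  have h := (S1 i).card_mul_index
  rw [index_S1, card_A7] at h
  omega

theorem Tg_le {gens : List (List (ℕ × ℕ))} {T : Subgroup A7} (h : ∀ g ∈ gens, P 7 g ∈ T) : Tg 7 gens ≤ T := by
  unfold Tg
  rw [Subgroup.closure_le]
  rintro x ⟨g, hg, rfl⟩
  exact h g hg

theorem natcard_Tg {gens : List (List (ℕ × ℕ))} {els : List (List ℕ)} (h : chkG 7 gens els = true) :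
    Nat.card ↥(Tg 7 gens) = els.length := by
  have := Fintype.ofFinite ↥(Tg 7 gens)
  rw [Nat.card_eq_fintype_card, card_Tg le_rfl h]

/-- **`Tg 7 gA6` is the stabilizer of `6`** -/
theorem Tg_A6 : Tg 7 gA6 = S1 6 := by
  refine Subgroup.eq_of_le_of_card_ge (Tg_le ?_) ?_
  · intro g hg
    have h : ∀ g ∈ gA6, vl 7 g = true ∧ ap g 6 = 6 := by decide
    exact mem_S1.2 (P_fix (h g hg).1 (h g hg).2)
  · rw [natcard_Tg chkG_A6, len_A6, card_S1]

theorem mem_A6 {g : A7} : g ∈ Tg 7 gA6 ↔ (g : Perm (Fin 7)) 6 = 6 := by rw [Tg_A6, mem_S1]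

theorem le_A6 {gens : List (List (ℕ × ℕ))} (h : gens.all (fun g => vl 7 g && Nat.beq (ap g 6) 6) = true) :
    Tg 7 gens ≤ Tg 7 gA6 := by
  refine Tg_le fun g hg => ?_
  have h1 := List.all_eq_true.1 h g hg
  rw [Bool.and_eq_true] at h1
  exact mem_A6.2 (P_fix h1.1 (Nat.eq_of_beq_eq_true h1.2))

section mod
variable {F : Type u} [Field F] {W : Type v} [AddCommGroup W] [Module F W] {ρ : Representation F A7 W}

/-- a vector fixed by `A6`: `ρ g a` depends only on `g 6` -/
theorem mv {a : W} (ha : a ∈ inv ρ (Tg 7 gA6)) {g g' : A7} (h : (g : Perm (Fin 7)) 6 = (g' : Perm (Fin 7)) 6) :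
    ρ g a = ρ g' a := by
  have h1 : g'⁻¹ * g ∈ Tg 7 gA6 := by
    rw [mem_A6, mul_ap, h, inv_ap rfl]
  have h2 := ha _ h1
  rw [map_mul, Module.End.mul_apply] at h2
  have h3 := congrArg (ρ g') h2
  rw [← Module.End.mul_apply, ← map_mul, mul_inv_cancel, map_one, Module.End.one_apply] at h3
  exact h3

/-- coincidence of two translates -/
theorem all_fixed {a : W} (ha : a ∈ inv ρ (Tg 7 gA6)) {s s' : A7} (hs : (s : Perm (Fin 7)) 6 ≠ (s' : Perm (Fin 7)) 6)
    (h : ρ s a = ρ s' a) (g : A7) : ρ g a = a := by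
  by_cases hg : (g : Perm (Fin 7)) 6 = 6
  · exact ha g (mem_A6.2 hg)
  · obtain ⟨k, hk, hk'⟩ := two_trans' hs hg
    have h1 : ρ (k * s) a = ρ g a := mv ha (by rw [mul_ap, hk])
    have h2 : ρ (k * s') a = ρ 1 a := mv ha (by rw [mul_ap, hk']; rfl)
    rw [map_one, Module.End.one_apply] at h2
    rw [← h1, map_mul, Module.End.mul_apply, h, ← Module.End.mul_apply, ← map_mul, h2]

theorem zero_of (h0 : Representation.invariants ρ = ⊥) {a : W} (ha : a ∈ inv ρ (Tg 7 gA6)) {s s' : A7}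
    (hs : (s : Perm (Fin 7)) 6 ≠ (s' : Perm (Fin 7)) 6) (h : ρ s a = ρ s' a) : a = 0 := by
  have h1 : a ∈ Representation.invariants ρ := fun g => all_fixed ha hs h g
  rw [h0] at h1
  exact (Submodule.mem_bot F).1 h1

/-- `6 ↦ 4`, `6 ↦ 5` -/
def k4 : List (ℕ × ℕ) := [(6, 4), (0, 1)]
def k5 : List (ℕ × ℕ) := [(6, 5), (0, 1)]

theorem k4_ap : ((P 7 k4 : A7) : Perm (Fin 7)) 6 = 4 := Fin.ext (by rw [P_ap (by decide)]; decide)

theorem k5_ap : ((P 7 k5 : A7) : Perm (Fin 7)) 6 = 5 := Fin.ext (by rw [P_ap (by decide)]; decide)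

theorem fix_mul {g k : A7} {j : Fin 7} (hk : (k : Perm (Fin 7)) 6 = j) (hg : (g : Perm (Fin 7)) j = j) {a : W}
    (ha : a ∈ inv ρ (Tg 7 gA6)) : ρ g (ρ k a) = ρ k a := by
  rw [← Module.End.mul_apply, ← map_mul]
  exact mv ha (by rw [mul_ap, hk, hg])

theorem mem_inv_Tg {gens : List (List (ℕ × ℕ))} {w : W} (h : ∀ g ∈ gens, ρ (P 7 g) w = w) : w ∈ inv ρ (Tg 7 gens) := by
  unfold Tg
  rw [mem_inv_closure]
  rintro x ⟨g, hg, rfl⟩
  exact h g hg

/-- the map `(a, b, c) ↦ k4 a + k5 b + c` -/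
noncomputable def ph3 (ρ : Representation F A7 W) :
    (↥(inv ρ (Tg 7 gA6)) × ↥(inv ρ (Tg 7 gA6))) × ↥(inv ρ (Tg 7 gA6)) →ₗ[F] W :=
  (((ρ (P 7 k4)).comp (inv ρ (Tg 7 gA6)).subtype).coprod ((ρ (P 7 k5)).comp (inv ρ (Tg 7 gA6)).subtype)).coprod
    (inv ρ (Tg 7 gA6)).subtype

theorem ph3_apply (a b c : ↥(inv ρ (Tg 7 gA6))) :
    ph3 ρ ((a, b), c) = ρ (P 7 k4) a.1 + ρ (P 7 k5) b.1 + c.1 := by
  simp only [ph3, _root_.LinearMap.coprod_apply, _root_.LinearMap.coe_comp, _root_.Submodule.coe_subtype, _root_.Function.comp_apply, _root_.Submodule.subtype_apply]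

/-- the map `(b, c) ↦ k5 b + c` -/
noncomputable def ph2 (ρ : Representation F A7 W) : ↥(inv ρ (Tg 7 gA6)) × ↥(inv ρ (Tg 7 gA6)) →ₗ[F] W :=
  ((ρ (P 7 k5)).comp (inv ρ (Tg 7 gA6)).subtype).coprod (inv ρ (Tg 7 gA6)).subtype

theorem ph2_apply (b c : ↥(inv ρ (Tg 7 gA6))) : ph2 ρ (b, c) = ρ (P 7 k5) b.1 + c.1 := by
  simp [ph2]

theorem ph2_inj (h0 : Representation.invariants ρ = ⊥) : Function.Injective (ph2 ρ) := by
  rw [← LinearMap.ker_eq_bot, LinearMap.ker_eq_bot']
  rintro ⟨b, c⟩ h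
  rw [ph2_apply] at h
  have ht : vl 7 [(5, 0), (0, 1)] = true := by decide
  have t6 : ((P 7 [(5, 0), (0, 1)] : A7) : Perm (Fin 7)) 6 = 6 := P_fix ht (by decide)
  have h1 := congrArg (ρ (P 7 [(5, 0), (0, 1)])) h
  rw [map_add, map_zero, c.2 _ (mem_A6.2 t6), ← h] at h1
  have h2 := add_right_cancel h1
  rw [← Module.End.mul_apply, ← map_mul] at h2
  have hb : b.1 = 0 := by
    refine zero_of h0 b.2 ?_ h2
    rw [mul_ap, k5_ap]
    intro h3
    have h4 := congrArg Fin.val h3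
    rw [P_ap ht] at h4
    exact absurd h4 (by decide)
  rw [hb, map_zero, zero_add] at h
  exact Prod.ext (Subtype.ext hb) (Subtype.ext h)

theorem ph3_inj (h0 : Representation.invariants ρ = ⊥) : Function.Injective (ph3 ρ) := by
  rw [← LinearMap.ker_eq_bot, LinearMap.ker_eq_bot']
  rintro ⟨⟨a, b⟩, c⟩ h
  rw [ph3_apply] at h
  have ht : vl 7 [(4, 0), (0, 1)] = true := by decide
  have t6 : ((P 7 [(4, 0), (0, 1)] : A7) : Perm (Fin 7)) 6 = 6 := P_fix ht (by decide)
  have t5 : ((P 7 [(4, 0), (0, 1)] : A7) : Perm (Fin 7)) 5 = 5 := P_fix ht (by decide)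
  have h1 := congrArg (ρ (P 7 [(4, 0), (0, 1)])) h
  rw [map_add, map_add, map_zero, c.2 _ (mem_A6.2 t6), fix_mul k5_ap t5 b.2, ← h] at h1
  have h2 := add_right_cancel (add_right_cancel h1)
  rw [← Module.End.mul_apply, ← map_mul] at h2
  have ha : a.1 = 0 := by
    refine zero_of h0 a.2 ?_ h2
    rw [mul_ap, k4_ap]
    intro h3
    have h4 := congrArg Fin.val h3
    rw [P_ap ht] at h4
    exact absurd h4 (by decide)
  rw [ha, map_zero, zero_add] at h
  have h5 : ph2 ρ (b, c) = ph2 ρ 0 := by rw [ph2_apply, h, map_zero]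
  have h6 := ph2_inj h0 h5
  have h7 : b = 0 := congrArg Prod.fst h6
  have h8 : c = 0 := congrArg Prod.snd h6
  have h9 : a = 0 := Subtype.ext ha
  rw [h7, h8, h9]
  rfl

variable [FiniteDimensional F W]

theorem three_u (h0 : Representation.invariants ρ = ⊥) :
    3 * finrank F ↥(inv ρ (Tg 7 gA6)) ≤ finrank F ↥(inv ρ (Tg 7 gA4)) := by
  have h1 : ∀ x, ph3 ρ x ∈ inv ρ (Tg 7 gA4) := by
    rintro ⟨⟨a, b⟩, c⟩
    rw [ph3_apply]
    refine mem_inv_Tg fun g hg => ?_
    have h : ∀ g ∈ gA4, vl 7 g = true ∧ ap g 4 = 4 ∧ ap g 5 = 5 ∧ ap g 6 = 6 := by decide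
    obtain ⟨h1, h4, h5, h6⟩ := h g hg
    rw [map_add, map_add, fix_mul k4_ap (P_fix h1 h4) a.2, fix_mul k5_ap (P_fix h1 h5) b.2,
      c.2 _ (mem_A6.2 (P_fix h1 h6))]
  have h2 := LinearMap.finrank_le_finrank_of_injective (f := (ph3 ρ).codRestrict _ h1)
    (fun x y h => ph3_inj h0 (congrArg Subtype.val h))
  rw [Module.finrank_prod, Module.finrank_prod] at h2
  omega

end mod

section orb
variable {F : Type u} [Field F] {W : Type v} [AddCommGroup W] [Module F W] {G : Type*} [Group G] [Finite G]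

/-- the submodule generated by a vector fixed by `T` has dimension at most the index of `T` -/
theorem orbit_le (ρ : Representation F G W) (T : Subgroup G) {w : W} (hw : w ∈ inv ρ T) :
    finrank F ↥(Submodule.span F (Set.range fun g => ρ g w)) ≤ T.index := by
  let f : G ⧸ T → W := Quotient.lift (fun g : G => ρ g w) (by
    intro a b hab
    have h1 := hw _ (QuotientGroup.leftRel_apply.1 hab)
    have h2 := congrArg (ρ a) h1
    rw [← Module.End.mul_apply, ← map_mul, mul_inv_cancel_left] at h2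
    exact h2.symm)
  have h1 : (Set.range fun g => ρ g w) = Set.range f := by
    ext x
    constructor
    · rintro ⟨g, rfl⟩
      exact ⟨Quotient.mk _ g, rfl⟩
    · rintro ⟨y, rfl⟩
      refine Quotient.inductionOn y fun g => ⟨g, rfl⟩
  have := Fintype.ofFinite (G ⧸ T)
  rw [h1, Subgroup.index, Nat.card_eq_fintype_card]
  exact finrank_range_le_card f

omit [Finite G] in
theorem orbit_stable (ρ : Representation F G W) (w : W) (g : G) {x : W}
    (hx : x ∈ Submodule.span F (Set.range fun g => ρ g w)) : ρ g x ∈ Submodule.span F (Set.range fun g => ρ g w) := by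
  induction hx using Submodule.span_induction with
  | mem x h =>
    obtain ⟨k, rfl⟩ := h
    refine Submodule.subset_span ⟨g * k, ?_⟩
    show ρ (g * k) w = ρ g (ρ k w)
    rw [map_mul, Module.End.mul_apply]
  | zero => rw [map_zero]; exact zero_mem _
  | add x y _ _ hx hy => rw [map_add]; exact add_mem hx hy
  | smul c x _ hx => rw [map_smul]; exact Submodule.smul_mem _ _ hx

end orb

end Cfsg.Agent.R2.T1.N7
end

private theorem dce_e17d1859c647 : _root_.True := by
  try have : _root_.True := by simp only [_root_.Cfsg.Agent.R2.T1.N7.ph3.eq_1]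
  try have : _root_.True := by simp only [_root_.Cfsg.Agent.R2.T1.N7.ph2.eq_1]
  exact _root_.True.intro
end

-- part: R2/T1/N6D/Lq
section
prune_inst 0x421104440306200000018001602000020000000000040000080800b020a41a040204300013a300402009814d02800004001000000424000000e000000000401208000400002400104040011800080000000000000000000000000000000000000000000000
set_option linter.all false
open scoped Cfsg.Agent.FastGrp

/-!
# S5929, `n = 6`, `p = 2`: the centre of the Lie algebra in characteristic 2 (helper25)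

* `Zc F` : the elements of the adjoint module which act as scalars on the module of degree 56; `L_of_mem` : fixed by the group;
* `zv`, `del_zv`, `finrank_Zc` : it is a line in characteristic 2;
* `kf_rad` : it is the radical of the invariant form;
* `mem_of_fixed` : elements fixed by the group modulo `Zc F` belong to `Zc F`.
-/

set_option autoImplicit false
set_option maxRecDepth 100000

namespace Cfsg.Agent.R2.T1.N6D

open Cfsg Cfsg.Lie Module Matrix
open Cfsg.Agent.ChevalleyStructure Cfsg.Agent.ChevalleyStructure.Elts Cfsg.Agent.ChevalleyStructure.Columns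
open Cfsg.Agent.H943.E7V.Block (D1 rho)
open Cfsg.Agent.R2.T1 Cfsg.Agent.R2.PX Cfsg.Agent.R2.T1.Mu Cfsg.Agent.R2.T2.Alg

universe u

/-- the centre of the Lie algebra -/
noncomputable def Zc (F : Type u) [Field F] : Submodule F (chevE7.Idx → F) :=
  (Submodule.span F {(1 : Matrix D1 D1 F)}).comap (del F)

variable {F : Type u} [Field F]

theorem mem_Zc {v : chevE7.Idx → F} : v ∈ Zc F ↔ ∃ c : F, c • (1 : Matrix D1 D1 F) = del F v :=
  Submodule.mem_span_singleton

theorem L_of_mem {v : chevE7.Idx → F} (hv : v ∈ Zc F) (g : Gh F) : L F g v = v := by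
  apply Mu.del_injective
  obtain ⟨c, hc⟩ := mem_Zc.1 hv
  rw [del_L', ← hc, Matrix.mul_smul, mul_one, Matrix.smul_mul, ← map_mul, mul_inv_cancel, map_one]

theorem cast_even (h2 : (2 : F) = 0) {a : ℤ} (h : a % 2 = 0) : (a : F) = 0 := by
  obtain ⟨k, rfl⟩ := Int.dvd_of_emod_eq_zero h
  rw [Int.cast_mul, Int.cast_ofNat, h2, zero_mul]

/-- the central element -/
def zv (F : Type u) [Field F] : chevE7.Idx → F := Sum.elim (fun i => ((zc i.val : ℤ) : F)) fun _ => 0

theorem del_zv (h2 : (2 : F) = 0) : del F (zv F) = 1 := by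
  have e : (1 : Matrix D1 D1 F) = ∑ i : Fin 7, ((zc i : ℤ) : F) • Hi F i := by
    rw [sum_Hi, ← Matrix.diagonal_one]
    congr 1
    funext b
    have h := of_decide_eq_true (List.all_eq_true.1 chkZ (nn b) (nn_mem b))
    have h3 : (((((List.range 7).map fun i => zc i * chevE8.cartan i (nn b)).sum - 1 : ℤ)) : F) = 0 :=
      cast_even h2 (by omega)
    rw [Int.cast_sub, Int.cast_one] at h3
    exact (sub_eq_zero.1 h3).symm
  rw [e, del_apply]
  have h0 : ∑ s : Fin chevE7.nroots, zv F (Sum.inr s) • NM F s = 0 :=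
    Finset.sum_eq_zero fun s _ => by show (0 : F) • _ = _; rw [zero_smul]
  rw [h0, add_zero]
  rfl

theorem zv_mem (h2 : (2 : F) = 0) : zv F ∈ Zc F := mem_Zc.2 ⟨1, by rw [one_smul, del_zv h2]⟩

theorem zv_ne : zv F ≠ 0 := by
  intro h
  have h1 := congrFun h (Sum.inl (⟨6, by decide⟩ : Fin chevE7.rank))
  have h2 : ((zc 6 : ℤ) : F) = 0 := h1
  have h3 : zc 6 = 1 := rfl
  rw [h3, Int.cast_one] at h2
  exact one_ne_zero h2

theorem Zc_eq (h2 : (2 : F) = 0) : Zc F = Submodule.span F {zv F} := by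
  apply le_antisymm
  · intro v hv
    obtain ⟨c, hc⟩ := mem_Zc.1 hv
    refine Submodule.mem_span_singleton.2 ⟨c, Mu.del_injective ?_⟩
    rw [map_smul, del_zv h2, hc]
  · rw [Submodule.span_singleton_le_iff_mem]
    exact zv_mem h2

theorem finrank_Zc (h2 : (2 : F) = 0) : finrank F (Zc F) = 1 := by
  rw [Zc_eq h2]
  exact finrank_span_singleton zv_ne

/-! ### the radical of the form -/

/-- a partial inverse of the Cartan matrix modulo 2 -/
def iC2 : List (List ℤ) := [[0, 1, 1, 0, 0, 0, 0], [1, 0, 0, 1, 0, 1, 0], [1, 0, 0, 0, 0, 0, 0], [0, 1, 0, 0, 0, 0, 0],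
  [0, 0, 0, 0, 0, 1, 0], [0, 0, 0, 0, 0, 0, 1], [0, 0, 0, 0, 0, 0, 0]]

theorem iC2_mul : ∀ k < 7, ∀ i < 7, ((∑ j : Fin 7, (iC2.getD k []).getD j.val 0 * car chevE7 j.val (chevE7.simple i)) -
    ((if k = i then 1 else 0) - zc k * if i = 6 then 1 else 0)) % 2 = 0 := by decide +kernel

theorem car_zc : ∀ k < 7, (∑ j : Fin 7, car chevE7 k (chevE7.simple j.val) * zc j.val) % 2 = 0 := by decide +kernel

theorem cartan_ker (h2 : (2 : F) = 0) {y : Fin chevE7.rank → F}
    (h : ∀ i : Fin chevE7.rank, ∑ j : Fin chevE7.rank, (car chevE7 i.val (chevE7.simple j.val) : F) * y j = 0)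
    (k : Fin chevE7.rank) : y k = ((zc k.val : ℤ) : F) * y ⟨6, by decide⟩ := by
  have h1 : ∑ i : Fin chevE7.rank, (((iC2.getD k.val []).getD i.val 0 : ℤ) : F) *
      (∑ j : Fin chevE7.rank, (car chevE7 i.val (chevE7.simple j.val) : F) * y j) = 0 :=
    Finset.sum_eq_zero fun i _ => by rw [h, mul_zero]
  have h3 : ∑ i : Fin chevE7.rank, (((iC2.getD k.val []).getD i.val 0 : ℤ) : F) *
      (∑ j : Fin chevE7.rank, (car chevE7 i.val (chevE7.simple j.val) : F) * y j) =
      ∑ j : Fin chevE7.rank, ((∑ i : Fin chevE7.rank, (iC2.getD k.val []).getD i.val 0 *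
        car chevE7 i.val (chevE7.simple j.val) : ℤ) : F) * y j := by
    push_cast
    simp only [Finset.mul_sum, Finset.sum_mul]
    rw [Finset.sum_comm]
    exact Finset.sum_congr rfl fun i _ => Finset.sum_congr rfl fun j _ => (mul_assoc _ _ _).symm
  rw [h3] at h1
  set l : Fin chevE7.rank := ⟨6, by decide⟩ with hl
  have h4 : ∀ j : Fin chevE7.rank, ((∑ i : Fin chevE7.rank, (iC2.getD k.val []).getD i.val 0 *
        car chevE7 i.val (chevE7.simple j.val) : ℤ) : F) = (if k = j then 1 else 0) - ((zc k.val : ℤ) : F) *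
          if j = l then 1 else 0 := by
    intro j
    have h5 := cast_even h2 (iC2_mul k.val k.2 j.val j.2)
    have h6 : (k.val = j.val) ↔ (k = j) := ⟨fun h => Fin.ext h, fun h => congrArg Fin.val h⟩
    have h7 : (j.val = 6) ↔ (j = l) := ⟨fun h => Fin.ext h, fun h => congrArg Fin.val h⟩
    simp only [h6, h7] at h5
    rw [Int.cast_sub, sub_eq_zero] at h5
    refine h5.trans ?_
    push_cast
    rfl
  simp only [h4, sub_mul, Finset.sum_sub_distrib] at h1
  rw [Finset.sum_eq_single k, if_pos rfl, one_mul, Finset.sum_eq_single l, if_pos rfl, mul_one] at h1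
  · exact sub_eq_zero.1 h1
  · intro j _ hj
    rw [if_neg hj, mul_zero, zero_mul]
  · intro h; exact absurd (Finset.mem_univ _) h
  · intro j _ hj
    rw [if_neg (Ne.symm hj), zero_mul]
  · intro h; exact absurd (Finset.mem_univ _) h

theorem KM_zv (h2 : (2 : F) = 0) : KM F *ᵥ zv F = 0 := by
  funext a
  rcases a with i | u
  · rw [KM_mulVec_inl]
    have h1 := cast_even h2 (car_zc i.val i.2)
    rw [Int.cast_sum] at h1
    simp only [Int.cast_mul] at h1
    exact h1
  · rw [KM_mulVec_inr]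
    rfl

/-- **the centre is the radical of the form** -/
theorem kf_rad (h2 : (2 : F) = 0) {y : chevE7.Idx → F} : (∀ x, kf F x y = 0) ↔ y ∈ Zc F := by
  constructor
  · intro h
    have h1 : ∀ a, (KM F *ᵥ y) a = 0 := by
      intro a
      have h3 := h (Pi.single a 1)
      rwa [kf_apply, single_one_dotProduct] at h3
    rw [Zc_eq h2]
    refine Submodule.mem_span_singleton.2 ⟨y (Sum.inl ⟨6, by decide⟩), ?_⟩
    funext a
    rw [Pi.smul_apply, smul_eq_mul]
    rcases a with i | u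
    · have h3 := cartan_ker h2 (y := fun j => y (Sum.inl j)) (fun i => by
        rw [← KM_mulVec_inl]; exact h1 _) i
      rw [h3, mul_comm]
      rfl
    · have h3 := h1 (Sum.inr (ng u))
      rw [KM_mulVec_inr, ng_ng] at h3
      rw [h3]
      exact mul_zero _
  · intro hy x
    rw [Zc_eq h2] at hy
    obtain ⟨c, rfl⟩ := Submodule.mem_span_singleton.1 hy
    rw [map_smul, kf_apply, KM_zv h2, dotProduct_zero, smul_zero]

/-! ### no fixed points modulo the centre -/

/-- the pairs of roots -/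
private def wit (u : ℕ) : ℕ := Nat.mod (Nat.shiftRight 0xf977ea0fa7fe9efa77e9cfa6fe9afa67e98fa5fe96fa57e94fa4d17c43f087d1ff477d1bf467d17f457d13f447d0ff437d0bf427d07f417d03f506c41acdf627ec97b23ec57c13f047c0ff08781de45fa0fec5770df02fc09f01fc05f037b0bec27b07ec37a0be827a0de42f90de02f709e027707e41f807dc17a05e417805dc0fb03e80f903e00f70dcc17607c826f0bb40f607b18af60bc16c6ca9aaa82860217a8807c40d103340c903140c102a3abce2f36bd3204a8122046811204281a16626981a467d11f427d31c487509e466d78ac203000be02f00ba01001 (Nat.mul 7 u)) 128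

private theorem sum_ex : ∀ u < 126, wit (2 * u) < 126 ∧ wit (2 * u + 1) < 126 ∧
    (F7 (wit (2 * u)) (wit (2 * u + 1)) = [(u, 1)] ∨ F7 (wit (2 * u)) (wit (2 * u + 1)) = [(u, -1)]) := by decide +kernel

theorem exists_sum (u : Fin chevE7.nroots) : ∃ (r : ℕ) (s : Fin chevE7.nroots) (c : ℤ), r < 126 ∧ c * c = 1 ∧
    F7 r s.val = [(u.val, c)] := by
  obtain ⟨hr, hs, h | h⟩ := sum_ex u.val u.2
  · exact ⟨_, ⟨_, hs⟩, 1, hr, by norm_num, h⟩
  · exact ⟨_, ⟨_, hs⟩, -1, hr, by norm_num, h⟩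

/-- **elements fixed by the group modulo the centre are central** -/
theorem mem_of_fixed (h2 : (2 : F) = 0) {v : chevE7.Idx → F} (h : ∀ g : Gh F, L F g v - v ∈ Zc F) : v ∈ Zc F := by
  -- the orthogonal space
  have key : ∀ (g : Gh F) (x : chevE7.Idx → F), kf F (L F g x) v = kf F x v := by
    intro g x
    have h1 := (kf_rad h2).2 (h g⁻¹) x
    rw [map_sub, sub_eq_zero] at h1
    rw [← h1]
    have h3 := kf_L g⁻¹ (L F g x) v
    rw [← h3, ← Module.End.mul_apply, ← map_mul, inv_mul_cancel, map_one, Module.End.one_apply]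
  have key2 : ∀ {r : ℕ} (hr : r < 126) (x : chevE7.Idx → F), kf F (EM F r *ᵥ x) v + kf F (QM F r *ᵥ x) v = 0 := by
    intro r hr x
    have h1 := key (xs F r 1) x
    rw [L_xs hr, one_smul, one_pow, one_smul, map_add, map_add, LinearMap.add_apply, LinearMap.add_apply] at h1
    linear_combination h1
  have her : ∀ u : Fin chevE7.nroots, kf F (er F u) v = 0 := by
    intro u
    obtain ⟨r, s, c, hr, hc, hF⟩ := exists_sum u
    have h1 := key2 hr (er F s)
    have hs : s.val ≠ 125 - r := by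
      intro h1
      rw [h1, F7_neg hr] at hF
      exact absurd hF (by simp)
    have h3 : QM F r *ᵥ er F s = 0 := by
      have h4 := QM_mulVec (F := F) (r := ⟨r, hr⟩) (er F s)
      have h5 : er F s (Sum.inr (ng ⟨r, hr⟩)) = 0 := by
        rw [er, Pi.single_eq_of_ne]
        intro h6
        exact hs (congrArg Fin.val (Sum.inr.inj h6)).symm
      rw [h5, neg_zero, zero_smul] at h4
      exact h4
    rw [h3, map_zero, LinearMap.zero_apply, add_zero, EM_er s u hF hr, map_smul, LinearMap.smul_apply, smul_eq_mul] at h1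
    exact (mul_eq_zero.1 h1).resolve_left (cast_ne hc)
  have heh : ∀ i : Fin chevE7.rank, kf F (eh F i) v = 0 := by
    intro i
    have hr : chevE7.simple i.val < 126 := simple7_lt i.val i.2
    set r := chevE7.simple i.val with hrd
    have h1 := key2 hr (er F (ng ⟨r, hr⟩))
    have h3 : QM F r *ᵥ er F (ng ⟨r, hr⟩) = -er F ⟨r, hr⟩ := by
      have h4 := QM_mulVec (F := F) (r := ⟨r, hr⟩) (er F (ng ⟨r, hr⟩))
      have h5 : er F (ng ⟨r, hr⟩) (Sum.inr (ng ⟨r, hr⟩)) = 1 := by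
        rw [er, Pi.single_eq_same]
      rw [h5, neg_smul, one_smul] at h4
      exact h4
    have h6 : EM F r *ᵥ er F (ng ⟨r, hr⟩) = eh F i := by
      rw [EM_er_neg hr (ng ⟨r, hr⟩) rfl, Finset.sum_eq_single i]
      · have h7 := cor_simple i.val i.2 i.val i.2
        rw [if_pos rfl] at h7
        rw [hrd, h7, Int.cast_one, one_smul]
      · intro j _ hj
        have h7 := cor_simple i.val i.2 j.val j.2
        rw [if_neg (fun h' => hj (Fin.ext h'))] at h7
        rw [hrd, h7, Int.cast_zero, zero_smul]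
      · intro h; exact absurd (Finset.mem_univ _) h
    rw [h3, h6, map_neg, LinearMap.neg_apply, her, neg_zero, add_zero] at h1
    exact h1
  rw [← kf_rad h2]
  intro x
  have hx : x = (∑ i : Fin chevE7.rank, x (Sum.inl i) • eh F i) + ∑ s : Fin chevE7.nroots, x (Sum.inr s) • er F s := by
    funext a
    rw [Pi.add_apply, Finset.sum_apply, Finset.sum_apply]
    simp only [Pi.smul_apply, smul_eq_mul, eh, er]
    rcases a with i | s
    · rw [Finset.sum_eq_single i, Pi.single_eq_same, mul_one, Finset.sum_eq_zero, add_zero]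
      · intro s _
        rw [Pi.single_eq_of_ne (by simp), mul_zero]
      · intro j _ hj
        rw [Pi.single_eq_of_ne (by simp [Ne.symm hj]), mul_zero]
      · intro h; exact absurd (Finset.mem_univ _) h
    · rw [Finset.sum_eq_zero, zero_add, Finset.sum_eq_single s, Pi.single_eq_same, mul_one]
      · intro j _ hj
        rw [Pi.single_eq_of_ne (by simp [Ne.symm hj]), mul_zero]
      · intro h; exact absurd (Finset.mem_univ _) h
      · intro j _
        rw [Pi.single_eq_of_ne (by simp), mul_zero]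
  rw [hx, map_add, LinearMap.add_apply, map_sum, map_sum, LinearMap.sum_apply, LinearMap.sum_apply,
    Finset.sum_eq_zero, Finset.sum_eq_zero, add_zero]
  · intro s _
    rw [map_smul, LinearMap.smul_apply, her, smul_zero]
  · intro i _
    rw [map_smul, LinearMap.smul_apply, heh, smul_zero]

end Cfsg.Agent.R2.T1.N6D
end

-- part: R2/T1/N6D/Fix
section
prune_inst 0x4253004000022000000180506020000400000000200400000014003000a400042200300010860001200189cc04000004000000030406000000400040000040100088112023040a100200016000000000000000000000000000000000000000000000000000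
set_option linter.all false
open scoped Cfsg.Agent.FastGrp

-- part: R2/T1/N6D/Gen
section
/-!
# S5929, `n = 6`, `p = 2`: linear algebra (helper25)

* `exists_rep` : functionals vanishing on the radical of a form are represented by vectors;
* `ev_quot` : the fixed space of an element of order prime to the characteristic on a quotient.
-/

set_option autoImplicit false

namespace Cfsg.Agent.R2.T1.N6D

open Module
open Cfsg.Agent.H952.F4 (ev)

universe u v

section rep
variable {F : Type u} [Field F] {M : Type v} [AddCommGroup M] [Module F M] [FiniteDimensional F M]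

/-- functionals which vanish on the radical are represented by vectors -/
theorem exists_rep (B : M →ₗ[F] M →ₗ[F] F) {Z : Submodule F M} (hZ : ∀ y, (∀ x, B x y = 0) ↔ y ∈ Z)
    (hs : ∀ x y, B x y = 0 → B y x = 0) (f : Module.Dual F M) (hf : ∀ z ∈ Z, f z = 0) : ∃ y, ∀ x, f x = B x y := by
  have hker : LinearMap.ker B.flip = Z := by
    ext y
    rw [LinearMap.mem_ker, ← hZ]
    constructor
    · intro h x
      have h1 := LinearMap.congr_fun h x
      rwa [LinearMap.flip_apply] at h1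
    · intro h
      refine LinearMap.ext fun x => ?_
      rw [LinearMap.flip_apply]
      exact h x
  have hle : LinearMap.range B.flip ≤ Z.dualAnnihilator := by
    rintro _ ⟨y, rfl⟩
    rw [Submodule.mem_dualAnnihilator]
    intro z hz
    rw [LinearMap.flip_apply]
    exact hs _ _ ((hZ z).2 hz y)
  have h1 := LinearMap.finrank_range_add_finrank_ker B.flip
  have h2 : finrank F Z + finrank F ↥(Z.dualAnnihilator) = finrank F M := Subspace.finrank_add_finrank_dualAnnihilator_eq Z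
  rw [hker] at h1
  have heq : LinearMap.range B.flip = Z.dualAnnihilator := by
    refine Submodule.eq_of_le_of_finrank_eq hle ?_
    have h3 : finrank F ↥(LinearMap.range B.flip) + finrank F Z = finrank F ↥(Z.dualAnnihilator) + finrank F Z := by
      rw [h1, add_comm, h2]
    exact Nat.add_right_cancel h3
  have h3 : f ∈ LinearMap.range B.flip := by
    rw [heq, Submodule.mem_dualAnnihilator]
    exact hf
  obtain ⟨y, hy⟩ := h3
  exact ⟨y, fun x => by rw [← hy, LinearMap.flip_apply]⟩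

omit [FiniteDimensional F M] in
/-- the average -/
theorem exists_avg {N : ℕ} (hN : (N : F) ≠ 0) {T : Module.End F M} (hT : T ^ N = 1) {Z : Submodule F M} {m : M}
    (h : T m - m ∈ Z) (hZ : ∀ z ∈ Z, T z ∈ Z) : ∃ m', T m' = m' ∧ m' - m ∈ Z := by
  have hpow : ∀ n : ℕ, (T ^ n) m - m ∈ Z := by
    intro n
    induction n with
    | zero => rw [pow_zero, Module.End.one_apply, sub_self]; exact Z.zero_mem
    | succ n ih =>
      have h1 := hZ _ ih
      have h2 : (T ^ (n + 1)) m - m = T ((T ^ n) m - m) + (T m - m) := by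
        rw [pow_succ', Module.End.mul_apply, map_sub]
        abel
      rw [h2]
      exact Z.add_mem h1 h
  have hN0 : N ≠ 0 := by
    rintro rfl
    exact hN Nat.cast_zero
  refine ⟨(N : F)⁻¹ • ∑ n ∈ Finset.range N, (T ^ n) m, ?_, ?_⟩
  · rw [map_smul, map_sum]
    congr 1
    have h1 : ∀ n, T ((T ^ n) m) = (T ^ (n + 1)) m := fun n => by rw [pow_succ', Module.End.mul_apply]
    simp only [h1]
    have h2 := Finset.sum_range_succ' (fun n => (T ^ n) m) N
    rw [Finset.sum_range_succ, hT, pow_zero] at h2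
    exact (add_right_cancel h2).symm
  · have h1 : m = (N : F)⁻¹ • ∑ n ∈ Finset.range N, m := by
      rw [Finset.sum_const, Finset.card_range, ← Nat.cast_smul_eq_nsmul F, smul_smul, inv_mul_cancel₀ hN, one_smul]
    nth_rewrite 2 [h1]
    rw [← smul_sub, ← Finset.sum_sub_distrib]
    exact Z.smul_mem _ (Z.sum_mem fun n _ => hpow n)

/-- **the fixed space on a quotient by fixed vectors** -/
theorem ev_quot {N : ℕ} (hN : (N : F) ≠ 0) {T : Module.End F M} (hT : T ^ N = 1) {Z : Submodule F M}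
    (hZ : ∀ z ∈ Z, T z = z) {T' : Module.End F (M ⧸ Z)} (hT' : ∀ m, T' (Submodule.Quotient.mk m) = Submodule.Quotient.mk (T m)) :
    ev T 1 = ev T' 1 + finrank F Z := by
  have hmap : (Module.End.eigenspace T 1).map Z.mkQ = Module.End.eigenspace T' 1 := by
    ext m
    rw [Module.End.mem_eigenspace_iff, one_smul, Submodule.mem_map]
    constructor
    · rintro ⟨w, hw, rfl⟩
      rw [Module.End.mem_eigenspace_iff, one_smul] at hw
      rw [Submodule.mkQ_apply, hT', hw]
    · intro hm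
      obtain ⟨w, rfl⟩ := Submodule.Quotient.mk_surjective Z m
      rw [hT', Submodule.Quotient.eq] at hm
      obtain ⟨w', h1, h2⟩ := exists_avg hN hT hm fun z hz => by rw [hZ z hz]; exact hz
      refine ⟨w', ?_, ?_⟩
      · rw [Module.End.mem_eigenspace_iff, one_smul]
        exact h1
      · rw [Submodule.mkQ_apply, Submodule.Quotient.eq]
        exact h2
  have hle : Z ≤ Module.End.eigenspace T 1 := by
    intro z hz
    rw [Module.End.mem_eigenspace_iff, one_smul]
    exact hZ z hz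
  have h1 := LinearMap.finrank_range_add_finrank_ker (Z.mkQ.domRestrict (Module.End.eigenspace T 1))
  have h2 : LinearMap.range (Z.mkQ.domRestrict (Module.End.eigenspace T 1)) = Module.End.eigenspace T' 1 := by
    rw [← hmap]
    ext m
    rw [LinearMap.mem_range, Submodule.mem_map]
    constructor
    · rintro ⟨w, rfl⟩
      exact ⟨w.1, w.2, rfl⟩
    · rintro ⟨w, hw, rfl⟩
      exact ⟨⟨w, hw⟩, rfl⟩
  have h3 : LinearMap.ker (Z.mkQ.domRestrict (Module.End.eigenspace T 1)) = Z.comap (Module.End.eigenspace T 1).subtype := by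
    ext w
    rw [LinearMap.mem_ker, LinearMap.domRestrict_apply, Submodule.mkQ_apply, Submodule.Quotient.mk_eq_zero,
      Submodule.mem_comap]
    rfl
  have h4 : finrank F (Z.comap (Module.End.eigenspace T 1).subtype) = finrank F Z :=
    LinearEquiv.finrank_eq (Submodule.comapSubtypeEquivOfLe hle)
  rw [h2, h3, h4] at h1
  exact h1.symm

end rep

end Cfsg.Agent.R2.T1.N6D
end

-- part: R2/T1/N6D/Fix
section
/-!
# S5929, `n = 6`, `p = 2`: fixed points modulo the centre (helper25)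

* `WX ψ` : the elements of the adjoint module fixed by `A_n` modulo the centre;
* `exists_H` : if there are non-central ones, there are non-central elements fixed by `H` modulo the centre.
-/

set_option autoImplicit false
set_option maxRecDepth 100000

namespace Cfsg.Agent.R2.T1.N6D

open Cfsg Cfsg.Lie Module
open Cfsg.Agent.H943.E7V.Block (D1 rho)
open Cfsg.Agent.H952.F4 (ev MaxAlt)
open Cfsg.Agent.R2.T1

universe u

variable {F : Type u} [Field F] {n : ℕ} {H : Subgroup ↥(chevE7.group F)}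
  {φ : ↥(alternatingGroup (Fin n)) →* ↥(chevE7.group F)} {ψ : ↥(alternatingGroup (Fin n)) →* Gh F}

theorem L_Z (g : Gh F) {z : chevE7.Idx → F} (hz : z ∈ Zc F) : L F g z ∈ Zc F := by
  rw [L_of_mem hz g]
  exact hz

/-- the elements of the adjoint module fixed by `A_n` modulo the centre -/
noncomputable def WX (ψ : ↥(alternatingGroup (Fin n)) →* Gh F) : Submodule F (chevE7.Idx → F) where
  carrier := {v | ∀ a, L F (ψ a) v - v ∈ Zc F}
  zero_mem' := fun a => by
    rw [map_zero, sub_self]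
    exact (Zc F).zero_mem
  add_mem' := by
    intro v w hv hw a
    have h : L F (ψ a) (v + w) - (v + w) = (L F (ψ a) v - v) + (L F (ψ a) w - w) := by
      rw [map_add]
      abel
    rw [h]
    exact (Zc F).add_mem (hv a) (hw a)
  smul_mem' := by
    intro c v hv a
    rw [map_smul, ← smul_sub]
    exact (Zc F).smul_mem c (hv a)

theorem L_range (hψ : Lift φ ψ) {x : Gh F} (hx : ad F x ∈ φ.range) {v : chevE7.Idx → F} (hv : v ∈ WX ψ) :
    L F x v - v ∈ Zc F := by
  obtain ⟨b, hb⟩ := hx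
  have h1 : L F x = L F (ψ b) := by rw [L_eq, L_eq, hψ, hb]
  rw [h1]
  exact hv b

theorem L_mul (g k : Gh F) (v : chevE7.Idx → F) : L F (g * k) v = L F g (L F k v) := by
  rw [map_mul, Module.End.mul_apply]

theorem WX_stable (hM : MaxAlt H n φ) (hψ : Lift φ ψ) {g : Gh F} (hg : ad F g ∈ H) {v : chevE7.Idx → F} (hv : v ∈ WX ψ) :
    L F g v ∈ WX ψ := by
  intro a
  have h1 : ad F (g⁻¹ * ψ a * g) ∈ φ.range := by
    rw [map_mul, map_mul, map_inv, hψ]
    have := hM.norm (ad F g)⁻¹ (inv_mem hg) (φ a) ⟨a, rfl⟩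
    rwa [inv_inv] at this
  have h2 := L_Z g (L_range hψ h1 hv)
  have h3 : L F g (L F (g⁻¹ * ψ a * g) v - v) = L F (ψ a) (L F g v) - L F g v := by
    rw [map_sub, ← L_mul, ← L_mul]
    congr 3
    group
  rwa [h3] at h2

/-- the commutators of `H` are in `A_n` -/
theorem comm_mem' (hM : MaxAlt H n φ) {h k : ↥(chevE7.group F)} (hh : h ∈ H) (hk : k ∈ H) :
    h⁻¹ * k⁻¹ * h * k ∈ φ.range := by
  have e : h⁻¹ * k⁻¹ * h * k = (h * h)⁻¹ * ((h * k⁻¹) * (h * k⁻¹)) * (k * k) := by group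
  rw [e]
  exact mul_mem (mul_mem (inv_mem (hM.sq h hh)) (hM.sq _ (mul_mem hh (inv_mem hk)))) (hM.sq k hk)

theorem exists_H (hM : MaxAlt H n φ) (hψ : Lift φ ψ) (h2 : (2 : F) = 0) (hne : ∃ v ∈ WX ψ, v ∉ Zc F) :
    ∃ v, v ∉ Zc F ∧ ∀ g : Gh F, ad F g ∈ H → L F g v - v ∈ Zc F := by
  have key : ∀ (k : ℕ) (U : Submodule F (chevE7.Idx → F)), finrank F U ≤ k → U ≤ WX ψ → (∃ v ∈ U, v ∉ Zc F) →
      (∀ g : Gh F, ad F g ∈ H → ∀ v ∈ U, L F g v ∈ U) →
      ∃ v, v ∉ Zc F ∧ ∀ g : Gh F, ad F g ∈ H → L F g v - v ∈ Zc F := by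
    intro k
    induction k with
    | zero =>
      intro U hk _ hv _
      obtain ⟨v, hv, hvZ⟩ := hv
      exfalso
      have h1 : U = ⊥ := Submodule.finrank_eq_zero.1 (Nat.le_zero.1 hk)
      rw [h1, Submodule.mem_bot] at hv
      rw [hv] at hvZ
      exact hvZ (Zc F).zero_mem
    | succ k ih =>
      intro U hk hU hv hst
      by_cases hall : ∀ g : Gh F, ad F g ∈ H → ∀ v ∈ U, L F g v - v ∈ Zc F
      · obtain ⟨v, hv, hvZ⟩ := hv
        exact ⟨v, hvZ, fun g hg => hall g hg v hv⟩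
      push Not at hall
      obtain ⟨g, hg, v, hv, hvZ⟩ := hall
      let U' : Submodule F (chevE7.Idx → F) := U ⊓ (Zc F).comap (L F g - 1)
      have memU' : ∀ w, w ∈ U' ↔ w ∈ U ∧ L F g w - w ∈ Zc F := fun w => Iff.rfl
      refine ih U' ?_ (inf_le_left.trans hU) ⟨L F g v - v, ?_, hvZ⟩ ?_
      · have hlt : U' < U := by
          refine lt_of_le_of_ne inf_le_left fun h => hvZ ?_
          rw [← h] at hv
          exact ((memU' v).1 hv).2
        have := Submodule.finrank_lt_finrank_of_lt hlt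
        omega
      · rw [memU']
        refine ⟨U.sub_mem (hst g hg v hv) hv, ?_⟩
        have h1 : L F g (L F g v - v) - (L F g v - v) = (L F (g * g) v - v) - (2 : F) • (L F g v - v) := by
          rw [map_sub, ← L_mul, two_smul]
          abel
        rw [h1, h2, zero_smul, sub_zero]
        refine L_range hψ ?_ (hU hv)
        rw [map_mul]
        exact hM.sq _ hg
      · intro l hl w hw
        obtain ⟨hw1, hw2⟩ := (memU' w).1 hw
        rw [memU']
        refine ⟨hst l hl w hw1, ?_⟩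
        -- `g l w = l g c w` with `c` in `A_n`
        have hc : ad F (g⁻¹ * l⁻¹ * g * l) ∈ φ.range := by
          rw [map_mul, map_mul, map_mul, map_inv, map_inv]
          exact comm_mem' hM hg hl
        have h1 := L_range hψ hc (hU hw1)
        have h3 : L F g (L F l w) - L F l w = L F l (L F g (L F (g⁻¹ * l⁻¹ * g * l) w - w)) + L F l (L F g w - w) := by
          rw [map_sub, map_sub, map_sub, ← L_mul, ← L_mul, ← L_mul, ← L_mul]
          have e : l * g * (g⁻¹ * l⁻¹ * g * l) = g * l := by group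
          rw [e]
          abel
        rw [h3]
        exact (Zc F).add_mem (L_Z l (L_Z g h1)) (L_Z l hw2)
  exact key _ (WX ψ) le_rfl le_rfl hne fun g hg v hv => WX_stable hM hψ hg hv

end Cfsg.Agent.R2.T1.N6D
end
end

-- part: R2/T1/N6D/Two
section
prune_inst 0x25204400006200000000050400000020480000000000000088400a04020080420000000124a00002000a84002000004001000030424000000e00000000000000880052003240a000240011000080000000000000000000000000000000000000000000000
set_option linter.all false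
open scoped Cfsg.Agent.FastGrp

/-!
# S5929, `n = 6`, `p = 2`: fixed points of `H` on the adjoint module modulo the centre (helper25)

* `Ineq F a b c` : the inequality for the modules of `A₆` in characteristic 2 without trivial sub- and quotient modules;
* `exists_fix` : `4 ∣ |F|`..., `|H| ≤ 720`, and `H` fixes a non-central element of the adjoint module modulo the centre.
-/

set_option autoImplicit false
set_option maxRecDepth 100000

namespace Cfsg.Agent.R2.T1.N6D

open Cfsg Cfsg.Lie Module Equiv Equiv.Perm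
open Cfsg.Agent.H943.E7V.Block (D1 rho)
open Cfsg.Agent.H952.F4 (ev MaxAlt)
open Cfsg.Agent.R2.T1

universe u v

/-- the inequality for the modules of `A₆` in characteristic 2 -/
def Ineq (F : Type u) [Field F] (a b c : ↥(alternatingGroup (Fin 6))) : Prop :=
  ∀ (M : Type u) [AddCommGroup M] [Module F M] [FiniteDimensional F M]
    (ρ : Representation F ↥(alternatingGroup (Fin 6)) M), ρ.invariants = ⊥ →
    (∀ f : Module.Dual F M, (∀ g m, f (ρ g m) = f m) → f = 0) →
    4 * (ev (ρ a) 1 + ev (ρ b) 1) + 12 * ev (ρ c) 1 ≤ 5 * finrank F M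

/-- the dimension of the fixed space of the Sylow 3-subgroup is nonnegative -/
def Low (F : Type u) [Field F] (a b : ↥(alternatingGroup (Fin 6))) : Prop :=
  ∀ (M : Type u) [AddCommGroup M] [Module F M] [FiniteDimensional F M]
    (ρ : Representation F ↥(alternatingGroup (Fin 6)) M), finrank F M ≤ 2 * (ev (ρ a) 1 + ev (ρ b) 1)

section
variable {F : Type u} [Field F]

theorem ad_inj (h2 : (2 : F) = 0) : Function.Injective (ad F) := by
  rw [← MonoidHom.ker_eq_bot_iff, eq_bot_iff]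
  intro z hz
  rw [MonoidHom.mem_ker] at hz
  rw [Subgroup.mem_bot]
  rcases ad_eq_one_iff.1 hz with h | h
  · exact faithful h
  · apply faithful
    rw [h]
    refine LinearMap.ext fun v => ?_
    show -v = v
    funext s
    show -(v s) = v s
    linear_combination (-(v s)) * h2

/-- the module of degree 132 -/
noncomputable def Lq (F : Type u) [Field F] : Representation F (Gh F) ((chevE7.Idx → F) ⧸ Zc F) :=
  (L F).quotient (Zc F) fun g z hz => by
    rw [Submodule.mem_comap]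
    exact L_Z g hz

theorem Lq_mk (g : Gh F) (v : chevE7.Idx → F) :
    Lq F g (Submodule.Quotient.mk v) = Submodule.Quotient.mk (L F g v) := rfl

theorem finrank_Lq (h2 : (2 : F) = 0) : finrank F ((chevE7.Idx → F) ⧸ Zc F) = 132 := by
  have h1 := Submodule.finrank_quotient_add_finrank (Zc F)
  rw [finrank_Zc h2, finrank_L] at h1
  omega

theorem ev_Lq (h2 : (2 : F) = 0) {N : ℕ} (hN : (N : F) ≠ 0) {x : Gh F} (hx : x ^ N = 1) :
    ev (L F x) 1 = ev (Lq F x) 1 + 1 := by
  rw [← finrank_Zc h2]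
  refine ev_quot hN (T := L F x) (T' := Lq F x) ?_ (fun z hz => L_of_mem hz x) fun m => Lq_mk x m
  rw [← map_pow, hx, map_one]

variable {H : Subgroup ↥(chevE7.group F)}
  {φ : ↥(alternatingGroup (Fin 6)) →* ↥(chevE7.group F)} {ψ : ↥(alternatingGroup (Fin 6)) →* Gh F}

/-- the inequality on the module of degree 132 -/
theorem ineqL (h2 : (2 : F) = 0) {a b c : ↥(alternatingGroup (Fin 6))} (hI : Ineq F a b c)
    (hW : ∀ v ∈ WX ψ, v ∈ Zc F) :
    4 * (ev (Lq F (ψ a)) 1 + ev (Lq F (ψ b)) 1) + 12 * ev (Lq F (ψ c)) 1 ≤ 660 := by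
  have h1 := hI ((chevE7.Idx → F) ⧸ Zc F) (MonoidHom.comp (Lq F) ψ) ?_ ?_
  · rw [finrank_Lq h2] at h1
    exact h1
  · rw [eq_bot_iff]
    intro m hm
    rw [Representation.mem_invariants] at hm
    obtain ⟨v, rfl⟩ := Submodule.Quotient.mk_surjective (Zc F) m
    rw [Submodule.mem_bot, Submodule.Quotient.mk_eq_zero]
    refine hW v fun g => ?_
    have h3 := hm g
    rw [MonoidHom.comp_apply, Lq_mk, Submodule.Quotient.eq] at h3
    exact h3
  · intro f hf
    obtain ⟨y, hy⟩ := exists_rep (kf F) (Z := Zc F) (fun y => kf_rad h2) (fun x y h => by rw [kf_comm]; exact h)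
      (f.comp (Zc F).mkQ) (fun z hz => by
        rw [LinearMap.comp_apply, Submodule.mkQ_apply, (Submodule.Quotient.mk_eq_zero _).2 hz, map_zero])
    have hyW : y ∈ WX ψ := by
      intro g
      rw [← kf_rad h2]
      intro x
      rw [map_sub, sub_eq_zero]
      have h3 := hf g⁻¹ (Submodule.Quotient.mk x)
      rw [MonoidHom.comp_apply, Lq_mk] at h3
      have h4 := hy (L F (ψ g⁻¹) x)
      have h5 := hy x
      rw [LinearMap.comp_apply, Submodule.mkQ_apply] at h4 h5
      rw [h3, h5] at h4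
      rw [h4]
      have h6 := kf_L (ψ g) (L F (ψ g⁻¹) x) y
      rw [← h6, ← L_mul, ← map_mul, mul_inv_cancel, map_one, map_one, Module.End.one_apply]
    have hyZ := hW y hyW
    refine LinearMap.ext fun m => ?_
    obtain ⟨v, rfl⟩ := Submodule.Quotient.mk_surjective (Zc F) m
    have h5 := hy v
    rw [LinearMap.comp_apply, Submodule.mkQ_apply] at h5
    rw [h5, (kf_rad h2).2 hyZ v, LinearMap.zero_apply]

/-- the functionals on `V` -/
theorem dualV (h : Representation.invariants (MonoidHom.comp (V F) ψ) = ⊥) (f : Module.Dual F (D1 → F))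
    (hf : ∀ g m, f (MonoidHom.comp (V F) ψ g m) = f m) : f = 0 := by
  obtain ⟨y, hy⟩ := exists_rep (sf F) (Z := ⊥) (fun y => by
    rw [Submodule.mem_bot]
    constructor
    · exact sf_nondeg
    · rintro rfl x
      rw [map_zero]) (fun x y h => by rw [sf_swap, h, neg_zero]) f (fun z hz => by
        rw [(Submodule.mem_bot _).1 hz, map_zero])
  have hy0 : y ∈ Representation.invariants (MonoidHom.comp (V F) ψ) := by
    rw [Representation.mem_invariants]
    intro g
    rw [MonoidHom.comp_apply, ← sub_eq_zero]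
    refine sf_nondeg fun x => ?_
    rw [map_sub, sub_eq_zero]
    have h3 := hf g⁻¹ x
    rw [hy, hy] at h3
    rw [← h3, MonoidHom.comp_apply]
    have h6 := sf_V (ψ g) (V F (ψ g⁻¹) x) y
    rw [← h6, ← V_mul, ← map_mul, mul_inv_cancel, map_one, V_one]
  rw [h, Submodule.mem_bot] at hy0
  refine LinearMap.ext fun v => ?_
  rw [hy, hy0, map_zero, LinearMap.zero_apply]

variable [Finite F]

/-- the inequality on the module of degree 56 -/
theorem ineqV (hM : MaxAlt H 6 φ) (hψ : Lift φ ψ) {a b c : ↥(alternatingGroup (Fin 6))} (hI : Ineq F a b c) :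
    4 * (ev (V F (ψ a)) 1 + ev (V F (ψ b)) 1) + 12 * ev (V F (ψ c)) 1 ≤ 280 := by
  have h0 := no_fixed hM (by norm_num) (by norm_num) hψ
  have h1 := hI (D1 → F) (MonoidHom.comp (V F) ψ) h0 (dualV h0)
  rw [finrank_V] at h1
  exact h1

omit [Finite F] in
theorem lift_inj (hM : MaxAlt H 6 φ) (hψ : Lift φ ψ) {a : ↥(alternatingGroup (Fin 6))} (ha : a ≠ 1) : ψ a ≠ 1 := by
  intro h
  apply ha
  apply hM.inj
  rw [map_one, ← hψ, h, map_one]

omit [Finite F] in
theorem odd_ne (h2 : (2 : F) = 0) {N : ℕ} (hN : Odd N) : ((N : ℕ) : F) ≠ 0 := by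
  obtain ⟨m, rfl⟩ := hN
  rw [Nat.cast_add, Nat.cast_mul, Nat.cast_ofNat, h2, zero_mul, zero_add, Nat.cast_one]
  exact one_ne_zero

/-- **`A₆` fixes a non-central element modulo the centre** -/
theorem exists_WX (hM : MaxAlt H 6 φ) (hψ : Lift φ ψ) (h2 : (2 : F) = 0) {a b c : ↥(alternatingGroup (Fin 6))}
    (ha : a ^ 3 = 1) (hb : b ^ 3 = 1) (hc : c ^ 5 = 1) (ha1 : a ≠ 1) (hb1 : b ≠ 1) (hc1 : c ≠ 1)
    (hI : Ineq F a b c) : ∃ v ∈ WX ψ, v ∉ Zc F := by
  by_contra hcon
  push Not at hcon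
  have iV := ineqV hM hψ hI
  have iL := ineqL h2 hI hcon
  have h3 : (3 : F) ≠ 0 := by exact_mod_cast odd_ne h2 (N := 3) (by decide)
  have h5 : (5 : F) ≠ 0 := by exact_mod_cast odd_ne h2 (N := 5) (by decide)
  have hA : ψ a ^ 3 = 1 := by rw [← map_pow, ha, map_one]
  have hB : ψ b ^ 3 = 1 := by rw [← map_pow, hb, map_one]
  have hC : ψ c ^ 5 = 1 := by rw [← map_pow, hc, map_one]
  have eA := ev_Lq h2 (N := 3) (by exact_mod_cast h3) hA
  have eB := ev_Lq h2 (N := 3) (by exact_mod_cast h3) hB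
  have eC := ev_Lq h2 (N := 5) (by exact_mod_cast h5) hC
  have tA := three h3 hA (lift_inj hM hψ ha1)
  have tB := three h3 hB (lift_inj hM hψ hb1)
  obtain ⟨P, hP, p1, p2, -⟩ := patF5 h5 hC
  have key : ∀ P ∈ T5, P.1.getD 0 0 = 56 ∨ (P.1.getD 0 0 = 12 ∧ P.2.getD 0 0 = 27) ∨ 29 ≤ P.2.getD 0 0 := by decide
  rcases key P hP with h | h | h
  · rw [h] at p1
    exact lift_inj hM hψ hc1 (eq_one_of_ev p1)
  · rw [h.1] at p1
    rw [h.2] at p2
    omega
  · omega

/-- **elements of order 5** -/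
theorem five_tau (hM : MaxAlt H 6 φ) (hψ : Lift φ ψ) (h2 : (2 : F) = 0) {a b c : ↥(alternatingGroup (Fin 6))}
    (hc : c ^ 5 = 1) (hc1 : c ≠ 1) (hI : Ineq F a b c) (hl : Low F a b) :
    ∃ (τ : F) (m1 m2 : ℕ), τ * τ + τ - 1 = 0 ∧ m1 ≠ m2 ∧
      finrank F ↥(LinearMap.ker (Five.qd τ (V F (ψ c)))) = 2 * m1 ∧
      finrank F ↥(LinearMap.ker (Five.qd (-1 - τ) (V F (ψ c)))) = 2 * m2 := by
  have iV := ineqV hM hψ hI
  have lV := hl (D1 → F) (MonoidHom.comp (V F) ψ)
  rw [finrank_V, MonoidHom.comp_apply, MonoidHom.comp_apply] at lV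
  have h5 : (5 : F) ≠ 0 := by exact_mod_cast odd_ne h2 (N := 5) (by decide)
  have hC : ψ c ^ 5 = 1 := by rw [← map_pow, hc, map_one]
  obtain ⟨P, hP, p1, -, h3⟩ := patF5 h5 hC
  have key : ∀ P ∈ T5, P.1.getD 0 0 = 56 ∨ 16 ≤ P.1.getD 0 0 ∨ P.1.getD 1 0 ≠ P.1.getD 2 0 := by decide
  rcases key P hP with h | h | h
  · rw [h] at p1
    exact absurd (eq_one_of_ev p1) (lift_inj hM hψ hc1)
  · omega
  · rcases h3 with ⟨h4, -⟩ | ⟨τ, h4, h6, -, h7, -⟩
    · exact absurd h4 h
    · exact ⟨τ, _, _, h4, h, h6, h7⟩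

omit [Finite F] in
theorem ker_qd_le {M : Type v} [AddCommGroup M] [Module F M] (t : F) (T : Module.End F M) :
    LinearMap.ker (Five.qd t T) ≤ LinearMap.ker (Five.qd (t * t - 2) (T * T)) := by
  intro u hu
  rw [Five.mem_ker_qd] at hu ⊢
  have h3 : T (T (T u)) = t • T (T u) - T u := by rw [hu, map_sub, map_smul, hu]
  have h4 : T (T (T (T u))) = t • T (T (T u)) - T (T u) := by rw [h3, map_sub, map_smul, h3]
  rw [Module.End.mul_apply, Module.End.mul_apply, h4, h3, hu]
  module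

omit [Finite F] in
theorem qd_conj (g x : Gh F) (t : F) : finrank F ↥(LinearMap.ker (Five.qd t (V F (g * x * g⁻¹)))) =
    finrank F ↥(LinearMap.ker (Five.qd t (V F x))) := by
  have hmap : (LinearMap.ker (Five.qd t (V F x))).map (V F g) = LinearMap.ker (Five.qd t (V F (g * x * g⁻¹))) := by
    ext u
    rw [Submodule.mem_map]
    constructor
    · rintro ⟨w, hw, rfl⟩
      rw [Five.mem_ker_qd] at hw ⊢
      have h1 : ∀ w, V F (g * x * g⁻¹) (V F g w) = V F g (V F x w) := by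
        intro w
        rw [← V_mul, ← V_mul]
        congr 2
        group
      rw [h1, h1, hw, map_sub, map_smul]
    · intro hu
      refine ⟨V F g⁻¹ u, ?_, V_inv' g u⟩
      rw [Five.mem_ker_qd] at hu ⊢
      have h1 : ∀ w, V F x (V F g⁻¹ w) = V F g⁻¹ (V F (g * x * g⁻¹) w) := by
        intro w
        rw [← V_mul, ← V_mul]
        congr 2
        group
      rw [h1, h1, hu, map_sub, map_smul]
  rw [← hmap]
  exact Five.finrank_map_inj (f := V F g) (fun a b h => by
    rw [← V_inv g a, ← V_inv g b, h]) _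

omit [Finite F] in
/-- fused elements of order 5 are rational -/
theorem fuse {τ : F} (hτ : τ * τ + τ - 1 = 0) {g x : Gh F} (h : g * x * g⁻¹ = x ^ 2) :
    finrank F ↥(LinearMap.ker (Five.qd τ (V F x))) = finrank F ↥(LinearMap.ker (Five.qd (-1 - τ) (V F x))) := by
  have e1 : τ * τ - 2 = -1 - τ := by linear_combination hτ
  have e2 : (-1 - τ) * (-1 - τ) - 2 = τ := by linear_combination hτ
  have h1 : V F x * V F x = V F (g * x * g⁻¹) := by rw [h, pow_two, map_mul]
  apply le_antisymm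
  · have h3 := Submodule.finrank_mono (ker_qd_le τ (V F x))
    rw [e1, h1, qd_conj] at h3
    exact h3
  · have h3 := Submodule.finrank_mono (ker_qd_le (-1 - τ) (V F x))
    rw [e2, h1, qd_conj] at h3
    exact h3

/-- the field has a primitive cube root of unity -/
theorem card_mod_three (h2 : (2 : F) = 0) {τ : F} (hτ : τ * τ + τ - 1 = 0) : Nat.card F % 3 = 1 := by
  have hτ0 : τ ≠ 0 := by
    rintro rfl
    rw [mul_zero, zero_add, zero_sub, neg_eq_zero] at hτ
    exact one_ne_zero hτ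
  have hτ1 : τ ≠ 1 := by
    rintro rfl
    rw [mul_one, add_sub_cancel_right] at hτ
    exact one_ne_zero hτ
  have h3 : τ ^ 3 = 1 := by linear_combination (τ - 1) * hτ + (τ - 1) * h2 + 0 * h2
  set u : Fˣ := Units.mk0 τ hτ0 with hu
  have ho : orderOf u = 3 := by
    apply orderOf_eq_prime
    · apply Units.ext
      rw [Units.val_pow_eq_pow_val, Units.val_one]
      exact h3
    · intro h
      exact hτ1 (congrArg Units.val h)
  have h4 : 3 ∣ Nat.card Fˣ := ho ▸ orderOf_dvd_natCard u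
  rw [Nat.card_units] at h4
  have h5 : 1 < Nat.card F := Finite.one_lt_card
  omega

open Cfsg.Agent.H952.F4.MaxA (z5' r4 z5'_sign r4_sign r4_conj z5'_pow z5'_ne)

/-- the 5-cycle -/
def z5 : ↥(alternatingGroup (Fin 6)) := ⟨z5', mem_alternatingGroup.2 z5'_sign⟩

theorem z5_pow : z5 ^ 5 = 1 := Subtype.ext z5'_pow

theorem z5_ne : z5 ≠ 1 := fun h => z5'_ne (congrArg Subtype.val h)

omit [Finite F] in
/-- no fusion of the elements of order 5 (only one element is needed) -/
theorem odd_of_z5 (hM : MaxAlt H 6 φ) (h5 : ∀ h ∈ H, h * φ z5 * h⁻¹ ≠ φ (z5 ^ 2)) : NoOdd H φ := by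
  intro h hh σ hσ hcon
  have ht : sign (r4 * σ⁻¹) = 1 := by rw [map_mul, map_inv, hσ, r4_sign]; decide
  set t : ↥(alternatingGroup (Fin 6)) := ⟨r4 * σ⁻¹, mem_alternatingGroup.2 ht⟩ with htd
  have hb : sign (σ * z5' * σ⁻¹) = 1 := by
    rw [map_mul, map_mul, map_inv, z5'_sign, mul_one, mul_inv_cancel]
  have h1 := hcon z5 ⟨σ * z5' * σ⁻¹, mem_alternatingGroup.2 hb⟩ rfl
  refine h5 (φ t * h) (mul_mem (hM.le ⟨t, rfl⟩) hh) ?_
  have h2 : t * ⟨σ * z5' * σ⁻¹, mem_alternatingGroup.2 hb⟩ * t⁻¹ = z5 ^ 2 := by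
    apply Subtype.ext
    show r4 * σ⁻¹ * (σ * z5' * σ⁻¹) * (r4 * σ⁻¹)⁻¹ = z5' ^ 2
    rw [← r4_conj]
    group
  rw [← h2, map_mul, map_mul, map_inv, ← h1]
  group

/-- **the field and the order of `H`** -/
theorem card_H (hM : MaxAlt H 6 φ) (hψ : Lift φ ψ) (h2 : (2 : F) = 0) {a b : ↥(alternatingGroup (Fin 6))}
    (hI : Ineq F a b z5) (hl : Low F a b) : Nat.card F % 3 = 1 ∧ Nat.card ↥H ≤ 720 := by
  obtain ⟨τ, m1, m2, hτ, hne, e1, e2⟩ := five_tau hM hψ h2 z5_pow z5_ne hI hl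
  refine ⟨card_mod_three h2 hτ, card_le_720 hM (odd_of_z5 hM fun h _ hcon => hne ?_)⟩
  obtain ⟨g, hg⟩ := ad_surjective h
  have h3 : g * ψ z5 * g⁻¹ = ψ z5 ^ 2 := by
    apply ad_inj h2
    rw [map_mul, map_mul, map_inv, hg, hψ, hcon, map_pow, map_pow, hψ]
  have h4 := fuse hτ h3
  rw [e1, e2] at h4
  omega

/-- **the fixed points of `H` on the adjoint module modulo the centre** -/
theorem exists_fix (hM : MaxAlt H 6 φ) (hψ : Lift φ ψ) (h2 : (2 : F) = 0) {a b : ↥(alternatingGroup (Fin 6))}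
    (ha : a ^ 3 = 1) (hb : b ^ 3 = 1) (ha1 : a ≠ 1) (hb1 : b ≠ 1) (hI : Ineq F a b z5) (hl : Low F a b) :
    Nat.card F % 3 = 1 ∧ Nat.card ↥H ≤ 720 ∧ ∃ v, v ∉ Zc F ∧ ∀ g : Gh F, ad F g ∈ H → L F g v - v ∈ Zc F := by
  obtain ⟨h3, h4⟩ := card_H hM hψ h2 hI hl
  exact ⟨h3, h4, exists_H hM hψ h2 (exists_WX hM hψ h2 ha hb z5_pow ha1 hb1 z5_ne hI)⟩

end

end Cfsg.Agent.R2.T1.N6D
end

-- part: R2/T1/N6D/NoU
section
prune_inst 0x425304440006200000000001602000004480001000000000088c00c040840a202000200003c900400808a90804008000001000030424000000e0004000004012088a952023250ad04140017800084000000000000000000000000000000000000000000000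
set_option linter.all false
open scoped Cfsg.Agent.FastGrp

-- part: R2/T1/N6D/Cert
section
/-!
# Certificates in the group algebra of `A₆` over the field of 4 elements (helper25)

A permutation of 6 points is coded by a number `< 6 ^ 6`, an element `a + b τ` of the field by `a + 2 b < 4`, a sum by a
number with `2 * 6 ^ 6` binary digits.

* `vec_zero` : if the relations `R i` annihilate `m` and the certificate checks, then `m = 0`.
-/

set_option autoImplicit false

namespace Cfsg.Agent.R2.T1.N6D.Ct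

open Module Equiv Equiv.Perm

universe u v

/-- the digits -/
def dg (c i : ℕ) : ℕ := c / 6 ^ i % 6

/-- the composition `s ∘ p` of codes -/
def act (p s : ℕ) : ℕ :=
  dg s (dg p 0) + 6 * (dg s (dg p 1) + 6 * (dg s (dg p 2) + 6 * (dg s (dg p 3) + 6 * (dg s (dg p 4) + 6 * dg s (dg p 5)))))

/-- products in the field of 4 elements -/
def mul4 (a b : ℕ) : ℕ :=
  match a with
  | 0 => 0
  | 1 => b
  | 2 => [0, 2, 3, 1].getD b 0
  | _ => [0, 3, 1, 2].getD b 0

/-- the decoding -/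
def dec (c : ℕ) : Fin 6 → Fin 6 := fun i => ⟨dg c i, Nat.mod_lt _ (by norm_num)⟩

theorem dg_lt (c i : ℕ) : dg c i < 6 := Nat.mod_lt _ (by norm_num)

theorem dec_act (p s : ℕ) : dec (act p s) = dec s ∘ dec p := by
  funext i
  apply Fin.ext
  show dg (act p s) i = dg s (dg p i)
  have h := fun i => dg_lt s (dg p i)
  have h0 := h 0
  have h1 := h 1
  have h2 := h 2
  have h3 := h 3
  have h4 := h 4
  have h5 := h 5
  obtain ⟨i, hi⟩ := i
  have key : ∀ k, k < 6 → dg (act p s) k = dg s (dg p k) := by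
    intro k hk
    have hd : dg (act p s) k = act p s / 6 ^ k % 6 := rfl
    rw [hd]
    unfold act
    rcases k with _ | _ | _ | _ | _ | _ | k
    · norm_num
      omega
    · norm_num
      omega
    · norm_num
      omega
    · norm_num
      omega
    · norm_num
      omega
    · norm_num
      omega
    · omega
  exact key i hi

/-- the sum as a number -/
def toX : List (ℕ × ℕ) → ℕ
  | [] => 0
  | e :: L => Nat.xor (Nat.shiftLeft e.2 (2 * e.1)) (toX L)

/-- the terms of `c * s * R` -/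
def trm (cn : ℕ → ℕ) (R : List (ℕ × ℕ)) (s c : ℕ) : List (ℕ × ℕ) := R.map fun e => (cn (act e.1 s), mul4 c e.2)

/-- the terms of the certificate -/
def trms (cn : ℕ → ℕ) (R C : List (ℕ × ℕ)) : List (ℕ × ℕ) := C.flatMap fun e => trm cn R e.1 e.2

/-- the bounds -/
def bnd (L : List (ℕ × ℕ)) : Bool := L.all fun e => Nat.blt e.1 46656 && Nat.blt e.2 4

section
variable {F : Type u} [Field F] {M : Type v} [AddCommGroup M] [Module F M]

/-- the elements of the field -/
def e4 (τ : F) (a : ℕ) : F := (if a.testBit 0 then 1 else 0) + (if a.testBit 1 then τ else 0)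

theorem e4_0 (τ : F) : e4 τ 0 = 0 := by simp [e4]
theorem e4_1 (τ : F) : e4 τ 1 = 1 := by
  unfold e4
  rw [if_pos (by decide), if_neg (by decide), add_zero]
theorem e4_2 (τ : F) : e4 τ 2 = τ := by
  unfold e4
  rw [if_neg (by decide), if_pos (by decide), zero_add]
theorem e4_3 (τ : F) : e4 τ 3 = 1 + τ := by
  unfold e4
  rw [if_pos (by decide), if_pos (by decide)]

theorem e4_mul4 (h2 : (2 : F) = 0) {τ : F} (hτ : τ * τ + τ - 1 = 0) {a b : ℕ} (ha : a < 4) (hb : b < 4) :
    e4 τ (mul4 a b) = e4 τ a * e4 τ b := by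
  interval_cases a <;> interval_cases b <;>
    [(show e4 τ 0 = _; simp only [e4_0, e4_1, e4_2, e4_3, zero_mul, mul_zero]); (show e4 τ 0 = _; simp only [e4_0, e4_1, e4_2, e4_3, zero_mul, mul_zero]);
     (show e4 τ 0 = _; simp only [e4_0, e4_1, e4_2, e4_3, zero_mul, mul_zero]); (show e4 τ 0 = _; simp only [e4_0, e4_1, e4_2, e4_3, zero_mul, mul_zero]);
     (show e4 τ 0 = _; simp only [e4_0, e4_1, e4_2, e4_3, zero_mul, mul_zero]); (show e4 τ 1 = _; simp only [e4_1, e4_2, e4_3]; (ring1));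
     (show e4 τ 2 = _; simp only [e4_1, e4_2, e4_3]; (ring1)); (show e4 τ 3 = _; simp only [e4_1, e4_2, e4_3]; (ring1));
     (show e4 τ 0 = _; simp only [e4_0, e4_1, e4_2, e4_3, zero_mul, mul_zero]); (show e4 τ 2 = _; simp only [e4_1, e4_2, e4_3]; (ring1));
     (show e4 τ 3 = _; simp only [e4_1, e4_2, e4_3]; ((linear_combination (-(1 : F)) * hτ + τ * h2)));
     (show e4 τ 1 = _; simp only [e4_1, e4_2, e4_3]; ((linear_combination (-(1 : F)) * hτ)));
     (show e4 τ 0 = _; simp only [e4_0, e4_1, e4_2, e4_3, zero_mul, mul_zero]); (show e4 τ 3 = _; simp only [e4_1, e4_2, e4_3]; (ring1));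
     (show e4 τ 1 = _; simp only [e4_1, e4_2, e4_3]; ((linear_combination (-(1 : F)) * hτ)));
     (show e4 τ 2 = _; simp only [e4_1, e4_2, e4_3]; ((linear_combination (-(1 : F)) * hτ - (1 : F) * h2)))]

/-- the value of a code -/
noncomputable def Phi (τ : F) (w : ℕ → M) (X : ℕ) : M :=
  ∑ c ∈ Finset.range 46656, ((if X.testBit (2 * c) then (1 : F) else 0) + (if X.testBit (2 * c + 1) then τ else 0)) • w c

theorem bx (h2 : (2 : F) = 0) (x : F) (a b : Bool) :
    (if (a ^^ b) = true then x else 0) = (if a = true then x else 0) + (if b = true then x else 0) := by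
  cases a <;> cases b
  · simp
  · simp
  · simp
  · simp only [Bool.xor_self, Bool.false_eq_true, if_false, if_true]
    linear_combination (-x) * h2

theorem Phi_xor (h2 : (2 : F) = 0) (τ : F) (w : ℕ → M) (X Y : ℕ) : Phi τ w (Nat.xor X Y) = Phi τ w X + Phi τ w Y := by
  unfold Phi
  rw [← Finset.sum_add_distrib]
  refine Finset.sum_congr rfl fun c _ => ?_
  rw [← add_smul]
  congr 1
  have h : ∀ i, (Nat.xor X Y).testBit i = (X.testBit i ^^ Y.testBit i) := fun i => Nat.testBit_xor ..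
  rw [h, h, bx h2, bx h2]
  ring

theorem Phi_single (τ : F) (w : ℕ → M) {a c : ℕ} (ha : a < 4) (hc : c < 46656) :
    Phi τ w (Nat.shiftLeft a (2 * c)) = e4 τ a • w c := by
  have h : ∀ i, (Nat.shiftLeft a (2 * c)).testBit i = (decide (i ≥ 2 * c) && a.testBit (i - 2 * c)) :=
    fun i => Nat.testBit_shiftLeft ..
  have hbig : ∀ i, 2 ≤ i → a.testBit i = false := by
    intro i hi
    apply Nat.testBit_lt_two_pow
    calc a < 2 ^ 2 := ha
      _ ≤ 2 ^ i := Nat.pow_le_pow_right (by norm_num) hi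
  unfold Phi
  rw [Finset.sum_eq_single c]
  · rw [h, h]
    have e1 : 2 * c - 2 * c = 0 := Nat.sub_self _
    have e2 : 2 * c + 1 - 2 * c = 1 := by omega
    rw [e1, e2, decide_eq_true (show 2 * c ≥ 2 * c from le_rfl), decide_eq_true (show 2 * c + 1 ≥ 2 * c by omega),
      Bool.true_and, Bool.true_and]
    rfl
  · intro d _ hd
    have h0 : ∀ j, j < 2 → (Nat.shiftLeft a (2 * c)).testBit (2 * d + j) = false := by
      intro j hj
      rw [h]
      rcases lt_or_gt_of_ne hd with h1 | h1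
      · rw [decide_eq_false (by omega), Bool.false_and]
      · rw [hbig _ (by omega), Bool.and_false]
    rw [show 2 * d = 2 * d + 0 from rfl, h0 0 (by norm_num), show 2 * d + 0 + 1 = 2 * d + 1 from rfl, h0 1 (by norm_num)]
    simp
  · intro hn
    exact absurd (Finset.mem_range.2 hc) hn

theorem sound (h2 : (2 : F) = 0) (τ : F) (w : ℕ → M) (L : List (ℕ × ℕ)) (hL : bnd L = true) :
    (L.map fun e => e4 τ e.2 • w e.1).sum = Phi τ w (toX L) := by
  induction L with
  | nil =>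
    show 0 = Phi τ w 0
    unfold Phi
    simp
  | cons e L ih =>
    unfold bnd at hL ih
    rw [List.all_cons, Bool.and_eq_true, Bool.and_eq_true, Nat.blt_eq, Nat.blt_eq] at hL
    rw [List.map_cons, List.sum_cons, ih hL.2]
    show _ = Phi τ w (Nat.xor (Nat.shiftLeft e.2 (2 * e.1)) (toX L))
    rw [Phi_xor h2, Phi_single τ w hL.1.2 hL.1.1]

open Classical in
/-- the operator of a function -/
noncomputable def U (ρ : Representation F ↥(alternatingGroup (Fin 6)) M) (s : Fin 6 → Fin 6) : Module.End F M :=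
  if h : ∃ σ : ↥(alternatingGroup (Fin 6)), ⇑(σ : Perm (Fin 6)) = s then ρ h.choose else 0

variable (ρ : Representation F ↥(alternatingGroup (Fin 6)) M)

theorem U_coe (σ : ↥(alternatingGroup (Fin 6))) : U ρ ⇑(σ : Perm (Fin 6)) = ρ σ := by
  have h : ∃ σ' : ↥(alternatingGroup (Fin 6)), ⇑(σ' : Perm (Fin 6)) = ⇑(σ : Perm (Fin 6)) := ⟨σ, rfl⟩
  unfold U
  rw [dif_pos h]
  congr 1
  apply Subtype.ext
  apply Equiv.coe_fn_injective
  exact h.choose_spec

/-- the code of an even permutation -/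
def InA (p : ℕ) (g : ↥(alternatingGroup (Fin 6))) : Prop := ⇑(g : Perm (Fin 6)) = dec p

theorem InA.act {p q : ℕ} {g h : ↥(alternatingGroup (Fin 6))} (hp : InA p g) (hq : InA q h) : InA (act p q) (h * g) := by
  unfold InA at *
  rw [dec_act, ← hp, ← hq]
  rfl

theorem U_InA {p : ℕ} {g : ↥(alternatingGroup (Fin 6))} (hp : InA p g) : U ρ (dec p) = ρ g := by
  rw [← U_coe, hp]

theorem U_act {p : ℕ} {g : ↥(alternatingGroup (Fin 6))} (hp : InA p g) (s : ℕ) :
    U ρ (dec (act p s)) = U ρ (dec s) * ρ g := by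
  rw [dec_act]
  by_cases hs : ∃ σ : ↥(alternatingGroup (Fin 6)), ⇑(σ : Perm (Fin 6)) = dec s
  · obtain ⟨σ, hσ⟩ := hs
    have h1 : dec s ∘ dec p = ⇑((σ * g : ↥(alternatingGroup (Fin 6))) : Perm (Fin 6)) := by
      rw [← hσ, ← hp]
      rfl
    rw [h1, U_coe, ← hσ, U_coe, map_mul]
  · have h1 : ¬ ∃ σ : ↥(alternatingGroup (Fin 6)), ⇑(σ : Perm (Fin 6)) = dec s ∘ dec p := by
      rintro ⟨σ, hσ⟩
      apply hs
      refine ⟨σ * g⁻¹, ?_⟩
      funext i
      show (σ : Perm (Fin 6)) (((g⁻¹ : ↥(alternatingGroup (Fin 6))) : Perm (Fin 6)) i) = dec s i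
      have h3 := congrFun hσ (((g⁻¹ : ↥(alternatingGroup (Fin 6))) : Perm (Fin 6)) i)
      rw [h3, Function.comp_apply, ← hp]
      congr 1
      rw [InvMemClass.coe_inv]
      exact Equiv.apply_symm_apply _ _
    unfold U
    rw [dif_neg h1, dif_neg hs, zero_mul]

/-- a relation -/
noncomputable def opR (τ : F) (R : List (ℕ × ℕ)) (m : M) : M := (R.map fun e => e4 τ e.2 • U ρ (dec e.1) m).sum

theorem trm_sum (h2 : (2 : F) = 0) {τ : F} (hτ : τ * τ + τ - 1 = 0) {m : M} {cn : ℕ → ℕ}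
    (hcn : ∀ c, U ρ (dec (cn c)) m = U ρ (dec c) m) (R : List (ℕ × ℕ)) (hR : ∀ e ∈ R, e.2 < 4 ∧ ∃ g, InA e.1 g)
    (s : ℕ) {c : ℕ} (hc : c < 4) :
    ((trm cn R s c).map fun e => e4 τ e.2 • U ρ (dec e.1) m).sum = e4 τ c • U ρ (dec s) (opR ρ τ R m) := by
  induction R with
  | nil =>
    show 0 = e4 τ c • U ρ (dec s) 0
    rw [map_zero, smul_zero]
  | cons e R ih =>
    obtain ⟨he, g, hg⟩ := hR e List.mem_cons_self
    have h1 := ih fun e' he' => hR e' (List.mem_cons_of_mem _ he')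
    unfold trm opR at *
    rw [List.map_cons, List.map_cons, List.sum_cons, h1, List.map_cons, List.sum_cons, map_add, smul_add]
    congr 1
    rw [hcn, U_act ρ hg, e4_mul4 h2 hτ hc he, U_InA ρ hg, map_smul, smul_smul, Module.End.mul_apply]

theorem trms_sum (h2 : (2 : F) = 0) {τ : F} (hτ : τ * τ + τ - 1 = 0) {m : M} {cn : ℕ → ℕ}
    (hcn : ∀ c, U ρ (dec (cn c)) m = U ρ (dec c) m) (R : List (ℕ × ℕ)) (hR : ∀ e ∈ R, e.2 < 4 ∧ ∃ g, InA e.1 g)
    (h0 : opR ρ τ R m = 0) (C : List (ℕ × ℕ)) (hC : ∀ e ∈ C, e.2 < 4) :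
    ((trms cn R C).map fun e => e4 τ e.2 • U ρ (dec e.1) m).sum = 0 := by
  induction C with
  | nil => rfl
  | cons e C ih =>
    have h1 : trms cn R (e :: C) = trm cn R e.1 e.2 ++ trms cn R C := rfl
    rw [h1, List.map_append, List.sum_append, ih fun e' he' => hC e' (List.mem_cons_of_mem _ he'),
      trm_sum ρ h2 hτ hcn R hR _ (hC e List.mem_cons_self), h0, map_zero, smul_zero, add_zero]

/-- the check of a certificate with two relations -/
def chk (cn : ℕ → ℕ) (R1 C1 R2 C2 : List (ℕ × ℕ)) (s0 : ℕ) : Bool :=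
  (C1.all fun e => Nat.blt e.2 4) && (C2.all fun e => Nat.blt e.2 4) && bnd (trms cn R1 C1 ++ trms cn R2 C2) &&
    Nat.blt s0 46656 && Nat.beq (toX (trms cn R1 C1 ++ trms cn R2 C2)) (Nat.shiftLeft 1 (2 * s0))

/-- **certificates** -/
theorem vec_zero (h2 : (2 : F) = 0) {τ : F} (hτ : τ * τ + τ - 1 = 0) {m : M} {cn : ℕ → ℕ}
    (hcn : ∀ c, U ρ (dec (cn c)) m = U ρ (dec c) m) {R1 C1 R2 C2 : List (ℕ × ℕ)} {s0 : ℕ}
    (hR1 : ∀ e ∈ R1, e.2 < 4 ∧ ∃ g, InA e.1 g) (hR2 : ∀ e ∈ R2, e.2 < 4 ∧ ∃ g, InA e.1 g)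
    (h1 : opR ρ τ R1 m = 0) (h2' : opR ρ τ R2 m = 0) (hc : chk cn R1 C1 R2 C2 s0 = true) : U ρ (dec s0) m = 0 := by
  unfold chk at hc
  simp only [Bool.and_eq_true, List.all_eq_true, Nat.blt_eq, Nat.beq_eq] at hc
  obtain ⟨⟨⟨⟨c1, c2⟩, c3⟩, c4⟩, c5⟩ := hc
  have e1 := sound h2 τ (fun c => U ρ (dec c) m) _ c3
  rw [List.map_append, List.sum_append, trms_sum ρ h2 hτ hcn R1 hR1 h1 C1 c1, trms_sum ρ h2 hτ hcn R2 hR2 h2' C2 c2,
    add_zero, c5, Phi_single _ _ (by norm_num) c4, e4_1, one_smul] at e1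
  exact e1.symm

end

end Cfsg.Agent.R2.T1.N6D.Ct
end

-- part: R2/T1/N6D/NoU
section
/-!
# S5929, `n = 6`, `p = 2`: the eigenvalues of elements of order 5 (helper25)

* `two_mul_le` : `M` a module of `A₆` in characteristic 2, `τ² + τ = 1`: the kernel of `z² - τ z + 1`, `z` the 5-cycle,
  has at most half of the dimension of `M`.
-/

set_option autoImplicit false
set_option maxRecDepth 100000

namespace Cfsg.Agent.R2.T1.N6D

open Module Equiv Equiv.Perm
open Cfsg.Agent.R2.T1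

universe u v

namespace NU
open Ct

/-- `(0 1 2 3 4)` -/
def Z : ℕ := 39865
def Zi : ℕ := 43240
def T : ℕ := 40740
def G : ℕ := 21835
def I : ℕ := 44790

/-- the canonical representatives of the cosets of `t` -/
def cn (c : ℕ) : ℕ := bif Nat.blt (dg c 1) (dg c 4) then c else act T c

def R1' : List (ℕ × ℕ) := [(Z, 1), (Zi, 1), (I, 2)]

/-- `t g t` -/
def TG : ℕ := act T (act G T)

def R2' : List (ℕ × ℕ) := [(act G Z, 1), (act G Zi, 1), (G, 2), (act TG Z, 1), (act TG Zi, 1), (TG, 2)]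

def C1 : List (ℕ × ℕ) := [(44115, 2), (43240, 1), (29600, 1), (28985, 3), (34885, 2), (38240, 1), (35605, 2),
  (44505, 3), (43000, 2), (20795, 2), (22720, 1), (22095, 2), (30050, 2), (27040, 1), (22270, 2), (21855, 1),
  (36085, 2), (37665, 1), (35285, 2), (28595, 2), (30100, 1), (14350, 2), (28910, 2), (13415, 2), (15195, 1),
  (38035, 2), (33555, 1), (14715, 1), (12820, 2), (42925, 2), (44180, 3), (17895, 2), (37705, 2), (11860, 2),
  (14390, 1), (11345, 2), (29960, 2), (11200, 2), (20925, 1), (17645, 3), (6795, 2), (4835, 1), (7460, 2), (5885, 1)]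

def C2 : List (ℕ × ℕ) := [(44790, 1), (34530, 2), (43680, 1), (14130, 1), (44155, 1), (5815, 1), (22705, 3), (7045, 3),
  (30710, 1), (36110, 1), (44300, 2), (6860, 1), (7190, 3), (22395, 1), (11595, 2), (41625, 2), (37815, 2),
  (7395, 2), (14800, 2), (30250, 3), (42130, 1), (7210, 2), (4510, 3), (5735, 1), (4265, 3), (5495, 1)]

theorem check : Ct.chk cn R1' C1 R2' C2 I = true := by decide +kernel

/-- `t = (1 4)(2 3)` -/
def t : ↥(alternatingGroup (Fin 6)) := ⟨swap 1 4 * swap 2 3, mem_alternatingGroup.2 (by decide)⟩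

/-- `g` -/
def g : ↥(alternatingGroup (Fin 6)) := ⟨swap 0 1 * swap 1 3 * swap 3 5 * swap 5 2, mem_alternatingGroup.2 (by decide)⟩

theorem hZ : InA Z z5 := by
  unfold InA
  decide +kernel

theorem hZi : InA Zi z5⁻¹ := by
  unfold InA
  decide +kernel

theorem hT : InA T t := by
  unfold InA
  decide +kernel

theorem hG : InA G g := by
  unfold InA
  decide +kernel

theorem hI : InA I 1 := by
  unfold InA
  decide +kernel

theorem tt : t * t = 1 := by
  apply Subtype.ext
  decide +kernel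

theorem tz : t * z5 * t = z5⁻¹ := by
  apply Subtype.ext
  decide +kernel

section
variable {F : Type u} [Field F] {M : Type v} [AddCommGroup M] [Module F M]
  (ρ : Representation F ↥(alternatingGroup (Fin 6)) M)

theorem inv_l (x : ↥(alternatingGroup (Fin 6))) (y : M) : ρ x⁻¹ (ρ x y) = y := by
  rw [← Module.End.mul_apply, ← map_mul, inv_mul_cancel, map_one, Module.End.one_apply]

theorem inv_r (x : ↥(alternatingGroup (Fin 6))) (y : M) : ρ x (ρ x⁻¹ y) = y := by
  rw [← Module.End.mul_apply, ← map_mul, mul_inv_cancel, map_one, Module.End.one_apply]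

theorem rel_iff {τ : F} {y : M} : y ∈ LinearMap.ker (Five.qd τ (ρ z5)) ↔ ρ z5 y + ρ z5⁻¹ y = τ • y := by
  rw [Five.mem_ker_qd]
  constructor
  · intro h
    have h1 := congrArg (ρ z5⁻¹) h
    rw [inv_l, map_sub, map_smul, inv_l] at h1
    rw [h1, sub_add_cancel]
  · intro h
    have h1 := congrArg (ρ z5) h
    rw [map_add, inv_r, map_smul] at h1
    rw [← h1, add_sub_cancel_right]

theorem rel {τ : F} (h2 : (2 : F) = 0) {y : M} (hy : y ∈ LinearMap.ker (Five.qd τ (ρ z5))) :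
    ρ z5 y + ρ z5⁻¹ y + τ • y = 0 := by
  rw [(rel_iff ρ).1 hy, ← two_smul F (τ • y), h2, zero_smul]

/-- the operator `g + t g t` -/
noncomputable def X : Module.End F M := ρ g + ρ (t * g * t)

theorem hTG : InA TG (t * g * t) := by
  have h := hT.act (hG.act hT)
  exact h

private theorem opR_cons (τ : F) (a b : ℕ) (R : List (ℕ × ℕ)) (m : M) :
    opR ρ τ ((a, b) :: R) m = e4 τ b • U ρ (dec a) m + opR ρ τ R m := by
  unfold opR
  rw [List.map_cons, List.sum_cons]

private theorem opR_nil (τ : F) (m : M) : opR ρ τ [] m = 0 := rfl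

theorem step {τ : F} (h2 : (2 : F) = 0) (hτ : τ * τ + τ - 1 = 0) {m : M}
    (hm : m ∈ LinearMap.ker (Five.qd τ (ρ z5))) (ht : ρ t m = m) (hx : X ρ m ∈ LinearMap.ker (Five.qd τ (ρ z5))) :
    m = 0 := by
  have hcn : ∀ c, U ρ (dec (cn c)) m = U ρ (dec c) m := by
    intro c
    unfold cn
    cases Nat.blt (dg c 1) (dg c 4)
    · rw [cond_false, U_act ρ hT, Module.End.mul_apply, ht]
    · rw [cond_true]
  have e1 : opR ρ τ R1' m = 0 := by
    unfold R1'
    rw [opR_cons, opR_cons, opR_cons, opR_nil]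
    rw [U_InA ρ hZ, U_InA ρ hZi, U_InA ρ hI, e4_1, e4_2, one_smul, one_smul, map_one, Module.End.one_apply, add_zero,
      ← add_assoc]
    exact rel ρ h2 hm
  have e2 : opR ρ τ R2' m = 0 := by
    unfold R2'
    rw [opR_cons, opR_cons, opR_cons, opR_cons, opR_cons, opR_cons, opR_nil]
    rw [U_InA ρ (hG.act hZ), U_InA ρ (hG.act hZi), U_InA ρ hG, U_InA ρ (hTG.act hZ), U_InA ρ (hTG.act hZi), U_InA ρ hTG,
      e4_1, e4_2]
    have h3 := rel ρ h2 hx
    unfold X at h3
    simp only [LinearMap.add_apply, map_add, smul_add] at h3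
    rw [map_mul ρ z5 g, map_mul ρ z5⁻¹ g, map_mul ρ z5 (t * g * t), map_mul ρ z5⁻¹ (t * g * t)]
    simp only [Module.End.mul_apply, one_smul, add_zero]
    rw [← h3]
    abel
  have h3 := vec_zero ρ h2 hτ hcn (R1 := R1') (R2 := R2') (by
    intro e he
    simp only [R1', List.mem_cons, List.not_mem_nil, or_false] at he
    rcases he with rfl | rfl | rfl
    · exact ⟨by norm_num, _, hZ⟩
    · exact ⟨by norm_num, _, hZi⟩
    · exact ⟨by norm_num, _, hI⟩) (by
    intro e he
    simp only [R2', List.mem_cons, List.not_mem_nil, or_false] at he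
    rcases he with rfl | rfl | rfl | rfl | rfl | rfl
    · exact ⟨by norm_num, _, hG.act hZ⟩
    · exact ⟨by norm_num, _, hG.act hZi⟩
    · exact ⟨by norm_num, _, hG⟩
    · exact ⟨by norm_num, _, hTG.act hZ⟩
    · exact ⟨by norm_num, _, hTG.act hZi⟩
    · exact ⟨by norm_num, _, hTG⟩) e1 e2 check
  rw [U_InA ρ hI, map_one, Module.End.one_apply] at h3
  exact h3

theorem t_mem {τ : F} {m : M} (hm : m ∈ LinearMap.ker (Five.qd τ (ρ z5))) :
    ρ t m ∈ LinearMap.ker (Five.qd τ (ρ z5)) := by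
  rw [rel_iff] at hm ⊢
  have e1 : z5 * t = t * z5⁻¹ := by
    rw [← tz, ← mul_assoc, ← mul_assoc, tt, one_mul]
  have e2 : z5⁻¹ * t = t * z5 := by
    rw [← tz, mul_assoc, tt, mul_one]
  have e3 : ρ z5 (ρ t m) = ρ t (ρ z5⁻¹ m) := by
    rw [← Module.End.mul_apply, ← map_mul, e1, map_mul, Module.End.mul_apply]
  have e4 : ρ z5⁻¹ (ρ t m) = ρ t (ρ z5 m) := by
    rw [← Module.End.mul_apply, ← map_mul, e2, map_mul, Module.End.mul_apply]
  rw [e3, e4, ← map_add, add_comm, hm, map_smul]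

theorem X_t (m : M) : X ρ (ρ t m) = ρ t (X ρ m) := by
  unfold X
  rw [LinearMap.add_apply, LinearMap.add_apply, map_add, ← Module.End.mul_apply, ← Module.End.mul_apply,
    ← Module.End.mul_apply, ← Module.End.mul_apply, ← map_mul, ← map_mul, ← map_mul, ← map_mul]
  have e1 : t * g * t * t = t * g := by rw [mul_assoc (t * g), tt, mul_one]
  have e2 : t * (t * g * t) = g * t := by rw [← mul_assoc, ← mul_assoc, tt, one_mul]
  rw [e1, e2, add_comm]

theorem inj {τ : F} (h2 : (2 : F) = 0) (hτ : τ * τ + τ - 1 = 0) {m : M}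
    (hm : m ∈ LinearMap.ker (Five.qd τ (ρ z5))) (hx : X ρ m ∈ LinearMap.ker (Five.qd τ (ρ z5))) : m = 0 := by
  have h1 : m + ρ t m = 0 := by
    refine step ρ h2 hτ (m := m + ρ t m) (add_mem hm (t_mem ρ hm)) ?_ ?_
    · rw [map_add, ← Module.End.mul_apply, ← map_mul, tt, map_one, Module.End.one_apply, add_comm]
    · rw [map_add, X_t]
      exact add_mem hx (t_mem ρ hx)
  refine step ρ h2 hτ hm ?_ hx
  have h3 : m + m = 0 := by rw [← two_smul F m, h2, zero_smul]
  exact add_left_cancel (h1.trans h3.symm)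

end

end NU

/-- **the kernel of `z² - τ z + 1` has at most half of the dimension** -/
theorem two_mul_le {F : Type u} [Field F] {M : Type v} [AddCommGroup M] [Module F M] [FiniteDimensional F M]
    (h2 : (2 : F) = 0) {τ : F} (hτ : τ * τ + τ - 1 = 0) (ρ : Representation F ↥(alternatingGroup (Fin 6)) M) :
    2 * finrank F ↥(LinearMap.ker (Five.qd τ (ρ z5))) ≤ finrank F M := by
  set W := LinearMap.ker (Five.qd τ (ρ z5)) with hW
  let f : ↥W →ₗ[F] M ⧸ W := (W.mkQ.comp (NU.X ρ)).comp W.subtype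
  have hf : Function.Injective f := by
    rw [← LinearMap.ker_eq_bot, LinearMap.ker_eq_bot']
    intro m hm
    have h1 : NU.X ρ (m : M) ∈ W := (Submodule.Quotient.mk_eq_zero W).1 hm
    exact Subtype.ext (NU.inj ρ h2 hτ m.2 h1)
  have h1 := LinearMap.finrank_le_finrank_of_injective hf
  have h3 := Submodule.finrank_quotient_add_finrank W
  omega

end Cfsg.Agent.R2.T1.N6D
end

private theorem dce_721a14e041fd : _root_.True := by
  try have : _root_.True := by simp only [_root_.Cfsg.Agent.R2.T1.N6D.Ct.e4.eq_1]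
  try have : _root_.True := by simp only [_root_.Cfsg.Agent.R2.T1.N6D.NU.R1'.eq_1]
  try have : _root_.True := by simp only [_root_.Cfsg.Agent.R2.T1.N6D.NU.R2'.eq_1]
  exact _root_.True.intro
end

-- part: R2/T1/N6D/Dim
section
prune_inst 0x4053040400062000000180016020000444c0001020000000008c00e040a402242200200013cf00412009210c06000004000000020004000000400040000040120888040021200ad04140007801804000000000000000000000000000000000000000000000
set_option linter.all false
open scoped Cfsg.Agent.FastGrp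

-- part: R2/T1/N6D/T2
section
/-!
# S5929, `n = 6`, `p = 2`: INEQ, part (T2) (certificate by helper25, proof by helper9)

* `surj` : a module of `A₆` in characteristic 2 without invariant functionals: the fixed points of the 5-cycle are of the
  form `e_c g_A Q₁ m₁ + e_c g_B Q₂ m₂`.
-/

set_option autoImplicit false
set_option maxRecDepth 100000

namespace Cfsg.Agent.R2.T1.N6D.I2

open Module Equiv Equiv.Perm
open Cfsg.Agent.R2.T1
open Ct

universe u v

/-- `(0 1 2)` -/
def pa : ↥(alternatingGroup (Fin 6)) := ⟨swap (0 : Fin 6) 1 * swap (1 : Fin 6) 2, mem_alternatingGroup.2 (by decide)⟩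
/-- `(3 4 5)` -/
def pa' : ↥(alternatingGroup (Fin 6)) := ⟨swap (3 : Fin 6) 4 * swap (4 : Fin 6) 5, mem_alternatingGroup.2 (by decide)⟩
/-- `(0 3)(1 4 2 5)` -/
def py : ↥(alternatingGroup (Fin 6)) := ⟨swap (0 : Fin 6) 3 * (swap (1 : Fin 6) 4 * swap (4 : Fin 6) 2 * swap (2 : Fin 6) 5), mem_alternatingGroup.2 (by decide)⟩
/-- `(3 5 4)` -/
def x2 : ↥(alternatingGroup (Fin 6)) := ⟨swap (3 : Fin 6) 5 * swap (5 : Fin 6) 4, mem_alternatingGroup.2 (by decide)⟩
/-- `(1 2 4 5 3)` -/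
def gA : ↥(alternatingGroup (Fin 6)) := ⟨swap (1 : Fin 6) 2 * swap (2 : Fin 6) 4 * swap (4 : Fin 6) 5 * swap (5 : Fin 6) 3, mem_alternatingGroup.2 (by decide)⟩
/-- `(1 5 2)` -/
def gB : ↥(alternatingGroup (Fin 6)) := ⟨swap (1 : Fin 6) 5 * swap (5 : Fin 6) 2, mem_alternatingGroup.2 (by decide)⟩

def cI : ℕ := 44790
def cA : ℕ := 44725
def cA' : ℕ := 30750
def cY : ℕ := 10575
def cX : ℕ := 36150
def cZ : ℕ := 39865
def cGA : ℕ := 30180
def cGB : ℕ := 21450

theorem hcI : InA cI 1 := by unfold InA; decide +kernel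
theorem hcA : InA cA pa := by unfold InA; decide +kernel
theorem hcA' : InA cA' pa' := by unfold InA; decide +kernel
theorem hcY : InA cY py := by unfold InA; decide +kernel
theorem hcX : InA cX x2 := by unfold InA; decide +kernel
theorem hcZ : InA cZ z5 := by unfold InA; decide +kernel
theorem hcGA : InA cGA gA := by unfold InA; decide +kernel
theorem hcGB : InA cGB gB := by unfold InA; decide +kernel

/-- products of lists -/
def ml (S P : List ℕ) : List ℕ := S.flatMap fun s => P.map fun p => act p s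

/-- the generators -/
def gn (b : Bool) : ℕ := bif b then cX else cZ

/-- words -/
def wd : List Bool → ℕ
  | [] => cI
  | b :: l => act (gn b) (wd l)

theorem gn_InA (b : Bool) : InA (gn b) (bif b then x2 else z5) := by
  cases b
  · exact hcZ
  · exact hcX

theorem wd_InA (l : List Bool) : ∃ g, InA (wd l) g := by
  induction l with
  | nil => exact ⟨1, hcI⟩
  | cons b l ih =>
    obtain ⟨g, hg⟩ := ih
    exact ⟨_, (gn_InA b).act hg⟩

/-- the codes of the powers of the 5-cycle -/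
def PC : List ℕ := [cI, cZ, act cZ cZ, act cZ (act cZ cZ), act cZ (act cZ (act cZ cZ))]

/-- the canonical representatives of the cosets of the 5-cycle -/
def cn (s : ℕ) : ℕ := act s (PC.getD ((5 - (bif Nat.beq (dg s 0) 5 then dg s 1 else dg s 0)) % 5) cI)

/-- the codes of `Q₁` -/
def QA : List ℕ := ml (ml [cI, act cY cY] [cI, cA, act cA cA]) [cA', act cA' cA']

/-- the codes of `Q₂` -/
def QB : List ℕ := ml (ml [cI, act cY cY] [cI, act cA' cA, act (act cA' cA) (act cA' cA)]) [cA', act cA' cA']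

def RA : List ℕ := [wd [true, false, false, false, true, true, false, true, true],
  wd [true, true, false, false, true, false, true, true, false], wd [false, true, false, false, true, false], wd [],
  wd [false, true, true, false, false, false, false], wd [true, false, false, true, true, false],
  wd [false, true, false, false, false], wd [false, false, false], wd [true, false, false, true, false]]

def RB : List ℕ := [wd [], wd [true, false, false, true, false, true], wd [false, false, true, false, false, false],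
  wd [false, false, false, true, true, false, true], wd [true, false, false, false, true, true, false, true, true],
  wd [false, false, false, false, true, false, true, false, false],
  wd [true, false, false, true, false, true, true, false, true], wd [false, true, false, false, false, true, true],
  wd [false, false, true, true, false, true, true]]

/-- all terms -/
def LL : List ℕ := [cX, cI] ++ (ml (ml [cGA] QA) RA ++ ml (ml [cGB] QB) RB)

def LC : List (ℕ × ℕ) := LL.map fun s => (cn s, 1)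

theorem check : (bnd LC && Nat.beq (toX LC) 0) = true := by decide +kernel

section
variable {F : Type u} [Field F] {M : Type v} [AddCommGroup M] [Module F M]
  (ρ : Representation F ↥(alternatingGroup (Fin 6)) M)

/-- left multiplication -/
theorem U_actL {q : ℕ} {g : ↥(alternatingGroup (Fin 6))} (hq : InA q g) (s : ℕ) :
    U ρ (dec (act s q)) = ρ g * U ρ (dec s) := by
  rw [dec_act]
  by_cases hs : ∃ σ : ↥(alternatingGroup (Fin 6)), ⇑(σ : Perm (Fin 6)) = dec s
  · obtain ⟨σ, hσ⟩ := hs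
    have h1 : dec q ∘ dec s = ⇑((g * σ : ↥(alternatingGroup (Fin 6))) : Perm (Fin 6)) := by
      rw [← hσ, ← hq]
      rfl
    rw [h1, U_coe, ← hσ, U_coe, map_mul]
  · have h1 : ¬ ∃ σ : ↥(alternatingGroup (Fin 6)), ⇑(σ : Perm (Fin 6)) = dec q ∘ dec s := by
      rintro ⟨σ, hσ⟩
      apply hs
      refine ⟨g⁻¹ * σ, ?_⟩
      funext i
      show ((g⁻¹ : ↥(alternatingGroup (Fin 6))) : Perm (Fin 6)) ((σ : Perm (Fin 6)) i) = dec s i
      rw [hσ, Function.comp_apply, ← hq, InvMemClass.coe_inv]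
      exact Equiv.symm_apply_apply _ _
    unfold U
    rw [dif_neg h1, dif_neg hs, mul_zero]

/-- sums over lists of codes -/
noncomputable def SU (S : List ℕ) : Module.End F M := (S.map fun c => U ρ (dec c)).sum

theorem SU_append (S P : List ℕ) : SU ρ (S ++ P) = SU ρ S + SU ρ P := by
  unfold SU
  rw [List.map_append, List.sum_append]

theorem SU_ml (S P : List ℕ) (hP : ∀ p ∈ P, ∃ g, InA p g) : SU ρ (ml S P) = SU ρ S * SU ρ P := by
  induction S with
  | nil =>
    show (0 : Module.End F M) = 0 * _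
    rw [zero_mul]
  | cons s S ih =>
    have h1 : ml (s :: S) P = (P.map fun p => act p s) ++ ml S P := rfl
    rw [h1, SU_append, ih]
    have h2 : SU ρ (P.map fun p => act p s) = U ρ (dec s) * SU ρ P := by
      unfold SU
      rw [List.map_map, ← List.sum_map_mul_left]
      congr 1
      refine List.map_congr_left fun p hp => ?_
      obtain ⟨g, hg⟩ := hP p hp
      rw [Function.comp_apply, U_act ρ hg, U_InA ρ hg]
    have h3 : SU ρ (s :: S) = U ρ (dec s) + SU ρ S := by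
      unfold SU
      rw [List.map_cons, List.sum_cons]
    rw [h2, h3, add_mul]

theorem SU_single {c : ℕ} {g : ↥(alternatingGroup (Fin 6))} (hc : InA c g) : SU ρ [c] = ρ g := by
  unfold SU
  rw [List.map_cons, List.map_nil, List.sum_cons, List.sum_nil, add_zero, U_InA ρ hc]

theorem SU_pair {c d : ℕ} {g h : ↥(alternatingGroup (Fin 6))} (hc : InA c g) (hd : InA d h) : SU ρ [c, d] = ρ g + ρ h := by
  unfold SU
  rw [List.map_cons, List.map_cons, List.map_nil, List.sum_cons, List.sum_cons, List.sum_nil, add_zero, U_InA ρ hc,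
    U_InA ρ hd]

theorem SU_three {c d e : ℕ} {g h k : ↥(alternatingGroup (Fin 6))} (hc : InA c g) (hd : InA d h) (he : InA e k) :
    SU ρ [c, d, e] = ρ g + ρ h + ρ k := by
  unfold SU
  rw [List.map_cons, List.map_cons, List.map_cons, List.map_nil, List.sum_cons, List.sum_cons, List.sum_cons,
    List.sum_nil, add_zero, U_InA ρ hc, U_InA ρ hd, U_InA ρ he, add_assoc]

/-- the sum over the powers of the 5-cycle -/
noncomputable def Ec : Module.End F M := ∑ k ∈ Finset.range 5, ρ (z5 ^ k)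

theorem z5_five : z5 ^ 5 = 1 := z5_pow

theorem Ec_mul (k : ℕ) : Ec ρ * ρ (z5 ^ k) = Ec ρ := by
  have h1 : Ec ρ * ρ z5 = Ec ρ := by
    unfold Ec
    rw [Finset.sum_mul]
    have e1 : ∀ i ∈ Finset.range 5, ρ (z5 ^ i) * ρ z5 = ρ (z5 ^ (i + 1)) := fun i _ => by rw [← map_mul, ← pow_succ]
    rw [Finset.sum_congr rfl e1, Finset.sum_range_succ, z5_five, Finset.sum_range_succ' (fun i => ρ (z5 ^ i)), pow_zero]
  induction k with
  | zero => rw [pow_zero, map_one, mul_one]
  | succ k ih => rw [pow_succ, map_mul, ← mul_assoc, ih, h1]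

theorem mul_Ec : ρ z5 * Ec ρ = Ec ρ := by
  unfold Ec
  rw [Finset.mul_sum]
  have e1 : ∀ i ∈ Finset.range 5, ρ z5 * ρ (z5 ^ i) = ρ (z5 ^ (i + 1)) := fun i _ => by rw [← map_mul, ← pow_succ']
  rw [Finset.sum_congr rfl e1, Finset.sum_range_succ, z5_five, Finset.sum_range_succ' (fun i => ρ (z5 ^ i)), pow_zero]

theorem Ec_apply (k : ℕ) (m : M) : Ec ρ (ρ (z5 ^ k) m) = Ec ρ m := by
  rw [← Module.End.mul_apply, Ec_mul]

theorem Ec_of_fixed (h2 : (2 : F) = 0) {m : M} (hm : ρ z5 m = m) : Ec ρ m = m := by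
  have hp : ∀ k : ℕ, ρ (z5 ^ k) m = m := by
    intro k
    induction k with
    | zero => rw [pow_zero, map_one]; rfl
    | succ k ih => rw [pow_succ, map_mul, Module.End.mul_apply, hm, ih]
  have h3 : m + m = 0 := by rw [← two_smul F m, h2, zero_smul]
  unfold Ec
  rw [LinearMap.sum_apply]
  simp only [hp]
  rw [Finset.sum_const, Finset.card_range]
  have : (5 : ℕ) • m = (m + m) + (m + m) + m := by
    rw [show (5 : ℕ) = 1 + 1 + 1 + 1 + 1 from rfl]
    simp only [add_smul, one_smul]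
    abel
  rw [this, h3, zero_add, zero_add]

theorem PC_InA (j : ℕ) : ∃ i, InA (PC.getD j cI) (z5 ^ i) := by
  have e0 : InA cI (z5 ^ 0) := by rw [pow_zero]; exact hcI
  have e1 : InA cZ (z5 ^ 1) := by rw [pow_one]; exact hcZ
  have e2 : InA (act cZ cZ) (z5 ^ 2) := by rw [pow_two]; exact hcZ.act hcZ
  have e3 : InA (act cZ (act cZ cZ)) (z5 ^ 3) := by rw [pow_succ]; exact hcZ.act e2
  have e4 : InA (act cZ (act cZ (act cZ cZ))) (z5 ^ 4) := by rw [pow_succ]; exact hcZ.act e3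
  rcases j with _ | _ | _ | _ | _ | j
  · exact ⟨0, e0⟩
  · exact ⟨1, e1⟩
  · exact ⟨2, e2⟩
  · exact ⟨3, e3⟩
  · exact ⟨4, e4⟩
  · exact ⟨0, e0⟩

theorem w_cn (s : ℕ) (m : M) : Ec ρ (U ρ (dec (cn s)) m) = Ec ρ (U ρ (dec s) m) := by
  obtain ⟨i, hi⟩ := PC_InA ((5 - (bif Nat.beq (dg s 0) 5 then dg s 1 else dg s 0)) % 5)
  unfold cn
  rw [U_actL ρ hi, Module.End.mul_apply, Ec_apply]

/-- `e₁` -/
noncomputable def E1 : Module.End F M := (1 + ρ pa + ρ (pa * pa)) * (ρ pa' + ρ (pa' * pa'))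
/-- `e₂` -/
noncomputable def E2 : Module.End F M :=
  (1 + ρ (pa * pa') + ρ (pa * pa' * (pa * pa'))) * (ρ pa' + ρ (pa' * pa'))
noncomputable def Q1 : Module.End F M := (1 + ρ (py * py)) * E1 ρ
noncomputable def Q2 : Module.End F M := (1 + ρ (py * py)) * E2 ρ

theorem SU_QA : SU ρ QA = Q1 ρ := by
  unfold QA Q1 E1
  rw [SU_ml ρ, SU_ml ρ, SU_pair ρ hcI (hcY.act hcY), SU_three ρ hcI hcA (hcA.act hcA), SU_pair ρ hcA' (hcA'.act hcA'),
    map_one, mul_assoc]
  · intro p hp
    simp only [List.mem_cons, List.not_mem_nil, or_false] at hp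
    rcases hp with rfl | rfl | rfl
    · exact ⟨_, hcI⟩
    · exact ⟨_, hcA⟩
    · exact ⟨_, hcA.act hcA⟩
  · intro p hp
    simp only [List.mem_cons, List.not_mem_nil, or_false] at hp
    rcases hp with rfl | rfl
    · exact ⟨_, hcA'⟩
    · exact ⟨_, hcA'.act hcA'⟩

theorem SU_QB : SU ρ QB = Q2 ρ := by
  unfold QB Q2 E2
  have hb := hcA'.act hcA
  rw [SU_ml ρ, SU_ml ρ, SU_pair ρ hcI (hcY.act hcY), SU_three ρ hcI hb (hb.act hb), SU_pair ρ hcA' (hcA'.act hcA'),
    map_one, mul_assoc]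
  · intro p hp
    simp only [List.mem_cons, List.not_mem_nil, or_false] at hp
    rcases hp with rfl | rfl | rfl
    · exact ⟨_, hcI⟩
    · exact ⟨_, hb⟩
    · exact ⟨_, hb.act hb⟩
  · intro p hp
    simp only [List.mem_cons, List.not_mem_nil, or_false] at hp
    rcases hp with rfl | rfl
    · exact ⟨_, hcA'⟩
    · exact ⟨_, hcA'.act hcA'⟩

theorem QA_InA : ∀ p ∈ QA, ∃ g, InA p g := by
  have h := hcI
  have h0 := hcA
  have h1 := hcA'
  have h3 := hcY
  intro p hp
  unfold QA ml at hp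
  simp only [List.mem_flatMap, List.mem_map, List.mem_cons, List.not_mem_nil, or_false] at hp
  obtain ⟨q, ⟨r, hr, s, hs, rfl⟩, t, ht, rfl⟩ := hp
  have a1 : ∃ g, InA r g := by
    rcases hr with rfl | rfl
    · exact ⟨_, h⟩
    · exact ⟨_, h3.act h3⟩
  have a2 : ∃ g, InA s g := by
    rcases hs with rfl | rfl | rfl
    · exact ⟨_, h⟩
    · exact ⟨_, h0⟩
    · exact ⟨_, h0.act h0⟩
  have a3 : ∃ g, InA t g := by
    rcases ht with rfl | rfl
    · exact ⟨_, h1⟩
    · exact ⟨_, h1.act h1⟩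
  obtain ⟨g1, a1⟩ := a1
  obtain ⟨g2, a2⟩ := a2
  obtain ⟨g3, a3⟩ := a3
  exact ⟨_, a3.act (a2.act a1)⟩

theorem QB_InA : ∀ p ∈ QB, ∃ g, InA p g := by
  have h := hcI
  have h0 := hcA'.act hcA
  have h1 := hcA'
  have h3 := hcY
  intro p hp
  unfold QB ml at hp
  simp only [List.mem_flatMap, List.mem_map, List.mem_cons, List.not_mem_nil, or_false] at hp
  obtain ⟨q, ⟨r, hr, s, hs, rfl⟩, t, ht, rfl⟩ := hp
  have a1 : ∃ g, InA r g := by
    rcases hr with rfl | rfl
    · exact ⟨_, h⟩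
    · exact ⟨_, h3.act h3⟩
  have a2 : ∃ g, InA s g := by
    rcases hs with rfl | rfl | rfl
    · exact ⟨_, h⟩
    · exact ⟨_, h0⟩
    · exact ⟨_, h0.act h0⟩
  have a3 : ∃ g, InA t g := by
    rcases ht with rfl | rfl
    · exact ⟨_, h1⟩
    · exact ⟨_, h1.act h1⟩
  obtain ⟨g1, a1⟩ := a1
  obtain ⟨g2, a2⟩ := a2
  obtain ⟨g3, a3⟩ := a3
  exact ⟨_, a3.act (a2.act a1)⟩

theorem RA_InA : ∀ p ∈ RA, ∃ g, InA p g := by
  intro p hp
  simp only [RA, List.mem_cons, List.not_mem_nil, or_false] at hp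
  rcases hp with rfl | rfl | rfl | rfl | rfl | rfl | rfl | rfl | rfl <;> exact wd_InA _

theorem RB_InA : ∀ p ∈ RB, ∃ g, InA p g := by
  intro p hp
  simp only [RB, List.mem_cons, List.not_mem_nil, or_false] at hp
  rcases hp with rfl | rfl | rfl | rfl | rfl | rfl | rfl | rfl | rfl <;> exact wd_InA _

theorem SU_LL : SU ρ LL = ρ x2 + 1 + (ρ gA * Q1 ρ * SU ρ RA + ρ gB * Q2 ρ * SU ρ RB) := by
  unfold LL
  rw [SU_append, SU_append, SU_pair ρ hcX hcI, map_one, SU_ml ρ _ _ RA_InA, SU_ml ρ _ _ RB_InA, SU_ml ρ _ _ QA_InA,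
    SU_ml ρ _ _ QB_InA, SU_single ρ hcGA, SU_single ρ hcGB, SU_QA, SU_QB]

theorem Ec_SU (h2 : (2 : F) = 0) (m : M) : Ec ρ (SU ρ LL m) = 0 := by
  have hc := check
  rw [Bool.and_eq_true, Nat.beq_eq] at hc
  have h1 := sound h2 (0 : F) (fun s => Ec ρ (U ρ (dec s) m)) LC hc.1
  rw [hc.2] at h1
  have h3 : Ct.Phi (0 : F) (fun s => Ec ρ (U ρ (dec s) m)) 0 = 0 := by
    unfold Ct.Phi
    simp
  rw [h3] at h1
  rw [← h1]
  unfold LC SU
  rw [List.map_map]
  have key : ∀ L : List ℕ, Ec ρ ((L.map fun c => U ρ (dec c)).sum m) =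
      (L.map ((fun e : ℕ × ℕ => e4 (0 : F) e.2 • (fun s => Ec ρ (U ρ (dec s) m)) e.1) ∘ fun s => (cn s, 1))).sum := by
    intro L
    induction L with
    | nil =>
      show Ec ρ ((0 : Module.End F M) m) = 0
      rw [LinearMap.zero_apply, map_zero]
    | cons c L ih =>
      rw [List.map_cons, List.sum_cons, LinearMap.add_apply, map_add, ih, List.map_cons, List.sum_cons]
      congr 1
      show _ = e4 (0 : F) 1 • Ec ρ (U ρ (dec (cn c)) m)
      rw [e4_1, one_smul, w_cn]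
  exact key LL

theorem idt (h2 : (2 : F) = 0) (m : M) : Ec ρ (ρ x2 m - m) =
    Ec ρ (ρ gA (Q1 ρ (SU ρ RA m))) + Ec ρ (ρ gB (Q2 ρ (SU ρ RB m))) := by
  have h1 := Ec_SU ρ h2 m
  rw [SU_LL] at h1
  simp only [LinearMap.add_apply, Module.End.mul_apply, Module.End.one_apply, map_add] at h1
  have two : ∀ y : M, y + y = 0 := fun y => by rw [← two_smul F y, h2, zero_smul]
  have neg : ∀ y : M, -y = y := fun y => by
    rw [neg_eq_iff_add_eq_zero]
    exact two y
  rw [sub_eq_add_neg, neg, map_add]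
  have h3 := eq_neg_of_add_eq_zero_left h1
  rw [neg] at h3
  exact h3

/-- the subgroup generated by the 5-cycle and `(3 5 4)` -/
theorem gen {H : Subgroup ↥(alternatingGroup (Fin 6))} (h1 : z5 ∈ H) (h2 : x2 ∈ H) (g : ↥(alternatingGroup (Fin 6))) :
    g ∈ H := by
  have hw : ∀ l, ∃ g ∈ H, InA (wd l) g := by
    intro l
    induction l with
    | nil => exact ⟨1, one_mem H, hcI⟩
    | cons b l ih =>
      obtain ⟨g, hg, hg'⟩ := ih
      refine ⟨_, mul_mem hg ?_, (gn_InA b).act hg'⟩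
      cases b
      · exact h1
      · exact h2
  have h3 := Cfsg.Agent.H952.F4.Gen.mem_of_star (n := 4) (H.map (alternatingGroup (Fin 6)).subtype) (by
    rintro _ ⟨x, -, rfl⟩
    exact x.2) (by
    have key : ∀ (l : List Bool) (τ : Perm (Fin 6)), (∀ i, dec (wd l) i = τ i) →
        τ ∈ H.map (alternatingGroup (Fin 6)).subtype := by
      intro l τ hτ
      obtain ⟨g, hg, hg'⟩ := hw l
      refine ⟨g, hg, ?_⟩
      refine Equiv.ext fun i => ?_
      rw [← hτ]
      exact congrFun hg' i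
    intro k hk
    fin_cases k
    · exact absurd rfl hk
    · exact key [] _ (by decide +kernel)
    · exact key [false, true, false, false, true, true, false, false, true, false] _ (by decide +kernel)
    · exact key [true, false, true, true, false, false, false, true] _ (by decide +kernel)
    · exact key [true, true, false, true, true, false, false, false] _ (by decide +kernel)
    · exact key [false, false, false, true, false, false] _ (by decide +kernel)) (σ := g) g.2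
  obtain ⟨x, hx, hxg⟩ := h3
  have : x = g := Subtype.ext hxg
  rw [← this]
  exact hx

/-- **(T2)** -/
theorem surj (h2 : (2 : F) = 0) (hco : ∀ f : Module.Dual F M, (∀ g m, f (ρ g m) = f m) → f = 0) {s : M}
    (hs : ρ z5 s = s) : ∃ m1 m2, s = Ec ρ (ρ gA (Q1 ρ m1)) + Ec ρ (ρ gB (Q2 ρ m2)) := by
  set S : Submodule F M := LinearMap.range (Ec ρ * ρ gA * Q1 ρ) ⊔ LinearMap.range (Ec ρ * ρ gB * Q2 ρ) with hS
  set N : Submodule F M := S.comap (Ec ρ) with hN
  let K : Subgroup ↥(alternatingGroup (Fin 6)) :=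
    { carrier := {x | ∀ m, ρ x m - m ∈ N}
      one_mem' := by
        intro m
        rw [map_one, Module.End.one_apply, sub_self]
        exact zero_mem N
      mul_mem' := by
        intro x y hx hy m
        have h3 := add_mem (hx (ρ y m)) (hy m)
        rwa [sub_add_sub_cancel, ← Module.End.mul_apply, ← map_mul] at h3
      inv_mem' := by
        intro x hx m
        have h3 := neg_mem (hx (ρ x⁻¹ m))
        rwa [neg_sub, ← Module.End.mul_apply, ← map_mul, mul_inv_cancel, map_one, Module.End.one_apply] at h3 }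
  have k1 : z5 ∈ K := by
    intro m
    rw [hN, Submodule.mem_comap, map_sub]
    have h3 := Ec_apply ρ 1 m
    rw [pow_one] at h3
    rw [h3, sub_self]
    exact zero_mem S
  have k2 : x2 ∈ K := by
    intro m
    rw [hN, Submodule.mem_comap, idt ρ h2]
    exact add_mem (Submodule.mem_sup_left ⟨_, rfl⟩) (Submodule.mem_sup_right ⟨_, rfl⟩)
  have hK : ∀ x m, ρ x m - m ∈ N := fun x => gen k1 k2 x
  have htop : N = ⊤ := by
    by_contra hne
    obtain ⟨f, hf, hf'⟩ := Submodule.exists_le_ker_of_lt_top N (lt_top_iff_ne_top.2 hne)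
    apply hf
    refine hco f fun g m => ?_
    have h3 := LinearMap.mem_ker.1 (hf' (hK g m))
    rwa [map_sub, sub_eq_zero] at h3
  have h3 : s ∈ N := by
    rw [htop]
    trivial
  rw [hN, Submodule.mem_comap, Ec_of_fixed ρ h2 hs, hS, Submodule.mem_sup] at h3
  obtain ⟨_, ⟨m1, rfl⟩, _, ⟨m2, rfl⟩, h4⟩ := h3
  exact ⟨m1, m2, h4.symm⟩

end

end Cfsg.Agent.R2.T1.N6D.I2
end

-- part: R2/T1/N6D/Dim
section
/-!
# S5929, `n = 6`, `p = 2`: dimensions of fixed spaces for `3²` in characteristic 2 (helper25)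
-/

set_option autoImplicit false
set_option maxRecDepth 100000

namespace Cfsg.Agent.R2.T1.N6D.I2

open Module Equiv Equiv.Perm
open Cfsg.Agent.R2.T1
open Cfsg.Agent.H952.F4 (ev)

universe u v

section
variable {F : Type u} [Field F] {M : Type v} [AddCommGroup M] [Module F M]

/-- the fixed space -/
def Fx (T : Module.End F M) : Submodule F M := Module.End.eigenspace T 1

/-- the kernel of `1 + T + T²` -/
def Kp (T : Module.End F M) : Submodule F M := LinearMap.ker (1 + T + T * T)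

theorem mem_Fx {T : Module.End F M} {m : M} : m ∈ Fx T ↔ T m = m := by
  unfold Fx
  rw [Module.End.mem_eigenspace_iff, one_smul]

theorem mem_Kp {T : Module.End F M} {m : M} : m ∈ Kp T ↔ m + T m + T (T m) = 0 := Iff.rfl

theorem two0 (h2 : (2 : F) = 0) (m : M) : m + m = 0 := by rw [← two_smul F m, h2, zero_smul]

theorem neg0 (h2 : (2 : F) = 0) (m : M) : -m = m := by
  rw [neg_eq_iff_add_eq_zero]
  exact two0 h2 m

theorem finrank_ker_res [FiniteDimensional F M] (W : Submodule F M) (f : Module.End F M) :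
    finrank F ↥W = finrank F ↥(W.map f) + finrank F ↥(W ⊓ LinearMap.ker f) := by
  have h1 := LinearMap.finrank_range_add_finrank_ker (f.comp W.subtype)
  have h3 : LinearMap.range (f.comp W.subtype) = W.map f := by
    rw [LinearMap.range_comp, Submodule.range_subtype]
  have h4 : (LinearMap.ker (f.comp W.subtype)).map W.subtype = W ⊓ LinearMap.ker f := by
    rw [LinearMap.ker_comp, Submodule.map_comap_subtype]
  rw [h3] at h1
  rw [← h1, ← h4]
  congr 1
  exact (LinearEquiv.finrank_eq (Submodule.equivMapOfInjective W.subtype W.injective_subtype _))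

/-- **splitting under an operator of order 3** -/
theorem split [FiniteDimensional F M] (h2 : (2 : F) = 0) {T : Module.End F M} (hT : ∀ m, T (T (T m)) = m)
    (W : Submodule F M) (hW : ∀ m ∈ W, T m ∈ W) :
    finrank F ↥W = finrank F ↥(W ⊓ Fx T) + finrank F ↥(W ⊓ Kp T) := by
  have hm : W.map (1 + T + T * T) = W ⊓ Fx T := ?_
  · rw [finrank_ker_res W (1 + T + T * T), hm]
    rfl
  ext m
  constructor
  · rintro ⟨x, hx, rfl⟩
    refine ⟨add_mem (add_mem hx (hW _ hx)) (hW _ (hW _ hx)), ?_⟩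
    show _ ∈ Fx T
    rw [mem_Fx]
    show T (x + T x + T (T x)) = x + T x + T (T x)
    rw [map_add, map_add, hT]
    abel
  · rintro ⟨h1, h3⟩
    refine ⟨m, h1, ?_⟩
    have h4 : T m = m := mem_Fx.1 h3
    show m + T m + T (T m) = m
    rw [h4, h4, two0 h2, zero_add]

/-- **fixed points of an involution** -/
theorem half [FiniteDimensional F M] (h2 : (2 : F) = 0) {T : Module.End F M} (W : Submodule F M)
    (hW : ∀ m ∈ W, T m ∈ W) (hT : ∀ m ∈ W, T (T m) = m) : finrank F ↥W ≤ 2 * finrank F ↥(W ⊓ Fx T) := by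
  rw [finrank_ker_res W (1 + T)]
  have h1 : W.map (1 + T) ≤ W ⊓ Fx T := by
    rintro _ ⟨x, hx, rfl⟩
    refine ⟨add_mem hx (hW _ hx), ?_⟩
    show _ ∈ Fx T
    rw [mem_Fx]
    show T (x + T x) = x + T x
    rw [map_add, hT x hx, add_comm]
  have h3 : W ⊓ LinearMap.ker (1 + T) = W ⊓ Fx T := by
    ext m
    rw [Submodule.mem_inf, Submodule.mem_inf, mem_Fx, LinearMap.mem_ker]
    refine and_congr_right fun _ => ?_
    show m + T m = 0 ↔ _
    constructor
    · intro h
      have h4 := eq_neg_of_add_eq_zero_right h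
      rw [h4, neg0 h2]
    · intro h
      rw [h, two0 h2]
  have h4 := Submodule.finrank_mono h1
  rw [h3]
  omega

/-- two copies of the fixed space of an involution -/
theorem dbl [FiniteDimensional F M] {T S : Module.End F M} (hT : ∀ m, T (T (T m)) = m)
    (hS : ∀ m, S (T m) = T (T (S m))) (W : Submodule F M) (hW : ∀ m ∈ W, T m ∈ W) (hf : ∀ m ∈ W, T m = m → m = 0) :
    2 * finrank F ↥(W ⊓ Fx S) ≤ finrank F ↥W := by
  have hinj : Function.Injective T := by
    intro a b hab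
    rw [← hT a, hab, hT]
  have h1 : finrank F ↥((W ⊓ Fx S).map T) = finrank F ↥(W ⊓ Fx S) :=
    (LinearEquiv.finrank_eq (Submodule.equivMapOfInjective T hinj (W ⊓ Fx S))).symm
  have h3 : (W ⊓ Fx S) ⊓ (W ⊓ Fx S).map T = ⊥ := by
    rw [eq_bot_iff]
    rintro _ ⟨⟨-, h4⟩, x, ⟨hx, hx'⟩, rfl⟩
    have h5 : S (T x) = T x := mem_Fx.1 h4
    have h6 : S x = x := mem_Fx.1 hx'
    rw [hS, h6] at h5
    have h7 : T x = x := hinj h5
    have h8 := hf x hx h7
    rw [h8, map_zero, Submodule.mem_bot]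
  have h4 := Submodule.finrank_sup_add_finrank_inf_eq (W ⊓ Fx S) ((W ⊓ Fx S).map T)
  have h5 : (W ⊓ Fx S) ⊔ (W ⊓ Fx S).map T ≤ W := by
    refine sup_le inf_le_left ?_
    rintro _ ⟨x, ⟨hx, -⟩, rfl⟩
    exact hW x hx
  have h6 := Submodule.finrank_mono h5
  rw [h3, finrank_bot, h1] at h4
  omega

/-- **the decomposition for `3²`** -/
theorem decomp [FiniteDimensional F M] (h2 : (2 : F) = 0) {A A' : Module.End F M} (hA : ∀ m, A (A (A m)) = m)
    (hA' : ∀ m, A' (A' (A' m)) = m) (hc : ∀ m, A (A' m) = A' (A m)) :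
    finrank F M + 3 * finrank F ↥(Fx A ⊓ Fx A') = finrank F ↥(Fx A) + finrank F ↥(Fx A') + finrank F ↥(Fx (A * A')) +
      finrank F ↥(Fx (A * (A' * A'))) := by
  have hB : ∀ m, (A * A') ((A * A') ((A * A') m)) = m := by
    intro m
    simp only [Module.End.mul_apply, hc, hA, hA']
  have hB' : ∀ m, (A * (A' * A')) ((A * (A' * A')) ((A * (A' * A')) m)) = m := by
    intro m
    simp only [Module.End.mul_apply, hc, hA, hA']
  have e0 : finrank F M = finrank F ↥(Fx A) + finrank F ↥(Kp A) := by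
    have h := split h2 hA ⊤ (fun _ _ => trivial)
    rwa [finrank_top, top_inf_eq, top_inf_eq] at h
  have e1 := split h2 hA' (Fx A) (fun m hm => by rw [mem_Fx] at hm ⊢; rw [hc, hm])
  have e2 := split h2 hA' (Kp A) (fun m hm => by
    rw [mem_Kp] at hm ⊢
    rw [hc, hc, ← map_add, ← map_add, hm, map_zero])
  have e3 := split h2 hA (Fx A') (fun m hm => by rw [mem_Fx] at hm ⊢; rw [← hc, hm])
  have e4 := split h2 hB (Kp A ⊓ Kp A') (fun m hm => by
    rw [Submodule.mem_inf, mem_Kp, mem_Kp] at hm ⊢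
    obtain ⟨h1, h3⟩ := hm
    constructor
    · have h4 := congrArg (fun x => A (A' x)) h1
      simp only [Module.End.mul_apply]
      simp only [map_add, map_zero, hc] at h4 ⊢
      exact h4
    · have h4 := congrArg (fun x => A (A' x)) h3
      simp only [Module.End.mul_apply]
      simp only [map_add, map_zero, hc] at h4 ⊢
      exact h4)
  have e5 := split h2 hA (Fx (A * A')) (fun m hm => by
    rw [mem_Fx] at hm ⊢
    rw [Module.End.mul_apply] at hm ⊢
    rw [← hc, hm])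
  have e6 := split h2 hA (Fx (A * (A' * A'))) (fun m hm => by
    rw [mem_Fx] at hm ⊢
    simp only [Module.End.mul_apply] at hm ⊢
    rw [← hc, ← hc, hm])
  have f1 : Kp A ⊓ Fx A' = Fx A' ⊓ Kp A := inf_comm _ _
  have f2 : Fx A' ⊓ Fx A = Fx A ⊓ Fx A' := inf_comm _ _
  have f3 : Fx (A * A') ⊓ Fx A = Fx A ⊓ Fx A' := by
    ext m
    rw [Submodule.mem_inf, Submodule.mem_inf, mem_Fx, mem_Fx, mem_Fx, Module.End.mul_apply]
    constructor
    · rintro ⟨h1, h3⟩
      refine ⟨h3, ?_⟩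
      rwa [hc, h3] at h1
    · rintro ⟨h1, h3⟩
      refine ⟨?_, h1⟩
      rw [h3, h1]
  have f4 : Fx (A * (A' * A')) ⊓ Fx A = Fx A ⊓ Fx A' := by
    ext m
    rw [Submodule.mem_inf, Submodule.mem_inf, mem_Fx, mem_Fx, mem_Fx]
    simp only [Module.End.mul_apply]
    constructor
    · rintro ⟨h1, h3⟩
      refine ⟨h3, ?_⟩
      rw [hc, hc, h3] at h1
      have h4 := congrArg A' h1
      rw [hA'] at h4
      exact h4.symm
    · rintro ⟨h1, h3⟩
      refine ⟨?_, h1⟩
      rw [h3, h3, h1]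
  have g1 : ∀ m, (A * A') m = m → m + A m + A (A m) = 0 → m + A' m + A' (A' m) = 0 := by
    intro m h1 h3
    rw [Module.End.mul_apply] at h1
    -- `A' m = A² m`
    have h4 : A' m = A (A m) := by
      have h5 := congrArg (fun x => A (A x)) h1
      simp only [hA] at h5
      exact h5
    have h5 : A' (A' m) = A m := by
      rw [h4, ← hc, ← hc, h4, hA]
    rw [h5, h4, ← h3]
    abel
  have g2 : ∀ m, (A * (A' * A')) m = m → m + A m + A (A m) = 0 → m + A' m + A' (A' m) = 0 := by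
    intro m h1 h3
    simp only [Module.End.mul_apply] at h1
    have h4 : A' (A' m) = A (A m) := by
      have h5 := congrArg (fun x => A (A x)) h1
      simp only [hA] at h5
      exact h5
    have h5 : A' m = A m := by
      have h6 := congrArg (fun x => A (A' x)) h4
      simp only [hA'] at h6
      rw [h6]
      simp only [← hc, hA]
    rw [h4, h5, ← h3]
  have f5 : Kp A ⊓ Kp A' ⊓ Fx (A * A') = Fx (A * A') ⊓ Kp A := by
    ext m
    rw [Submodule.mem_inf, Submodule.mem_inf, Submodule.mem_inf]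
    constructor
    · rintro ⟨⟨h1, -⟩, h3⟩
      exact ⟨h3, h1⟩
    · rintro ⟨h1, h3⟩
      exact ⟨⟨h3, mem_Kp.2 (g1 m (mem_Fx.1 h1) (mem_Kp.1 h3))⟩, h1⟩
  have f6 : Kp A ⊓ Kp A' ⊓ Kp (A * A') = Fx (A * (A' * A')) ⊓ Kp A := by
    have key : ∀ m, m + A m + A (A m) = 0 → m + A' m + A' (A' m) = 0 →
        (m + (A * A') m + (A * A') ((A * A') m)) + (m + (A * (A' * A')) m + (A * (A' * A')) ((A * (A' * A')) m)) = m := by
      intro m h1 h3
      have h4 : A (m + A' m + A' (A' m)) = 0 := by rw [h3, map_zero]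
      have h5 : A (A (m + A' m + A' (A' m))) = 0 := by rw [h4, map_zero]
      simp only [Module.End.mul_apply]
      simp only [map_add, ← hc, hA'] at h4 h5 ⊢
      have h6 : A m + A (A m) = m := by
        have h7 := eq_neg_of_add_eq_zero_right (a := m) (b := A m + A (A m)) (by rw [← add_assoc]; exact h1)
        rw [h7, neg0 h2]
      have h7 : A (A' m) + A (A' (A' m)) = A m := by
        have h8 := eq_neg_of_add_eq_zero_right (a := A m) (b := A (A' m) + A (A' (A' m))) (by rw [← add_assoc]; exact h4)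
        rw [h8, neg0 h2]
      have h8 : A (A (A' m)) + A (A (A' (A' m))) = A (A m) := by
        have h9 := eq_neg_of_add_eq_zero_right (a := A (A m)) (b := A (A (A' m)) + A (A (A' (A' m))))
          (by rw [← add_assoc]; exact h5)
        rw [h9, neg0 h2]
      have h9 : m + A (A' m) + A (A (A' (A' m))) + (m + A (A' (A' m)) + A (A (A' m))) =
          (m + m) + (A (A' m) + A (A' (A' m))) + (A (A (A' m)) + A (A (A' (A' m)))) := by abel
      rw [h9, h7, h8, two0 h2, zero_add, h6]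
    ext m
    rw [Submodule.mem_inf, Submodule.mem_inf, Submodule.mem_inf, mem_Kp, mem_Kp, mem_Kp, mem_Fx]
    constructor
    · rintro ⟨⟨h1, h3⟩, h4⟩
      refine ⟨?_, h1⟩
      have h5 := key m h1 h3
      rw [h4, zero_add] at h5
      rw [← h5]
      simp only [map_add]
      rw [hB']
      abel
    · rintro ⟨h1, h3⟩
      have h4 := g2 m h1 h3
      refine ⟨⟨h3, h4⟩, ?_⟩
      have h5 := key m h3 h4
      rw [h1, h1, two0 h2, zero_add] at h5
      exact add_eq_right.1 h5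
  rw [f1] at e2
  rw [f2] at e3
  rw [f5, f6] at e4
  rw [f3] at e5
  rw [f4] at e6
  omega

end

end Cfsg.Agent.R2.T1.N6D.I2
end

private theorem dce_f0586689b7ea : _root_.True := by
  try have : _root_.True := by simp only [_root_.Cfsg.Agent.R2.T1.N6D.I2.RA.eq_1]
  try have : _root_.True := by simp only [_root_.Cfsg.Agent.R2.T1.N6D.I2.RB.eq_1]
  exact _root_.True.intro
end

-- part: R2/T1/N6D/T1
section
prune_inst 0x4243044400062000000180512020000244c0001020023000089c00e040a40a302200307013cf01602008a9cc06000804001000030420000000a008600400401208c8352023250ad04340017800800000000000000000000000000000000000000000000000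
set_option linter.all false
open scoped Cfsg.Agent.FastGrp

/-!
# S5929, `n = 6`, `p = 2`: INEQ (proof by helper9, helper25)

* `ineq6` : `4 (dim M^a + dim M^b) + 12 dim M^c ≤ 5 dim M` for the modules of `A₆` in characteristic 2 without trivial
  submodules and quotients;
* `low6` : `dim M ≤ 2 (dim M^a + dim M^b)`.
-/

set_option autoImplicit false
set_option maxRecDepth 100000

namespace Cfsg.Agent.R2.T1.N6D.I2

open Module Equiv Equiv.Perm
open Cfsg.Agent.R2.T1
open Cfsg.Agent.H952.F4 (ev)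

universe u v

/-- `(2 3)(4 5)` -/
def pr : ↥(alternatingGroup (Fin 6)) := ⟨swap 2 3 * swap 4 5, mem_alternatingGroup.2 (by decide)⟩
/-- `(1 4)(2 5)` -/
def pw : ↥(alternatingGroup (Fin 6)) := ⟨swap 1 4 * swap 2 5, mem_alternatingGroup.2 (by decide)⟩

theorem pa3 : pa * pa * pa = 1 := by apply Subtype.ext; decide +kernel
theorem pa'3 : pa' * pa' * pa' = 1 := by apply Subtype.ext; decide +kernel
theorem pcomm : pa * pa' = pa' * pa := by apply Subtype.ext; decide +kernel
theorem py_a : py * pa * py⁻¹ = pa' := by apply Subtype.ext; decide +kernel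
theorem py_a' : py * pa' * py⁻¹ = pa * pa := by apply Subtype.ext; decide +kernel
theorem py4 : py * py * (py * py) = 1 := by apply Subtype.ext; decide +kernel
theorem pys_a : py * py * pa = pa * pa * (py * py) := by apply Subtype.ext; decide +kernel
theorem pys_a' : py * py * pa' = pa' * pa' * (py * py) := by apply Subtype.ext; decide +kernel
theorem pw2 : pw * pw = 1 := by apply Subtype.ext; decide +kernel
theorem pw_y : py * pw = pw * (py * py * py) := by apply Subtype.ext; decide +kernel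
theorem z5_word : z5 = pa' * (pw * pa * pw) * (pw * pa * pw) * pa := by apply Subtype.ext; decide +kernel
theorem x2_word : x2 = pa' * pa' := by apply Subtype.ext; decide +kernel

/-- the representatives of the cosets of `Y` -/
def rep (k : Fin 10) : ↥(alternatingGroup (Fin 6)) := z5 ^ (k.val % 5) * pr ^ (k.val / 5)

/-- the elements of `Y` -/
def wy (e : ℕ × ℕ × ℕ) : ↥(alternatingGroup (Fin 6)) := pa ^ e.1 * pa' ^ e.2.1 * py ^ e.2.2

def piF : Fin 10 → Fin 10 := ![0, 6, 5, 1, 2, 4, 3, 9, 7, 8]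
def piG : Fin 10 → Fin 10 := ![0, 3, 4, 6, 5, 2, 1, 8, 9, 7]
def piW : Fin 10 → ℕ × ℕ × ℕ := ![(0, 1, 0), (0, 1, 0), (0, 0, 3), (0, 0, 3), (0, 2, 1), (1, 0, 0), (1, 0, 1), (2, 1, 0),
  (2, 0, 1), (2, 1, 3)]

def piE : Perm (Fin 10) := ⟨piF, piG, by decide, by decide⟩

theorem tab (k : Fin 10) : pa' * rep k = rep (piF k) * wy (piW k) := by
  apply Subtype.ext
  revert k
  decide +kernel

/-- the tables for `g_A e₁ w`, `g_B e₂ w` -/
theorem tabA : gA * pa' * pw = rep 5 * wy (0, 1, 2) ∧ gA * (pa' * pa') * pw = rep 2 * wy (1, 0, 1) ∧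
    gA * (pa * pa') * pw = rep 1 * wy (1, 2, 0) ∧ gA * (pa * (pa' * pa')) * pw = rep 3 * wy (0, 1, 3) ∧
    gA * (pa * pa * pa') * pw = rep 8 * wy (1, 1, 2) ∧ gA * (pa * pa * (pa' * pa')) * pw = rep 7 * wy (1, 0, 3) := by
  refine ⟨?_, ?_, ?_, ?_, ?_, ?_⟩ <;> apply Subtype.ext <;> decide +kernel

theorem tabB : gB * pa' * pw = rep 7 * wy (2, 0, 0) ∧ gB * (pa' * pa') * pw = rep 3 * wy (2, 1, 0) ∧
    gB * (pa * pa' * pa') * pw = rep 0 * wy (2, 2, 1) ∧ gB * (pa * pa' * (pa' * pa')) * pw = rep 5 * wy (2, 1, 1) ∧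
    gB * (pa * pa' * (pa * pa') * pa') * pw = rep 6 * wy (0, 0, 2) ∧
    gB * (pa * pa' * (pa * pa') * (pa' * pa')) * pw = rep 1 * wy (0, 0, 0) := by
  refine ⟨?_, ?_, ?_, ?_, ?_, ?_⟩ <;> apply Subtype.ext <;> decide +kernel

section
variable {F : Type u} [Field F] {M : Type v} [AddCommGroup M] [Module F M]
  (ρ : Representation F ↥(alternatingGroup (Fin 6)) M)

theorem rm (x y : ↥(alternatingGroup (Fin 6))) (m : M) : ρ (x * y) m = ρ x (ρ y m) := by
  rw [map_mul, Module.End.mul_apply]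

theorem r1 (m : M) : ρ 1 m = m := by rw [map_one, Module.End.one_apply]

theorem fixp {x : ↥(alternatingGroup (Fin 6))} {v : M} (h : ρ x v = v) (k : ℕ) : ρ (x ^ k) v = v := by
  induction k with
  | zero => rw [pow_zero, r1]
  | succ k ih => rw [pow_succ, rm, h, ih]

/-- `v` is fixed by `Y` -/
def FY (v : M) : Prop := ρ pa v = v ∧ ρ pa' v = v ∧ ρ py v = v

theorem FY.wy {v : M} (h : FY ρ v) (e : ℕ × ℕ × ℕ) : ρ (wy e) v = v := by
  unfold I2.wy
  rw [rm, rm, fixp ρ h.2.2, fixp ρ h.2.1, fixp ρ h.1]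

theorem sum_rep (v : M) : ∑ k : Fin 10, ρ (rep k) v = Ec ρ v + Ec ρ (ρ pr v) := by
  unfold rep Ec
  rw [Fin.sum_univ_eq_sum_range (fun k => ρ (z5 ^ (k % 5) * pr ^ (k / 5)) v) 10]
  simp only [Finset.sum_range_succ, Finset.sum_range_zero, zero_add]
  norm_num
  abel

theorem fix_all {v : M} (h1 : ρ z5 v = v) (h2 : ρ x2 v = v) (g : ↥(alternatingGroup (Fin 6))) : ρ g v = v := by
  let K : Subgroup ↥(alternatingGroup (Fin 6)) :=
    { carrier := {x | ρ x v = v}
      one_mem' := r1 ρ v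
      mul_mem' := by
        intro x y hx hy
        show ρ (x * y) v = v
        rw [rm, show ρ y v = v from hy, show ρ x v = v from hx]
      inv_mem' := by
        intro x hx
        show ρ x⁻¹ v = v
        conv_lhs => rw [← show ρ x v = v from hx]
        rw [← rm, inv_mul_cancel, r1] }
  exact gen (H := K) h1 h2 g

/-- the sums over the two orbits agree -/
theorem sum_zero (hinv : ρ.invariants = ⊥) {v : M} (hv : FY ρ v) : ∑ k : Fin 10, ρ (rep k) v = 0 := by
  have h1 : ρ z5 (∑ k : Fin 10, ρ (rep k) v) = ∑ k : Fin 10, ρ (rep k) v := by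
    rw [sum_rep, map_add, ← Module.End.mul_apply, ← Module.End.mul_apply, mul_Ec]
  have h2 : ρ pa' (∑ k : Fin 10, ρ (rep k) v) = ∑ k : Fin 10, ρ (rep k) v := by
    rw [map_sum]
    have h3 : ∀ k : Fin 10, ρ pa' (ρ (rep k) v) = ρ (rep (piE k)) v := by
      intro k
      rw [← rm, tab, rm, hv.wy]
      rfl
    rw [Finset.sum_congr rfl fun k _ => h3 k]
    exact Equiv.sum_comp piE fun k => ρ (rep k) v
  have h3 : ∑ k : Fin 10, ρ (rep k) v ∈ ρ.invariants := by
    rw [Representation.mem_invariants]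
    refine fix_all ρ h1 ?_
    rw [x2_word, rm, h2, h2]
  rw [hinv, Submodule.mem_bot] at h3
  exact h3

theorem Ec_rep (h2 : (2 : F) = 0) (hinv : ρ.invariants = ⊥) {v : M} (hv : FY ρ v) (k : Fin 10) (e : ℕ × ℕ × ℕ) :
    Ec ρ (ρ (rep k * I2.wy e) v) = Ec ρ v := by
  rw [rm, hv.wy]
  have h1 := sum_zero ρ hinv hv
  rw [sum_rep] at h1
  have h3 : Ec ρ (ρ pr v) = Ec ρ v := by
    have h4 := eq_neg_of_add_eq_zero_right h1
    rwa [neg0 h2] at h4
  unfold rep
  rw [rm, Ec_apply]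
  have h5 : k.val / 5 = 0 ∨ k.val / 5 = 1 := by omega
  rcases h5 with h5 | h5
  · rw [h5, pow_zero, r1]
  · rw [h5, pow_one, h3]

theorem E1_apply (m : M) : E1 ρ m = ρ pa' m + ρ (pa' * pa') m + ρ (pa * pa') m + ρ (pa * (pa' * pa')) m +
    ρ (pa * pa * pa') m + ρ (pa * pa * (pa' * pa')) m := by
  unfold E1
  simp only [Module.End.mul_apply, LinearMap.add_apply, Module.End.one_apply, map_add, rm]
  abel

theorem E2_apply (m : M) : E2 ρ m = ρ pa' m + ρ (pa' * pa') m + ρ (pa * pa' * pa') m + ρ (pa * pa' * (pa' * pa')) m +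
    ρ (pa * pa' * (pa * pa') * pa') m + ρ (pa * pa' * (pa * pa') * (pa' * pa')) m := by
  unfold E2
  simp only [Module.End.mul_apply, LinearMap.add_apply, Module.End.one_apply, map_add, rm]
  abel

theorem cst (h2 : (2 : F) = 0) (hinv : ρ.invariants = ⊥) {v : M} (hv : FY ρ v) {g x : ↥(alternatingGroup (Fin 6))}
    {k : Fin 10} {e : ℕ × ℕ × ℕ} (ht : g * x * pw = rep k * I2.wy e) : Ec ρ (ρ g (ρ x (ρ pw v))) = Ec ρ v := by
  rw [← rm, ← rm, ht, Ec_rep ρ h2 hinv hv]

theorem kerA (h2 : (2 : F) = 0) (hinv : ρ.invariants = ⊥) {v : M} (hv : FY ρ v) :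
    Ec ρ (ρ gA (E1 ρ (ρ pw v))) = 0 := by
  obtain ⟨t1, t2, t3, t4, t5, t6⟩ := tabA
  rw [E1_apply]
  simp only [map_add]
  rw [cst ρ h2 hinv hv t1, cst ρ h2 hinv hv t2, cst ρ h2 hinv hv t3, cst ρ h2 hinv hv t4, cst ρ h2 hinv hv t5,
    cst ρ h2 hinv hv t6, two0 h2, zero_add, two0 h2, zero_add, two0 h2]

theorem kerB (h2 : (2 : F) = 0) (hinv : ρ.invariants = ⊥) {v : M} (hv : FY ρ v) :
    Ec ρ (ρ gB (E2 ρ (ρ pw v))) = 0 := by
  obtain ⟨t1, t2, t3, t4, t5, t6⟩ := tabB
  rw [E2_apply]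
  simp only [map_add]
  rw [cst ρ h2 hinv hv t1, cst ρ h2 hinv hv t2, cst ρ h2 hinv hv t3, cst ρ h2 hinv hv t4, cst ρ h2 hinv hv t5,
    cst ρ h2 hinv hv t6, two0 h2, zero_add, two0 h2, zero_add, two0 h2]

/-- `w v` is fixed by `a` if `e₁`, `e₂` kill it -/
theorem fix_w (h2 : (2 : F) = 0) {u' : M} (hy : ρ py u' = u') (h1 : E1 ρ u' = 0) (h3 : E2 ρ u' = 0) :
    ρ pa u' = u' := by
  have hA : ∀ m, ρ pa (ρ pa (ρ pa m)) = m := fun m => by rw [← rm, ← rm, pa3, r1]
  have hA' : ∀ m, ρ pa' (ρ pa' (ρ pa' m)) = m := fun m => by rw [← rm, ← rm, pa'3, r1]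
  have hc : ∀ m, ρ pa' (ρ pa m) = ρ pa (ρ pa' m) := fun m => by rw [← rm, ← rm, pcomm]
  have ya : ∀ m, ρ py (ρ pa m) = ρ pa' (ρ py m) := fun m => by
    rw [← rm, ← rm, ← py_a, inv_mul_cancel_right]
  have ya' : ∀ m, ρ py (ρ pa' m) = ρ pa (ρ pa (ρ py m)) := fun m => by
    rw [← rm, ← rm, ← rm, ← py_a', inv_mul_cancel_right]
  rw [E1_apply] at h1
  rw [E2_apply] at h3
  have h4 := congrArg (ρ py) h1
  have h5 := congrArg (ρ py) h3
  simp only [rm, map_add, map_zero, ya, ya', hy, hc, hA, hA'] at h1 h3 h4 h5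
  have h6 : ρ pa u' + ρ pa (ρ pa u') + ρ pa' u' + ρ pa' (ρ pa' u') + ρ pa (ρ pa' u') + ρ pa (ρ pa (ρ pa' u')) +
      ρ pa (ρ pa' (ρ pa' u')) + ρ pa (ρ pa (ρ pa' (ρ pa' u'))) = 0 := by
    set S8 := ρ pa u' + ρ pa (ρ pa u') + ρ pa' u' + ρ pa' (ρ pa' u') + ρ pa (ρ pa' u') + ρ pa (ρ pa (ρ pa' u')) +
      ρ pa (ρ pa' (ρ pa' u')) + ρ pa (ρ pa (ρ pa' (ρ pa' u'))) with hS
    have h7 : S8 + S8 + S8 = 0 := by
      rw [hS]
      have h8 := congrArg₂ (· + ·) (congrArg₂ (· + ·) h1 h3) (congrArg₂ (· + ·) h4 h5)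
      simp only [add_zero] at h8
      rw [← h8]
      abel
    rwa [two0 h2, zero_add] at h7
  have h7 := congrArg (fun x => ρ pa (u' + x)) h6
  simp only [map_add, add_zero, hA] at h7
  rw [← h7]
  have h8 : u' = u' + (ρ pa u' + ρ pa (ρ pa u') + ρ pa' u' + ρ pa' (ρ pa' u') + ρ pa (ρ pa' u') +
      ρ pa (ρ pa (ρ pa' u')) + ρ pa (ρ pa' (ρ pa' u')) + ρ pa (ρ pa (ρ pa' (ρ pa' u')))) := by rw [h6, add_zero]
  conv_rhs => rw [h8]
  abel

/-- the idempotent for `b` -/
noncomputable def EE (b : ↥(alternatingGroup (Fin 6))) : Module.End F M :=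
  (1 + ρ b + ρ (b * b)) * (ρ pa' + ρ (pa' * pa'))

/-- the space for `b` -/
def SS (b : ↥(alternatingGroup (Fin 6))) : Submodule F M := Fx (ρ b) ⊓ Kp (ρ pa') ⊓ Fx (ρ (py * py))

theorem EE_apply (b : ↥(alternatingGroup (Fin 6))) (m : M) : EE ρ b m = ρ pa' m + ρ pa' (ρ pa' m) + ρ b (ρ pa' m) +
    ρ b (ρ pa' (ρ pa' m)) + ρ b (ρ b (ρ pa' m)) + ρ b (ρ b (ρ pa' (ρ pa' m))) := by
  unfold EE
  simp only [Module.End.mul_apply, LinearMap.add_apply, Module.End.one_apply, map_add, rm]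
  abel

variable {b : ↥(alternatingGroup (Fin 6))} (hb3 : b * b * b = 1) (hbc : b * pa' = pa' * b)
  (hbs : py * py * b = b * b * (py * py))

include hb3 in
theorem b3 (m : M) : ρ b (ρ b (ρ b m)) = m := by rw [← rm, ← rm, hb3, r1]

theorem a3' (m : M) : ρ pa' (ρ pa' (ρ pa' m)) = m := by rw [← rm, ← rm, pa'3, r1]

include hbc in
theorem bc (m : M) : ρ pa' (ρ b m) = ρ b (ρ pa' m) := by rw [← rm, ← rm, hbc]

include hbs in
theorem sb (m : M) : ρ (py * py) (ρ b m) = ρ b (ρ b (ρ (py * py) m)) := by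
  rw [← rm, ← rm, ← rm, hbs]

theorem sa' (m : M) : ρ (py * py) (ρ pa' m) = ρ pa' (ρ pa' (ρ (py * py) m)) := by
  rw [← rm, ← rm, ← rm, pys_a']

include hb3 hbs in
theorem EE_comm (m : M) : ρ (py * py) (EE ρ b m) = EE ρ b (ρ (py * py) m) := by
  simp only [EE_apply, map_add, sb ρ hbs, sa' ρ, b3 ρ hb3]
  simp only [a3' ρ]
  abel

include hb3 hbc hbs in
/-- the images of fixed vectors -/
theorem EE_mem (h2 : (2 : F) = 0) {m : M} (hm : ρ (py * py) m = m) : EE ρ b m ∈ SS ρ b := by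
  refine ⟨⟨?_, ?_⟩, ?_⟩
  · show _ ∈ Fx _
    rw [mem_Fx, EE_apply]
    simp only [map_add, b3 ρ hb3]
    abel
  · show _ ∈ Kp _
    rw [mem_Kp]
    have e : EE ρ b m + ρ pa' (EE ρ b m) + ρ pa' (ρ pa' (EE ρ b m)) =
        (m + ρ pa' m + ρ pa' (ρ pa' m) + ρ b m + ρ b (ρ pa' m) + ρ b (ρ pa' (ρ pa' m)) + ρ b (ρ b m) +
          ρ b (ρ b (ρ pa' m)) + ρ b (ρ b (ρ pa' (ρ pa' m)))) +
        (m + ρ pa' m + ρ pa' (ρ pa' m) + ρ b m + ρ b (ρ pa' m) + ρ b (ρ pa' (ρ pa' m)) + ρ b (ρ b m) +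
          ρ b (ρ b (ρ pa' m)) + ρ b (ρ b (ρ pa' (ρ pa' m)))) := by
      rw [EE_apply]
      simp only [map_add, bc ρ hbc, a3' ρ]
      abel
    rw [e, two0 h2]
  · show _ ∈ Fx _
    rw [mem_Fx, EE_comm ρ hb3 hbs, hm]

include hb3 hbc hbs in
theorem Q_mem (h2 : (2 : F) = 0) (m : M) : ((1 + ρ (py * py)) * EE ρ b) m ∈ SS ρ b := by
  have h1 : ((1 + ρ (py * py)) * EE ρ b) m = EE ρ b (m + ρ (py * py) m) := by
    rw [Module.End.mul_apply, LinearMap.add_apply, Module.End.one_apply, EE_comm ρ hb3 hbs, map_add]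
  rw [h1]
  refine EE_mem ρ hb3 hbc hbs h2 ?_
  rw [map_add, ← rm, py4, r1, add_comm]

include hbc in
theorem Sdim [FiniteDimensional F M] (h2 : (2 : F) = 0) :
    2 * finrank F ↥(SS ρ b) + finrank F ↥(Fx (ρ b) ⊓ Fx (ρ pa')) ≤ finrank F ↥(Fx (ρ b)) := by
  have hst : ∀ m ∈ Fx (ρ b), ρ pa' m ∈ Fx (ρ b) := fun m hm => by
    rw [mem_Fx] at hm ⊢
    rw [← bc ρ hbc, hm]
  have h1 := split h2 (a3' ρ) (Fx (ρ b)) hst
  have h3 := dbl (a3' ρ) (sa' ρ) (Fx (ρ b) ⊓ Kp (ρ pa')) (by
    rintro m ⟨h4, h5⟩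
    refine ⟨hst m h4, ?_⟩
    show _ ∈ Kp (ρ pa')
    have h5' := mem_Kp.1 h5
    rw [mem_Kp, ← map_add, ← map_add, h5', map_zero]) (by
    rintro m ⟨-, h5⟩ h6
    have h5' := mem_Kp.1 h5
    rw [h6, h6, two0 h2, zero_add] at h5'
    exact h5')
  have e : SS ρ b = Fx (ρ b) ⊓ Kp (ρ pa') ⊓ Fx (ρ (py * py)) := rfl
  rw [e]
  omega

/-- the fixed space of `Y` -/
def YY : Submodule F M := Fx (ρ pa) ⊓ Fx (ρ pa') ⊓ Fx (ρ (py * py)) ⊓ Fx (ρ py)

theorem YY_FY {v : M} (hv : v ∈ YY ρ) : FY ρ v := ⟨mem_Fx.1 hv.1.1.1, mem_Fx.1 hv.1.1.2, mem_Fx.1 hv.2⟩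

theorem Ydim [FiniteDimensional F M] (h2 : (2 : F) = 0) :
    finrank F ↥(Fx (ρ pa) ⊓ Fx (ρ pa')) ≤ 4 * finrank F ↥(YY ρ) := by
  have ya : ∀ m, ρ pa' (ρ py m) = ρ py (ρ pa m) := fun m => by
    rw [← rm, ← rm, ← py_a, inv_mul_cancel_right]
  have ya' : ∀ m, ρ pa (ρ pa (ρ py m)) = ρ py (ρ pa' m) := fun m => by
    rw [← rm, ← rm, ← rm, ← py_a', inv_mul_cancel_right]
  have stab : ∀ m ∈ Fx (ρ pa) ⊓ Fx (ρ pa'), ρ py m ∈ Fx (ρ pa) ⊓ Fx (ρ pa') := by
    rintro m ⟨h4, h5⟩
    have h4' : ρ pa m = m := mem_Fx.1 h4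
    have h5' : ρ pa' m = m := mem_Fx.1 h5
    refine ⟨?_, ?_⟩
    · show _ ∈ Fx (ρ pa)
      rw [mem_Fx]
      have h6 := ya' m
      rw [h5'] at h6
      have h7 := congrArg (ρ pa) h6
      rw [b3 ρ pa3] at h7
      exact h7.symm
    · show _ ∈ Fx (ρ pa')
      rw [mem_Fx, ya, h4']
  have h1 := half h2 (T := ρ (py * py)) (Fx (ρ pa) ⊓ Fx (ρ pa')) (by
    intro m hm
    rw [rm]
    exact stab _ (stab _ hm)) (by
    intro m _
    rw [← rm, py4, r1])
  have h3 := half h2 (T := ρ py) (Fx (ρ pa) ⊓ Fx (ρ pa') ⊓ Fx (ρ (py * py))) (by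
    rintro m ⟨h4, h5⟩
    refine ⟨stab m h4, ?_⟩
    show _ ∈ Fx _
    have h5' : ρ (py * py) m = m := mem_Fx.1 h5
    rw [mem_Fx, ← rm, mul_assoc, rm, h5']) (by
    rintro m ⟨-, h5⟩
    rw [← rm]
    exact mem_Fx.1 h5)
  have e : YY ρ = Fx (ρ pa) ⊓ Fx (ρ pa') ⊓ Fx (ρ (py * py)) ⊓ Fx (ρ py) := rfl
  rw [e]
  omega

theorem pb3 : pa * pa' * (pa * pa') * (pa * pa') = 1 := by apply Subtype.ext; decide +kernel
theorem pbc : pa * pa' * pa' = pa' * (pa * pa') := by apply Subtype.ext; decide +kernel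
theorem pbs : py * py * (pa * pa') = pa * pa' * (pa * pa') * (py * py) := by apply Subtype.ext; decide +kernel

theorem E1_mem (h2 : (2 : F) = 0) {m : M} (hm : ρ (py * py) m = m) : E1 ρ m ∈ SS ρ pa :=
  EE_mem ρ pa3 pcomm pys_a h2 hm

theorem E2_mem (h2 : (2 : F) = 0) {m : M} (hm : ρ (py * py) m = m) : E2 ρ m ∈ SS ρ (pa * pa') :=
  EE_mem ρ pb3 pbc pbs h2 hm

theorem Q1_mem (h2 : (2 : F) = 0) (m : M) : Q1 ρ m ∈ SS ρ pa := Q_mem ρ pa3 pcomm pys_a h2 m

theorem Q2_mem (h2 : (2 : F) = 0) (m : M) : Q2 ρ m ∈ SS ρ (pa * pa') := Q_mem ρ pb3 pbc pbs h2 m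

/-- the map of (T2) -/
noncomputable def Th : (↥(SS ρ pa) × ↥(SS ρ (pa * pa'))) →ₗ[F] M :=
  LinearMap.coprod ((Ec ρ * ρ gA).comp (SS ρ pa).subtype) ((Ec ρ * ρ gB).comp (SS ρ (pa * pa')).subtype)

theorem Th_apply (x : ↥(SS ρ pa)) (y : ↥(SS ρ (pa * pa'))) :
    Th ρ (x, y) = Ec ρ (ρ gA x) + Ec ρ (ρ gB y) := by
  unfold Th
  rw [LinearMap.coprod_apply]
  rfl

theorem y_w {v : M} (hv : FY ρ v) : ρ py (ρ pw v) = ρ pw v := by
  rw [← rm, pw_y, rm, rm, rm, hv.2.2, hv.2.2, hv.2.2]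

theorem s_w {v : M} (hv : FY ρ v) : ρ (py * py) (ρ pw v) = ρ pw v := by
  rw [rm, y_w ρ hv, y_w ρ hv]

/-- the map of (T1) -/
noncomputable def Ka (h2 : (2 : F) = 0) : ↥(YY ρ) →ₗ[F] (↥(SS ρ pa) × ↥(SS ρ (pa * pa'))) :=
  LinearMap.prod
    (LinearMap.codRestrict (SS ρ pa) ((E1 ρ * ρ pw).comp (YY ρ).subtype) fun v =>
      E1_mem ρ h2 (s_w ρ (YY_FY ρ v.2)))
    (LinearMap.codRestrict (SS ρ (pa * pa')) ((E2 ρ * ρ pw).comp (YY ρ).subtype) fun v =>
      E2_mem ρ h2 (s_w ρ (YY_FY ρ v.2)))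

theorem Ka_inj (h2 : (2 : F) = 0) (hinv : ρ.invariants = ⊥) : Function.Injective (Ka ρ h2) := by
  rw [← LinearMap.ker_eq_bot, LinearMap.ker_eq_bot']
  intro v hv
  have h1 : E1 ρ (ρ pw (v : M)) = 0 := congrArg (fun x => ((x.1 : ↥(SS ρ pa)) : M)) hv
  have h3 : E2 ρ (ρ pw (v : M)) = 0 := congrArg (fun x => ((x.2 : ↥(SS ρ (pa * pa'))) : M)) hv
  have hY := YY_FY ρ v.2
  have h4 := fix_w ρ h2 (y_w ρ hY) h1 h3
  have h5 : ρ (pw * pa * pw) (v : M) = v := by
    rw [rm, rm, h4, ← rm, pw2, r1]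
  have h6 : ρ z5 (v : M) = v := by
    rw [z5_word, rm, rm, rm, hY.1, h5, h5, hY.2.1]
  have h7 : ρ x2 (v : M) = v := by
    rw [x2_word, rm, hY.2.1, hY.2.1]
  have h8 : (v : M) ∈ ρ.invariants := by
    rw [Representation.mem_invariants]
    exact fix_all ρ h6 h7
  rw [hinv, Submodule.mem_bot] at h8
  exact Subtype.ext h8

theorem Th_Ka (h2 : (2 : F) = 0) (hinv : ρ.invariants = ⊥) (v : ↥(YY ρ)) : Th ρ (Ka ρ h2 v) = 0 := by
  have h1 : Ka ρ h2 v = (⟨E1 ρ (ρ pw (v : M)), E1_mem ρ h2 (s_w ρ (YY_FY ρ v.2))⟩,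
    ⟨E2 ρ (ρ pw (v : M)), E2_mem ρ h2 (s_w ρ (YY_FY ρ v.2))⟩) := rfl
  rw [h1, Th_apply]
  show Ec ρ (ρ gA (E1 ρ (ρ pw (v : M)))) + Ec ρ (ρ gB (E2 ρ (ρ pw (v : M)))) = 0
  rw [kerA ρ h2 hinv (YY_FY ρ v.2), kerB ρ h2 hinv (YY_FY ρ v.2), add_zero]

/-- **the main inequality** -/
theorem main [FiniteDimensional F M] (h2 : (2 : F) = 0) (hinv : ρ.invariants = ⊥)
    (hco : ∀ f : Module.Dual F M, (∀ g m, f (ρ g m) = f m) → f = 0) :
    finrank F ↥(Fx (ρ z5)) + finrank F ↥(YY ρ) ≤ finrank F ↥(SS ρ pa) + finrank F ↥(SS ρ (pa * pa')) := by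
  have h1 := LinearMap.finrank_range_add_finrank_ker (Th ρ)
  rw [Module.finrank_prod] at h1
  have h3 : Fx (ρ z5) ≤ LinearMap.range (Th ρ) := by
    intro s hs
    obtain ⟨m1, m2, h4⟩ := surj ρ h2 hco (mem_Fx.1 hs)
    exact ⟨(⟨_, Q1_mem ρ h2 m1⟩, ⟨_, Q2_mem ρ h2 m2⟩), by rw [Th_apply]; exact h4.symm⟩
  have h4 := Submodule.finrank_mono h3
  have h5 : finrank F ↥(YY ρ) ≤ finrank F ↥(LinearMap.ker (Th ρ)) := by
    refine LinearMap.finrank_le_finrank_of_injective
      (f := LinearMap.codRestrict (LinearMap.ker (Th ρ)) (Ka ρ h2) (fun v => Th_Ka ρ h2 hinv v)) ?_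
    intro a b hab
    exact Ka_inj ρ h2 hinv (Subtype.ext_iff.1 hab)
  omega

/-- **the decomposition**: `dim M + 3 dim M^E = 2 (dim M^a + dim M^b)` -/
theorem dimE [FiniteDimensional F M] (h2 : (2 : F) = 0) :
    finrank F M + 3 * finrank F ↥(Fx (ρ pa) ⊓ Fx (ρ pa')) = 2 * (ev (ρ pa) 1 + ev (ρ (pa * pa')) 1) := by
  have h1 := decomp h2 (b3 ρ pa3) (a3' ρ) (fun m => (bc ρ pcomm m).symm)
  have e1 : finrank F ↥(Fx (ρ pa')) = finrank F ↥(Fx (ρ pa)) := by
    have h3 := ev_cj ρ py pa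
    rw [py_a] at h3
    exact h3
  have e2 : ρ pa * ρ pa' = ρ (pa * pa') := (map_mul ρ _ _).symm
  have e3 : ρ pa * (ρ pa' * ρ pa') = ρ (pa * (pa' * pa')) := by rw [map_mul, map_mul]
  have e4 : finrank F ↥(Fx (ρ (pa * (pa' * pa')))) = finrank F ↥(Fx (ρ (pa * pa'))) := by
    have h3 := ev_cj ρ py (pa * (pa' * pa'))
    have h4 : py * (pa * (pa' * pa')) * py⁻¹ = pa * pa' := by apply Subtype.ext; decide +kernel
    rw [h4] at h3
    exact h3.symm
  rw [e2, e3, e1, e4] at h1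
  show _ = 2 * (finrank F ↥(Fx (ρ pa)) + finrank F ↥(Fx (ρ (pa * pa'))))
  omega

theorem FbFa' : Fx (ρ (pa * pa')) ⊓ Fx (ρ pa') = Fx (ρ pa) ⊓ Fx (ρ pa') := by
  ext m
  rw [Submodule.mem_inf, Submodule.mem_inf, mem_Fx, mem_Fx, mem_Fx, rm]
  constructor
  · rintro ⟨h1, h3⟩
    rw [h3] at h1
    exact ⟨h1, h3⟩
  · rintro ⟨h1, h3⟩
    refine ⟨?_, h3⟩
    rw [h3, h1]

end

/-- **INEQ** -/
theorem ineq6 {F : Type u} [Field F] (h2 : (2 : F) = 0) : Ineq F pa (pa * pa') z5 := by
  intro M _ _ _ ρ hinv hco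
  have h1 := main ρ h2 hinv hco
  have h3 := dimE ρ h2
  have h4 := Sdim ρ (b := pa) pcomm h2
  have h5 := Sdim ρ (b := pa * pa') pbc h2
  have h6 := Ydim ρ h2
  rw [FbFa'] at h5
  have e1 : ev (ρ z5) 1 = finrank F ↥(Fx (ρ z5)) := rfl
  have e2 : ev (ρ pa) 1 = finrank F ↥(Fx (ρ pa)) := rfl
  have e3 : ev (ρ (pa * pa')) 1 = finrank F ↥(Fx (ρ (pa * pa'))) := rfl
  rw [e1, e2, e3]
  rw [e2, e3] at h3
  omega

/-- **LOW** -/
theorem low6 {F : Type u} [Field F] (h2 : (2 : F) = 0) : Low F pa (pa * pa') := by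
  intro M _ _ _ ρ
  have h3 := dimE ρ h2
  omega

end Cfsg.Agent.R2.T1.N6D.I2
end
end
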