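import Cfsg.Agent.R2.T1.Odd.T9
import Cfsg.Agent.S0254
import Cfsg.Agent.R2.H28.SL2.ExtY_m3
import Cfsg.Agent.H952.F4.Scott_m3
import Cfsg.Agent.R2.PX.W.Cl_m3
import Mathlib
import Cfsg.Agent.R2.T1.Odd.El
import Cfsg.Agent.R2.T1.Inf.Cnt_m3
import Cfsg.Agent.R2.T1.P3.Q3
import Cfsg.Agent.R2.T1.N6D.Out_m3
import Cfsg.Agent.R2.T1.N6R.Twi_m3
import Cfsg.Agent.R2.H28.SL2.Bas_m3
import Cfsg.Agent.H179.SLC.Coc_m3
import Cfsg.Agent.R2.T1.Odd.Nrm
import Cfsg.Agent.R2.T1.E5.Tor_m3
import Cfsg.Agent.R2.T1.Five.TwoE_m3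
import Cfsg.Agent.H952.F4.TabClosed
import Cfsg.Agent.FastGrp
import Cfsg.Agent.Prune
set_option linter.all false

section
prune_inst 0x7ffeacf9abb8a9dfdfff7e77a6dccdfdf9b83fffa4dff9cb7fe063ff2bdf6b00c9c5638d8bea10fe0ed6c21410e87b43fb7eea3fea6bdc7ffffd5ff41ffbfe0ffdf7b508119488340f380ff603f0778e7f3ffffffffcffffffffffffffffffbeffbfffffffff

-- part: R2/T1/N6L/Dat
section
set_option linter.all false

/-!
# S5929, n = 6, p = 3, lift: the format of the patterns (helper11)

`Dat ψ τ a b d2 d4 d5 u v` : `a`, `b` are elements of order 5, 4 of `A₆`, `τ ^ 2 + τ = 1` (so `9` divides a power of `|F|`),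
the dimensions of the fixed spaces of `b ^ 2`, `b`, `a` on the module of degree 56 are `d2`, `d4`, `d5`, the eigenvalues
`ζ`, `ζ⁻¹` with `ζ + ζ⁻¹ = τ` of `a` have the multiplicity `u`, the other two (`ζ + ζ⁻¹ = -1 - τ`) the multiplicity `v`.

`Q1 = Dat ψ τ a b 24 12 12 10 12` : composition factors `1² 3a⁴ 3b⁶ 4⁶`;
`Q3 = Dat ψ τ a b 32 12 12 12 10` : composition factors `1¹⁰ 3a² 4¹⁰`.
-/

set_option autoImplicit false

namespace Cfsg.Agent.R2.T1.N6L

open Cfsg Cfsg.Lie Module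
open Cfsg.Agent.H943.E7V.Block (D1 rho)
open Cfsg.Agent.H952.F4 (ev es MaxAlt)
open Cfsg.Agent.R2.T1

universe u

/-- the dimensions of the fixed spaces and of the eigenspaces -/
structure Dat {F : Type u} [Field F] (ψ : ↥(alternatingGroup (Fin 6)) →* Gh F) (τ : F) (a b : ↥(alternatingGroup (Fin 6)))
    (d2 d4 d5 u v : ℕ) : Prop where
  oa : orderOf a = 5
  ob : orderOf b = 4
  hτ : τ * τ + τ - 1 = 0
  two : ev (V F (ψ (b * b))) 1 = d2
  four : ev (V F (ψ b)) 1 = d4
  five : ev (V F (ψ a)) 1 = d5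
  qu : finrank F ↥(LinearMap.ker (Five.qd τ (V F (ψ a)))) = 2 * u
  qv : finrank F ↥(LinearMap.ker (Five.qd (-1 - τ) (V F (ψ a)))) = 2 * v

end Cfsg.Agent.R2.T1.N6L
end

-- part: R2/T1/N6L/MuDef
section
set_option linter.all false
open scoped Cfsg.Agent.FastGrp

/-!
# S5929, n = 6, p = 3: multiplicities (helper11)

`Mu ρ τ a n na nb m l` : the representation `ρ` of `A₆` in characteristic 3 has `n` factors `1`, `na` factors `3a` (the
one with the eigenvalues `ζ`, `ζ⁻¹`, `ζ + ζ⁻¹ = τ` of `a`), `nb` factors `3b`, `m` factors `4`, `l` factors `9`.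
-/

set_option autoImplicit false

namespace Cfsg.Agent.R2.T1.N6L

open Module
open Cfsg.Agent.H952.F4 (ev es MaxAlt)
open Cfsg.Agent.R2.T1

universe u v

/-- the dimensions determined by the composition factors -/
structure Mu {F : Type u} [Field F] {M : Type v} [AddCommGroup M] [Module F M]
    (ρ : Representation F ↥(alternatingGroup (Fin 6)) M) (τ : F) (a : ↥(alternatingGroup (Fin 6)))
    (n na nb m l : ℕ) : Prop where
  dim : finrank F M = n + 3 * na + 3 * nb + 4 * m + 9 * l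
  two : ∀ x : ↥(alternatingGroup (Fin 6)), orderOf x = 2 → ev (ρ x) 1 = n + na + nb + 2 * m + 5 * l
  four : ∀ x : ↥(alternatingGroup (Fin 6)), orderOf x = 4 → ev (ρ x) 1 = n + na + nb + 3 * l
  five : ∀ x : ↥(alternatingGroup (Fin 6)), orderOf x = 5 → ev (ρ x) 1 = n + na + nb + l
  qu : finrank F ↥(LinearMap.ker (Five.qd τ (ρ a))) = 2 * (na + m + 2 * l)
  qv : finrank F ↥(LinearMap.ker (Five.qd (-1 - τ) (ρ a))) = 2 * (nb + m + 2 * l)
  press : n ≤ finrank F ↥(Representation.invariants ρ) + 2 * m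

/-- the multiplicities are determined by the dimensions -/
theorem Mu.unique {F : Type u} [Field F] {M : Type v} [AddCommGroup M] [Module F M]
    {ρ : Representation F ↥(alternatingGroup (Fin 6)) M} {τ : F} {a : ↥(alternatingGroup (Fin 6))}
    (ha : orderOf a = 5) {x y : ↥(alternatingGroup (Fin 6))} (hx : orderOf x = 2) (hy : orderOf y = 4)
    {n na nb m l n' na' nb' m' l' : ℕ} (h : Mu ρ τ a n na nb m l) (h' : Mu ρ τ a n' na' nb' m' l') :
    n = n' ∧ na = na' ∧ nb = nb' ∧ m = m' ∧ l = l' := by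
  have h1 := h.dim
  have h2 := h.two x hx
  have h3 := h.four y hy
  have h4 := h.five a ha
  have h5 := h.qu
  have h6 := h.qv
  rw [h'.dim] at h1
  rw [h'.two x hx] at h2
  rw [h'.four y hy] at h3
  rw [h'.five a ha] at h4
  rw [h'.qu] at h5
  rw [h'.qv] at h6
  omega

end Cfsg.Agent.R2.T1.N6L
end

-- part: R2/T1/N6L/MuK
section
prune_inst 0x111041403562000000008590332020607c0000b000000800808008420101a040008200401e1014001288000140090048014c0010020000000a000400001d00000080040430400008000010000080000000000000300000000000000000000004000000000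
set_option linter.all false
open scoped Cfsg.Agent.FastGrp

-- part: R2/T1/N6L/Pi
section
/-!
# S5929, n = 6, p = 3: `SL(2, 9)` and `A₆` (helper11)

* `exists_pi` : `π : SL(2, 9) → A₆`, surjective with kernel `{±1}`;
* `exists_ss` : an element of order prime to 3 is semisimple;
* `lift2`, `lift4`, `lift5` : preimages of the elements of order 2, 4, 5.
-/

set_option autoImplicit false
set_option linter.unusedSectionVars false

namespace Cfsg.Agent.R2.T1.N6L

open Matrix Cfsg.Agent.H943.SL2Rel Cfsg.Agent.H943.SL2Mod Cfsg.Agent.H943.RepAdd Cfsg.Agent.R2.H28.SL2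
open Cfsg.Agent.H179.SLC (IsSS isSS_of_trace)

universe u v w

section pi
variable {F : Type w} [Field F] [Fintype F]

theorem two_ne (hF : Fintype.card F = 9) : (2 : F) ≠ 0 := by
  intro h
  have h1 : ((Fintype.card F : ℕ) : F) = 0 := FiniteField.cast_card_eq_zero F
  rw [hF] at h1
  have h2 : (1 : F) = 0 := by
    push_cast at h1
    linear_combination h1 - 4 * h
  exact one_ne_zero h2

theorem exists_pi (hF : Fintype.card F = 9) : ∃ π : _root_.Matrix.SpecialLinearGroup (Fin 2) F →* ↥(alternatingGroup (Fin 6)),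
    Function.Surjective π ∧ ∀ g, π g = 1 ↔ g = 1 ∨ g = -1 := by
  obtain ⟨e⟩ := Cfsg.Agent.S0254.result hF
  refine ⟨(e : ProjectiveSpecialLinearGroup (Fin 2) F →* ↥(alternatingGroup (Fin 6))).comp
    (QuotientGroup.mk' (Subgroup.center (_root_.Matrix.SpecialLinearGroup (Fin 2) F))), ?_, fun g => ?_⟩
  · intro y
    obtain ⟨x, rfl⟩ := e.surjective y
    obtain ⟨g, rfl⟩ := QuotientGroup.mk'_surjective _ x
    exact ⟨g, rfl⟩
  have h1 : ((e : ProjectiveSpecialLinearGroup (Fin 2) F →* ↥(alternatingGroup (Fin 6))).comp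
      (QuotientGroup.mk' (Subgroup.center (_root_.Matrix.SpecialLinearGroup (Fin 2) F)))) g = 1 ↔
      g ∈ Subgroup.center (_root_.Matrix.SpecialLinearGroup (Fin 2) F) := by
    rw [MonoidHom.comp_apply, MonoidHom.coe_coe, map_eq_one_iff e e.injective]
    exact QuotientGroup.eq_one_iff g
  rw [h1, Matrix.SpecialLinearGroup.mem_center_iff]
  constructor
  · rintro ⟨r, hr, hg⟩
    rw [Fintype.card_fin] at hr
    have h2 : (r - 1) * (r + 1) = 0 := by linear_combination hr
    rcases mul_eq_zero.1 h2 with h3 | h3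
    · left
      apply Subtype.ext
      rw [← hg, sub_eq_zero.1 h3]
      simp
    · right
      apply Subtype.ext
      rw [← hg, eq_neg_of_add_eq_zero_left h3]
      ext i j
      (revert i j; simp only [_root_.Fin.forall_fin_succ, _root_.Matrix.scalar_apply, _root_.Matrix.SpecialLinearGroup.coe_neg, _root_.Matrix.SpecialLinearGroup.coe_one, _root_.Matrix.neg_apply, Fin.isValue, _root_.Fin.succ_zero_eq_one, _root_.IsEmpty.forall_iff, _root_.and_true, _root_.Matrix.diagonal_apply_eq, _root_.Matrix.one_apply_eq, _root_.ne_eq, _root_.zero_ne_one, _root_.not_false_eq_true, _root_.Matrix.diagonal_apply_ne, Nat.reduceAdd, _root_.Matrix.one_apply_ne, _root_.neg_zero, _root_.and_self, _root_.Fin.succ_ne_zero, _root_.true_and])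
  · rintro (rfl | rfl)
    · exact ⟨1, by simp, by simp⟩
    · refine ⟨-1, by simp only [_root_.Fintype.card_fin, _root_.even_two, _root_.Even.neg_pow, _root_.one_pow], ?_⟩
      ext i j
      (revert i j; simp only [_root_.Fin.forall_fin_succ, _root_.Matrix.scalar_apply, _root_.Matrix.SpecialLinearGroup.coe_neg, _root_.Matrix.SpecialLinearGroup.coe_one, _root_.Matrix.neg_apply, Fin.isValue, _root_.Fin.succ_zero_eq_one, _root_.IsEmpty.forall_iff, _root_.and_true, _root_.Matrix.diagonal_apply_eq, _root_.Matrix.one_apply_eq, _root_.ne_eq, _root_.zero_ne_one, _root_.not_false_eq_true, _root_.Matrix.diagonal_apply_ne, Nat.reduceAdd, _root_.Matrix.one_apply_ne, _root_.neg_zero, _root_.and_self, _root_.Fin.succ_ne_zero, _root_.true_and])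

/-- involutions -/
theorem sq_one (h2 : (2 : F) ≠ 0) {g : _root_.Matrix.SpecialLinearGroup (Fin 2) F} (hg : g * g = 1) : g = 1 ∨ g = -1 := by
  have hdet := g.2
  rw [Matrix.det_fin_two] at hdet
  have h := congrArg Subtype.val hg
  rw [Matrix.SpecialLinearGroup.coe_mul, Matrix.SpecialLinearGroup.coe_one] at h
  have e00 : g.1 0 0 * g.1 0 0 + g.1 0 1 * g.1 1 0 = 1 := by
    have := congrFun (congrFun h 0) 0
    simpa only [Matrix.mul_apply, Fin.sum_univ_two, _root_.Fin.isValue, _root_.Matrix.one_apply_eq] using this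
  have e01 : g.1 0 0 * g.1 0 1 + g.1 0 1 * g.1 1 1 = 0 := by
    have := congrFun (congrFun h 0) 1
    simpa only [Matrix.mul_apply, Fin.sum_univ_two, _root_.Fin.isValue, _root_.ne_eq, _root_.zero_ne_one, _root_.not_false_eq_true, _root_.Matrix.one_apply_ne] using this
  have e10 : g.1 1 0 * g.1 0 0 + g.1 1 1 * g.1 1 0 = 0 := by
    have := congrFun (congrFun h 1) 0
    simpa only [Matrix.mul_apply, Fin.sum_univ_two, _root_.Fin.isValue, _root_.ne_eq, _root_.one_ne_zero, _root_.not_false_eq_true, _root_.Matrix.one_apply_ne] using this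
  have e11 : g.1 1 0 * g.1 0 1 + g.1 1 1 * g.1 1 1 = 1 := by
    have := congrFun (congrFun h 1) 1
    simpa only [Matrix.mul_apply, Fin.sum_univ_two, _root_.Fin.isValue, _root_.Matrix.one_apply_eq] using this
  have hs : g.1 0 0 + g.1 1 1 ≠ 0 := by
    intro hs
    apply h2
    have h3 : g.1 1 1 = -g.1 0 0 := eq_neg_of_add_eq_zero_right hs
    rw [h3] at hdet
    linear_combination (-1 : F) * hdet - e00
  have h01 : g.1 0 1 = 0 := by
    have : g.1 0 1 * (g.1 0 0 + g.1 1 1) = 0 := by linear_combination e01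
    exact (mul_eq_zero.1 this).resolve_right hs
  have h10 : g.1 1 0 = 0 := by
    have : g.1 1 0 * (g.1 0 0 + g.1 1 1) = 0 := by linear_combination e10
    exact (mul_eq_zero.1 this).resolve_right hs
  rw [h01, h10] at hdet
  rw [h01, h10] at e00
  have h3 : (g.1 0 0 - 1) * (g.1 0 0 + 1) = 0 := by linear_combination e00
  rcases mul_eq_zero.1 h3 with h4 | h4
  · left
    have h5 := sub_eq_zero.1 h4
    rw [h5] at hdet
    apply Subtype.ext
    rw [Matrix.SpecialLinearGroup.coe_one]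
    ext i j
    fin_cases i <;> fin_cases j
    · simpa using h5
    · simpa using h01
    · simpa using h10
    · simpa using hdet
  · right
    have h5 := eq_neg_of_add_eq_zero_left h4
    rw [h5] at hdet
    have h6 : g.1 1 1 = -1 := by linear_combination (-1 : F) * hdet
    apply Subtype.ext
    rw [Matrix.SpecialLinearGroup.coe_neg, Matrix.SpecialLinearGroup.coe_one]
    ext i j
    fin_cases i <;> fin_cases j
    · simpa using h5
    · simpa using h01
    · simpa using h10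
    · simpa using h6

/-- Cayley-Hamilton -/
theorem ch2 (g : _root_.Matrix.SpecialLinearGroup (Fin 2) F) :
    g.1 * g.1 = (g.1 0 0 + g.1 1 1) • g.1 - 1 := by
  have hdet := g.2
  rw [Matrix.det_fin_two] at hdet
  ext i j
  (revert i j; simp only [Matrix.mul_apply, Fin.sum_univ_two, _root_.Fin.forall_fin_succ, Fin.isValue, _root_.Matrix.sub_apply, _root_.Matrix.smul_apply, _root_.smul_eq_mul, _root_.Fin.succ_zero_eq_one, _root_.IsEmpty.forall_iff, _root_.and_true, _root_.Matrix.one_apply_eq, Nat.reduceAdd, _root_.ne_eq, _root_.zero_ne_one, _root_.not_false_eq_true, _root_.Matrix.one_apply_ne, _root_.sub_zero, _root_.Fin.succ_ne_zero]) <;> (repeat' with_reducible apply And.intro) <;>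
    first | ring1 | linear_combination (-1 : F) * hdet | linear_combination hdet

end pi

section ss

variable {k : Type u} [Field k] [IsAlgClosed k] [CharP k 3] {F : Type w} [Field F] [Fintype F] [DecidableEq F]
  (ι : F →+* k)

/-- elements of order prime to 3 are semisimple -/
theorem exists_ss (hF : Fintype.card F = 9) {g : _root_.Matrix.SpecialLinearGroup (Fin 2) F} {N : ℕ} (hN : g ^ N = 1)
    (h3 : N.Coprime 3) (h1 : g ≠ 1) (h1' : g ≠ -1) : ∃ ζ : k, IsSS ι g ζ := by
  have h2 := two_ne hF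
  have h30 : (3 : F) = 0 := by
    apply ι.injective
    rw [map_zero, map_ofNat]
    exact_mod_cast CharP.cast_eq_zero k 3
  set t : F := g.1 0 0 + g.1 1 1 with ht
  obtain ⟨ζ, hζ⟩ := IsAlgClosed.exists_root (Polynomial.X ^ 2 - Polynomial.C (ι t) * Polynomial.X + 1 : Polynomial k) (by
    have : (Polynomial.X ^ 2 - Polynomial.C (ι t) * Polynomial.X + 1 : Polynomial k).degree = 2 := by
      compute_degree!
    rw [this]
    norm_num)
  have hζ' : ζ ^ 2 - ι t * ζ + 1 = 0 := by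
    have := hζ
    rw [Polynomial.IsRoot.def] at this
    simpa only [_root_.Polynomial.eval_add, _root_.Polynomial.eval_sub, _root_.Polynomial.eval_pow, _root_.Polynomial.eval_X, _root_.Polynomial.eval_mul, _root_.Polynomial.eval_C, _root_.Polynomial.eval_one] using this
  have hζ0 : ζ ≠ 0 := by
    rintro rfl
    simp at hζ'
  have htr : ι t = ζ + ζ⁻¹ := by
    field_simp
    linear_combination (-1 : k) * hζ'
  by_cases hne : ζ = ζ⁻¹
  · exfalso
    have hsq : ζ * ζ = 1 := by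
      nth_rewrite 2 [hne]
      exact mul_inv_cancel₀ hζ0
    -- `t = 2 ε`
    obtain ⟨ε, hε, hεt⟩ : ∃ ε : F, ε * ε = 1 ∧ t = 2 * ε := by
      have h4 : (ζ - 1) * (ζ + 1) = 0 := by linear_combination hsq
      rcases mul_eq_zero.1 h4 with h5 | h5
      · refine ⟨1, by ring, ι.injective ?_⟩
        rw [htr, ← hne, sub_eq_zero.1 h5, map_mul, map_ofNat, map_one]
        ring
      · refine ⟨-1, by ring, ι.injective ?_⟩
        rw [htr, ← hne, eq_neg_of_add_eq_zero_left h5, map_mul, map_ofNat, map_neg, map_one]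
        ring
    have hch := ch2 g
    rw [← ht, hεt] at hch
    have hcube : g.1 * g.1 * g.1 = ε • (1 : Matrix (Fin 2) (Fin 2) F) := by
      rw [hch, sub_mul, one_mul, smul_mul_assoc, hch, smul_sub, smul_smul]
      have h5 : 2 * ε * (2 * ε) = 1 := by linear_combination (4 : F) * hε + h30
      have h6 : -(2 * ε) = ε := by linear_combination (-ε) * h30
      rw [h5, one_smul, sub_right_comm, sub_self, zero_sub, ← neg_smul, h6]
    have hg6 : g ^ 6 = 1 := by
      apply Subtype.ext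
      rw [Matrix.SpecialLinearGroup.coe_pow, Matrix.SpecialLinearGroup.coe_one]
      calc g.1 ^ 6 = (g.1 * g.1 * g.1) * (g.1 * g.1 * g.1) := by noncomm_ring
        _ = 1 := by rw [hcube, smul_mul_smul_comm, hε, one_mul, one_smul]
    have hg2 : g ^ 2 = 1 := by
      have h7 : orderOf g ∣ 6 := orderOf_dvd_of_pow_eq_one hg6
      have h8 : orderOf g ∣ N := orderOf_dvd_of_pow_eq_one hN
      have h9 : (orderOf g).Coprime 3 := Nat.Coprime.coprime_dvd_left h8 h3
      have h10 : orderOf g ∣ 2 := by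
        have : orderOf g ∣ 2 * 3 := h7
        exact Nat.Coprime.dvd_of_dvd_mul_right h9 this
      exact orderOf_dvd_iff_pow_eq_one.1 h10
    rw [pow_two] at hg2
    rcases sq_one h2 hg2 with h | h
    · exact h1 h
    · exact h1' h
  · exact ⟨ζ, isSS_of_trace ι hζ0 htr hne⟩

theorem ss_pow {g : _root_.Matrix.SpecialLinearGroup (Fin 2) F} {ζ : k} (hg : IsSS ι g ζ) {N : ℕ} (hN : g ^ N = 1) : ζ ^ N = 1 := by
  have h1 := hg.pow ι N
  rw [hN] at h1
  obtain ⟨v₁, v₂, e1, -, hD⟩ := h1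
  have h2 : v₁ = ζ ^ N • v₁ := by
    rw [← e1, Matrix.SpecialLinearGroup.coe_one, Matrix.map_one ι ι.map_zero ι.map_one, Matrix.one_mulVec]
  have hv : v₁ ≠ 0 := by
    rintro rfl
    apply hD
    simp
  have h3 : (1 - ζ ^ N) • v₁ = 0 := by rw [sub_smul, one_smul, ← h2, sub_self]
  exact (sub_eq_zero.1 ((smul_eq_zero.1 h3).resolve_right hv)).symm

theorem ss_neg {g : _root_.Matrix.SpecialLinearGroup (Fin 2) F} {ζ : k} (hg : IsSS ι g ζ) {N : ℕ} (hN : g ^ N = -1) : ζ ^ N = -1 := by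
  have h1 := hg.pow ι N
  rw [hN] at h1
  obtain ⟨v₁, v₂, e1, -, hD⟩ := h1
  have h2 : -v₁ = ζ ^ N • v₁ := by
    rw [← e1, Matrix.SpecialLinearGroup.coe_neg, Matrix.SpecialLinearGroup.coe_one]
    have h4 : (-1 : Matrix (Fin 2) (Fin 2) F).map ι = -1 := by
      ext i j
      (revert i j; simp only [_root_.Fin.forall_fin_succ, _root_.Matrix.map_apply, _root_.Matrix.neg_apply, _root_.map_neg, _root_.neg_inj, _root_.IsEmpty.forall_iff, _root_.and_true, _root_.Matrix.one_apply_eq, _root_.map_one, Nat.reduceAdd, Fin.isValue, _root_.Fin.succ_zero_eq_one, _root_.ne_eq, _root_.zero_ne_one, _root_.not_false_eq_true, _root_.Matrix.one_apply_ne, _root_.map_zero, _root_.and_self, _root_.Fin.succ_ne_zero, _root_.true_and])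
    rw [h4, Matrix.neg_mulVec, Matrix.one_mulVec]
  have hv : v₁ ≠ 0 := by
    rintro rfl
    apply hD
    simp
  have h3 : (-1 - ζ ^ N) • v₁ = 0 := by rw [sub_smul, neg_smul, one_smul, ← h2, sub_self]
  exact (sub_eq_zero.1 ((smul_eq_zero.1 h3).resolve_right hv)).symm

end ss

section lift

variable {k : Type u} [Field k] [IsAlgClosed k] [CharP k 3] {F : Type w} [Field F] [Fintype F] [DecidableEq F]
  (ι : F →+* k) (hF : Fintype.card F = 9) {π : _root_.Matrix.SpecialLinearGroup (Fin 2) F →* ↥(alternatingGroup (Fin 6))}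
  (hs : Function.Surjective π) (hk : ∀ g, π g = 1 ↔ g = 1 ∨ g = -1)

include hF hs hk in
/-- elements of order 2 -/
theorem lift2 {x : ↥(alternatingGroup (Fin 6))} (hx : orderOf x = 2) :
    ∃ (g : _root_.Matrix.SpecialLinearGroup (Fin 2) F) (ζ : k), π g = x ∧ IsSS ι g ζ ∧ IsPrimitiveRoot ζ 4 := by
  have h2 := two_ne hF
  obtain ⟨g, rfl⟩ := hs x
  have hk2 : (2 : k) ≠ 0 := by rw [← map_ofNat ι 2]; exact (map_ne_zero ι).2 h2
  have hg1 : π g ≠ 1 := by
    intro h
    rw [h, orderOf_one] at hx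
    omega
  have hgg : g * g = -1 := by
    have h3 : π (g * g) = 1 := by
      have h0 := pow_orderOf_eq_one (π g)
      rw [hx, pow_two] at h0
      rw [map_mul, h0]
    rcases (hk _).1 h3 with h4 | h4
    · exact absurd ((hk g).2 (sq_one h2 h4)) hg1
    · exact h4
  have hg4 : g ^ 4 = 1 := by
    rw [show 4 = 2 + 2 by norm_num, pow_add, pow_two, hgg, neg_mul_neg, one_mul]
  obtain ⟨ζ, hζ⟩ := exists_ss ι hF hg4 (by norm_num) (fun h => hg1 ((hk g).2 (Or.inl h)))
    (fun h => hg1 ((hk g).2 (Or.inr h)))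
  refine ⟨g, ζ, rfl, hζ, ?_⟩
  have h5 : ζ ^ 2 = -1 := ss_neg ι hζ (by rw [pow_two, hgg])
  refine IsPrimitiveRoot.mk_of_lt _ (by norm_num) (by rw [show 4 = 2 * 2 by norm_num, pow_mul, h5]; ring) ?_
  intro l hl hl4 h6
  interval_cases l
  · rw [pow_one] at h6
    rw [h6] at h5
    apply hk2
    linear_combination h5
  · rw [h5] at h6
    apply hk2
    linear_combination (-1 : k) * h6
  · have h7 : ζ = -1 := by
      have : ζ ^ 3 = ζ ^ 2 * ζ := by ring
      rw [this, h5] at h6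
      linear_combination (-1 : k) * h6
    rw [h7] at h5
    apply hk2
    linear_combination h5

include hF hs hk in
/-- elements of order 4 -/
theorem lift4 {x : ↥(alternatingGroup (Fin 6))} (hx : orderOf x = 4) :
    ∃ (g : _root_.Matrix.SpecialLinearGroup (Fin 2) F) (ζ : k), π g = x ∧ IsSS ι g ζ ∧ IsPrimitiveRoot ζ 8 := by
  have h2 := two_ne hF
  obtain ⟨g, rfl⟩ := hs x
  have hk2 : (2 : k) ≠ 0 := by rw [← map_ofNat ι 2]; exact (map_ne_zero ι).2 h2
  have hg2 : π (g * g) ≠ 1 := by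
    intro h
    rw [map_mul, ← pow_two] at h
    have := orderOf_dvd_of_pow_eq_one h
    rw [hx] at this
    omega
  have hgg : (g * g) * (g * g) = -1 := by
    have h3 : π ((g * g) * (g * g)) = 1 := by
      have h0 := pow_orderOf_eq_one (π g)
      rw [hx] at h0
      rw [show (g * g) * (g * g) = g ^ 4 by simp only [pow_succ, pow_zero, one_mul, mul_assoc], map_pow, h0]
    rcases (hk _).1 h3 with h4 | h4
    · exact absurd ((hk (g * g)).2 (sq_one h2 h4)) hg2
    · exact h4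
  have hg4 : g ^ 4 = -1 := by rw [← hgg]; simp only [pow_succ, pow_zero, one_mul, mul_assoc]
  have hg8 : g ^ 8 = 1 := by
    rw [show 8 = 4 + 4 by norm_num, pow_add, hg4, neg_mul_neg, one_mul]
  have hg1 : π g ≠ 1 := fun h => hg2 (by rw [map_mul, h, one_mul])
  obtain ⟨ζ, hζ⟩ := exists_ss ι hF hg8 (by norm_num) (fun h => hg1 ((hk g).2 (Or.inl h)))
    (fun h => hg1 ((hk g).2 (Or.inr h)))
  refine ⟨g, ζ, rfl, hζ, ?_⟩
  have h5 : ζ ^ 4 = -1 := ss_neg ι hζ hg4
  have h8 : ζ ^ 8 = 1 := by rw [show 8 = 4 * 2 by norm_num, pow_mul, h5]; ring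
  have h9 : orderOf ζ = 2 ^ (2 + 1) := orderOf_eq_prime_pow (by
    rw [show 2 ^ 2 = 4 by norm_num, h5]
    intro h
    apply hk2
    linear_combination (-1 : k) * h) (by rw [show 2 ^ (2 + 1) = 8 by norm_num]; exact h8)
  rw [show (8 : ℕ) = 2 ^ (2 + 1) by norm_num, ← h9]
  exact IsPrimitiveRoot.orderOf ζ

include hF hs hk in
/-- elements of order 5 -/
theorem lift5 {x : ↥(alternatingGroup (Fin 6))} (hx : orderOf x = 5) :
    ∃ (g : _root_.Matrix.SpecialLinearGroup (Fin 2) F) (ζ : k), π g = x ∧ IsSS ι g ζ ∧ IsPrimitiveRoot ζ 5 := by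
  have h2 := two_ne hF
  have key : ∃ g, π g = x ∧ g ^ 5 = 1 := by
    obtain ⟨g, hg⟩ := hs x
    have h3 : π (g ^ 5) = 1 := by
      have h0 := pow_orderOf_eq_one x
      rw [hx] at h0
      rw [map_pow, hg, h0]
    rcases (hk _).1 h3 with h4 | h4
    · exact ⟨g, hg, h4⟩
    · refine ⟨-g, ?_, ?_⟩
      · rw [← hg, ← neg_one_mul g, map_mul, (hk (-1)).2 (Or.inr rfl), one_mul]
      · rw [Odd.neg_pow (by decide), h4, neg_neg]
  obtain ⟨g, rfl, hg5⟩ := key
  have hg1 : π g ≠ 1 := by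
    intro h
    rw [h, orderOf_one] at hx
    omega
  obtain ⟨ζ, hζ⟩ := exists_ss ι hF hg5 (by norm_num) (fun h => hg1 ((hk g).2 (Or.inl h)))
    (fun h => hg1 ((hk g).2 (Or.inr h)))
  refine ⟨g, ζ, rfl, hζ, ?_⟩
  have h5 : ζ ^ 5 = 1 := ss_pow ι hζ hg5
  have hne : ζ ≠ 1 := by
    rintro rfl
    exact hg1 ((hk g).2 (Or.inl (hζ.eq_one ι ι.injective)))
  have h6 : orderOf ζ = 5 := by
    have : Fact (Nat.Prime 5) := ⟨by norm_num⟩
    exact orderOf_eq_prime h5 hne
  rw [← h6]
  exact IsPrimitiveRoot.orderOf ζ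

end lift

end Cfsg.Agent.R2.T1.N6L
end

-- part: R2/T1/N6L/MuK
section
/-!
# S5929, n = 6, p = 3: multiplicities over an algebraically closed field (helper11)

* `mf_N` : the multiplicities of the eigenvalues on `V_b`;
* `mu_of` : `Mu ρ τ a (n 0) (n 2) (n 6) (n 4) (n 8)` for a multiplicity function `n` of `ρ ∘ π`;
* `exists_muK`.
-/

set_option autoImplicit false
set_option linter.unusedSectionVars false

namespace Cfsg.Agent.R2.T1.N6L

open Matrix Cfsg.Agent.H943.SL2Rel Cfsg.Agent.H943.SL2Mod Cfsg.Agent.H943.RepAdd Cfsg.Agent.R2.H28.SL2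
open Cfsg.Agent.H179.SLC (IsSS fx mem_fx)
open Cfsg.Agent.H952.F4 (ev es)
open Cfsg.Agent.R2.T1

universe u v w

/-- the multiplicity of `ζ ^ j` on `V_b`, `ζ` a primitive `N`-th root of unity -/
def mN (N b j : ℕ) : ℕ :=
  (((Finset.range (b + 1)).filter fun m => ¬ 3 ∣ b.choose m).filter fun m => 2 * m % N = (b + j) % N).card

variable {k : Type u} [Field k] [DecidableEq k] [CharP k 3] {F : Type w} [Field F] [Fintype F] [DecidableEq F]
  [CharP F 3] (ι : F →+* k)

omit [CharP F 3] [Fintype F] [DecidableEq F] in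
theorem mf_N {ζ : k} {N : ℕ} (hζ : IsPrimitiveRoot ζ N) (hN : 0 < N) (b j : ℕ) : mf b ζ (ζ ^ j) = mN N b j := by
  unfold mf mN
  have hBf : Bf k b = (Finset.range (b + 1)).filter fun m => ¬ 3 ∣ b.choose m := by
    unfold Bf
    refine Finset.filter_congr fun m _ => ?_
    rw [Ne, CharP.cast_eq_zero_iff k 3]
  rw [hBf]
  congr 1
  refine Finset.filter_congr fun m hm => ?_
  have hmb : m ≤ b := by
    have := Finset.mem_range.1 (Finset.mem_filter.1 hm).1
    omega
  have hζ0 : ζ ≠ 0 := hζ.ne_zero hN.ne'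
  have h1 : ζ ^ m * ζ⁻¹ ^ (b - m) = ζ ^ j ↔ ζ ^ (2 * m) = ζ ^ (b + j) := by
    rw [inv_pow, ← div_eq_mul_inv, div_eq_iff (pow_ne_zero _ hζ0), ← pow_add]
    constructor
    · intro h
      rw [two_mul, pow_add]
      nth_rewrite 1 [h]
      rw [← pow_add]
      congr 1
      omega
    · intro h
      have h2 : ζ ^ m * ζ ^ m = ζ ^ (j + (b - m)) * ζ ^ m := by
        rw [← pow_add, ← pow_add, ← two_mul, h]
        congr 1
        omega
      exact mul_right_cancel₀ (pow_ne_zero _ hζ0) h2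
  rw [h1, (hζ.isOfFinOrder hN.ne').pow_eq_pow_iff_modEq, ← hζ.eq_orderOf]
  rfl

section ev

variable [IsAlgClosed k] {M : Type v} [AddCommGroup M] [Module k M] [FiniteDimensional k M]
  (ρ : Representation k ↥(alternatingGroup (Fin 6)) M) {π : _root_.Matrix.SpecialLinearGroup (Fin 2) F →* ↥(alternatingGroup (Fin 6))}
  {n : ℕ → ℕ}

theorem ev_eq (g : _root_.Matrix.SpecialLinearGroup (Fin 2) F) (ν : k) :
    ev (ρ (π g)) ν = Module.finrank k (eig (MonoidHom.comp ρ π : Representation k _ M) g ν) := by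
  have h : (Module.End.eigenspace (ρ (π g)) ν) = eig (MonoidHom.comp ρ π : Representation k _ M) g ν := by
    ext x
    rw [Module.End.mem_eigenspace_iff, mem_eig]
    rfl
  rw [ev, h]

theorem odd_zero (hk : ∀ g, π g = 1 ↔ g = 1 ∨ g = -1)
    (H : IsMult ι 3 2 (MonoidHom.comp ρ π : Representation k _ M) n) {b : ℕ} (hb : b % 2 = 1) : n b = 0 := by
  by_contra h
  have h1 := H.even ι 3 (by norm_num) (by
    have h2 : π (Cfsg.Agent.H943.SL2Rel.h (-1)) = 1 := by
      rw [hk]
      right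
      apply Subtype.ext
      rw [Matrix.SpecialLinearGroup.coe_neg, Matrix.SpecialLinearGroup.coe_one]
      show !![((-1 : Fˣ) : F), 0; 0, ((-1 : Fˣ) : F)⁻¹] = -1
      ext i j
      (revert i j; simp only [_root_.Fin.forall_fin_succ, _root_.Units.val_neg, _root_.Units.val_one, _root_.inv_neg, _root_.inv_one, _root_.Matrix.of_apply, _root_.Matrix.cons_val', _root_.Matrix.cons_val_fin_one, _root_.Matrix.neg_apply, Fin.isValue, _root_.Matrix.cons_val_zero, _root_.Matrix.cons_val_succ, _root_.IsEmpty.forall_iff, _root_.and_true, _root_.Matrix.one_apply_eq, Nat.reduceAdd, _root_.Fin.succ_zero_eq_one, _root_.ne_eq, _root_.zero_ne_one, _root_.not_false_eq_true, _root_.Matrix.one_apply_ne, _root_.neg_zero, _root_.and_self, _root_.Fin.succ_ne_zero, _root_.neg_inj, _root_.true_and])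
    show ρ (π _) = 1
    rw [h2, map_one]) b h
  rw [Nat.even_iff] at h1
  omega

theorem ev_sum (hk : ∀ g, π g = 1 ↔ g = 1 ∨ g = -1)
    (H : IsMult ι 3 2 (MonoidHom.comp ρ π : Representation k _ M) n) {g : _root_.Matrix.SpecialLinearGroup (Fin 2) F} {ζ : k} {N : ℕ}
    (hg : IsSS ι g ζ) (hζ : IsPrimitiveRoot ζ N) (hN : (N : k) ≠ 0) (j : ℕ) :
    ev (ρ (π g)) (ζ ^ j) = n 0 * mN N 0 j + n 2 * mN N 2 j + n 4 * mN N 4 j + n 6 * mN N 6 j + n 8 * mN N 8 j := by
  have hN0 : 0 < N := Nat.pos_of_ne_zero (by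
    rintro rfl
    exact hN Nat.cast_zero)
  rw [ev_eq ρ, H.eigen g ζ N hg hζ.pow_eq_one hN (ζ ^ j) (by rw [← pow_mul, mul_comm, pow_mul, hζ.pow_eq_one, one_pow])]
  rw [Finset.sum_congr rfl fun b _ => by rw [mf_N hζ hN0 b j]]
  rw [show 3 ^ 2 = 9 by norm_num]
  simp only [Finset.sum_range_succ, Finset.sum_range_zero]
  rw [odd_zero ι ρ hk H (b := 1) rfl, odd_zero ι ρ hk H (b := 3) rfl, odd_zero ι ρ hk H (b := 5) rfl,
    odd_zero ι ρ hk H (b := 7) rfl]
  ring

theorem cast_ne {N : ℕ} (h : ¬ 3 ∣ N) : (N : k) ≠ 0 := by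
  rw [Ne, CharP.cast_eq_zero_iff k 3]
  exact h

omit [CharP F 3] [Fintype F] [DecidableEq F] [FiniteDimensional k M] in
theorem inv_eq (hs : Function.Surjective π) :
    fx (MonoidHom.comp ρ π : Representation k _ M) = Representation.invariants ρ := by
  ext x
  rw [mem_fx, Representation.mem_invariants]
  constructor
  · intro h g
    obtain ⟨y, rfl⟩ := hs g
    exact h y
  · intro h g
    exact h (π g)

/-- **the multiplicities** -/
theorem mu_of (hF : Fintype.card F = 9) (hs : Function.Surjective π) (hk : ∀ g, π g = 1 ↔ g = 1 ∨ g = -1)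
    (H : IsMult ι 3 2 (MonoidHom.comp ρ π : Representation k _ M) n) {g : _root_.Matrix.SpecialLinearGroup (Fin 2) F} {ζ : k}
    (hg : IsSS ι g ζ) (hζ : IsPrimitiveRoot ζ 5) :
    Mu ρ (ζ ^ 2 + (ζ ^ 2)⁻¹) (π g) (n 0) (n 2) (n 6) (n 4) (n 8) ∧ Mu ρ (ζ + ζ⁻¹) (π g) (n 0) (n 6) (n 2) (n 4) (n 8) := by
  have hdim : Module.finrank k M = n 0 + 3 * n 2 + 3 * n 6 + 4 * n 4 + 9 * n 8 := by
    have h1 := H.dim
    have hc : ∀ b, (Bf k b).card = ((Finset.range (b + 1)).filter fun m => ¬ 3 ∣ b.choose m).card := by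
      intro b
      congr 1
      unfold Bf
      refine Finset.filter_congr fun m _ => ?_
      rw [Ne, CharP.cast_eq_zero_iff k 3]
    rw [h1, Finset.sum_congr rfl fun b _ => by rw [hc b], show 3 ^ 2 = 9 by norm_num]
    simp only [Finset.sum_range_succ, Finset.sum_range_zero]
    rw [odd_zero ι ρ hk H (b := 1) rfl, odd_zero ι ρ hk H (b := 3) rfl, odd_zero ι ρ hk H (b := 5) rfl,
      odd_zero ι ρ hk H (b := 7) rfl]
    have e0 : ((Finset.range (0 + 1)).filter fun m => ¬ 3 ∣ Nat.choose 0 m).card = 1 := by decide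
    have e2 : ((Finset.range (2 + 1)).filter fun m => ¬ 3 ∣ Nat.choose 2 m).card = 3 := by decide
    have e4 : ((Finset.range (4 + 1)).filter fun m => ¬ 3 ∣ Nat.choose 4 m).card = 4 := by decide
    have e6 : ((Finset.range (6 + 1)).filter fun m => ¬ 3 ∣ Nat.choose 6 m).card = 3 := by decide
    have e8 : ((Finset.range (8 + 1)).filter fun m => ¬ 3 ∣ Nat.choose 8 m).card = 9 := by decide
    rw [e0, e2, e4, e6, e8]
    ring
  have htwo : ∀ x : ↥(alternatingGroup (Fin 6)), orderOf x = 2 → ev (ρ x) 1 = n 0 + n 2 + n 6 + 2 * n 4 + 5 * n 8 := by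
    intro x hx
    obtain ⟨g', ζ', rfl, hg', hζ'⟩ := lift2 ι hF hs hk hx
    have h1 := ev_sum ι ρ hk H hg' hζ' (cast_ne (by norm_num)) 0
    rw [pow_zero] at h1
    rw [h1, show mN 4 0 0 = 1 by decide, show mN 4 2 0 = 1 by decide, show mN 4 4 0 = 2 by decide,
      show mN 4 6 0 = 1 by decide, show mN 4 8 0 = 5 by decide]
    ring
  have hfour : ∀ x : ↥(alternatingGroup (Fin 6)), orderOf x = 4 → ev (ρ x) 1 = n 0 + n 2 + n 6 + 3 * n 8 := by
    intro x hx
    obtain ⟨g', ζ', rfl, hg', hζ'⟩ := lift4 ι hF hs hk hx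
    have h1 := ev_sum ι ρ hk H hg' hζ' (cast_ne (by norm_num)) 0
    rw [pow_zero] at h1
    rw [h1, show mN 8 0 0 = 1 by decide, show mN 8 2 0 = 1 by decide, show mN 8 4 0 = 0 by decide,
      show mN 8 6 0 = 1 by decide, show mN 8 8 0 = 3 by decide]
    ring
  have hfive : ∀ x : ↥(alternatingGroup (Fin 6)), orderOf x = 5 → ev (ρ x) 1 = n 0 + n 2 + n 6 + n 8 := by
    intro x hx
    obtain ⟨g', ζ', rfl, hg', hζ'⟩ := lift5 ι hF hs hk hx
    have h1 := ev_sum ι ρ hk H hg' hζ' (cast_ne (by norm_num)) 0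
    rw [pow_zero] at h1
    rw [h1, show mN 5 0 0 = 1 by decide, show mN 5 2 0 = 1 by decide, show mN 5 4 0 = 0 by decide,
      show mN 5 6 0 = 1 by decide, show mN 5 8 0 = 1 by decide]
    ring
  have hp : n 0 ≤ Module.finrank k ↥(Representation.invariants ρ) + 2 * n 4 := by
    have h1 := H.pressure
    rw [inv_eq ρ hs, show 3 ^ 2 = 9 by norm_num] at h1
    simp only [Finset.sum_range_succ, Finset.sum_range_zero] at h1
    rw [odd_zero ι ρ hk H (b := 1) rfl, odd_zero ι ρ hk H (b := 3) rfl, odd_zero ι ρ hk H (b := 5) rfl,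
      odd_zero ι ρ hk H (b := 7) rfl, show hb 3 2 0 = 0 by decide, show hb 3 2 2 = 0 by decide,
      show hb 3 2 4 = 2 by decide, show hb 3 2 6 = 0 by decide, show hb 3 2 8 = 0 by decide] at h1
    omega
  -- the quadratic factors
  have h5 : ((5 : ℕ) : k) ≠ 0 := cast_ne (by norm_num)
  have hζ0 : ζ ≠ 0 := hζ.ne_zero (by norm_num)
  have hz5 := hζ.pow_eq_one
  have hinv1 : ζ⁻¹ = ζ ^ 4 := inv_eq_of_mul_eq_one_left (by rw [← pow_succ]; exact hz5)
  have hinv2 : (ζ ^ 2)⁻¹ = ζ ^ 3 := inv_eq_of_mul_eq_one_left (by rw [← pow_add]; exact hz5)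
  have hn1 : ζ ≠ ζ⁻¹ := by
    rw [hinv1]
    intro h
    have := hζ.pow_inj (i := 1) (j := 4) (by norm_num) (by norm_num) (by rw [pow_one]; exact h)
    omega
  have hn2 : ζ ^ 2 ≠ (ζ ^ 2)⁻¹ := by
    rw [hinv2]
    intro h
    have := hζ.pow_inj (i := 2) (j := 3) (by norm_num) (by norm_num) h
    omega
  have q1 : Module.finrank k ↥(LinearMap.ker (Five.qd (ζ + ζ⁻¹) (ρ (π g)))) = 2 * (n 6 + n 4 + 2 * n 8) := by
    rw [ker_qd_split _ hζ0 hn1, hinv1]
    have e1 := ev_sum ι ρ hk H hg hζ h5 1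
    have e4 := ev_sum ι ρ hk H hg hζ h5 4
    rw [pow_one] at e1
    rw [e1, e4, show mN 5 0 1 = 0 by decide, show mN 5 2 1 = 0 by decide, show mN 5 4 1 = 1 by decide,
      show mN 5 6 1 = 1 by decide, show mN 5 8 1 = 2 by decide, show mN 5 0 4 = 0 by decide, show mN 5 2 4 = 0 by decide,
      show mN 5 4 4 = 1 by decide, show mN 5 6 4 = 1 by decide, show mN 5 8 4 = 2 by decide]
    ring
  have q2 : Module.finrank k ↥(LinearMap.ker (Five.qd (ζ ^ 2 + (ζ ^ 2)⁻¹) (ρ (π g)))) = 2 * (n 2 + n 4 + 2 * n 8) := by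
    rw [ker_qd_split _ (pow_ne_zero 2 hζ0) hn2, hinv2]
    have e1 := ev_sum ι ρ hk H hg hζ h5 2
    have e4 := ev_sum ι ρ hk H hg hζ h5 3
    rw [e1, e4, show mN 5 0 2 = 0 by decide, show mN 5 2 2 = 1 by decide, show mN 5 4 2 = 1 by decide,
      show mN 5 6 2 = 0 by decide, show mN 5 8 2 = 2 by decide, show mN 5 0 3 = 0 by decide, show mN 5 2 3 = 1 by decide,
      show mN 5 4 3 = 1 by decide, show mN 5 6 3 = 0 by decide, show mN 5 8 3 = 2 by decide]
    ring
  have hsum : ζ ^ 4 + ζ ^ 3 + ζ ^ 2 + ζ + 1 = 0 := by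
    have h2 := hζ.geom_sum_eq_zero (by norm_num)
    simp only [Finset.sum_range_succ, Finset.sum_range_zero, pow_zero, pow_one] at h2
    linear_combination h2
  have t1 : -1 - (ζ + ζ⁻¹) = ζ ^ 2 + (ζ ^ 2)⁻¹ := by
    rw [hinv1, hinv2]
    linear_combination (-1 : k) * hsum
  have t2 : -1 - (ζ ^ 2 + (ζ ^ 2)⁻¹) = ζ + ζ⁻¹ := by
    rw [hinv1, hinv2]
    linear_combination (-1 : k) * hsum
  refine ⟨⟨hdim, htwo, hfour, hfive, q2, by rw [t2]; exact q1, hp⟩, ⟨by rw [hdim]; ring, fun x hx => ?_, fun x hx => ?_,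
    fun x hx => ?_, q1, by rw [t1]; exact q2, hp⟩⟩
  · rw [htwo x hx]; ring
  · rw [hfour x hx]; ring
  · rw [hfive x hx]; ring

end ev

end Cfsg.Agent.R2.T1.N6L
end
end

-- part: R2/T1/N6L/MuE
section
set_option linter.all false
open scoped Cfsg.Agent.FastGrp

/-!
# S5929, n = 6, p = 3: existence of the multiplicities (helper11)

* `exists_good` : an embedding `ι` of the field of order 9 such that `3a` is `V_2`;
* `exists_muK`.
-/

set_option autoImplicit false
set_option linter.unusedSectionVars false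

namespace Cfsg.Agent.R2.T1.N6L

open Matrix Cfsg.Agent.H943.SL2Rel Cfsg.Agent.H943.SL2Mod Cfsg.Agent.H943.RepAdd Cfsg.Agent.R2.H28.SL2
open Cfsg.Agent.H179.SLC (IsSS fx mem_fx)
open Cfsg.Agent.H952.F4 (ev es)
open Cfsg.Agent.R2.T1

universe u v w

/-- the field with nine elements -/
abbrev F9 : Type := GaloisField 3 2

noncomputable instance fintypeF9 : Fintype F9 := Fintype.ofFinite _

noncomputable instance decF9 : DecidableEq F9 := Classical.decEq _

theorem card_F9 : Fintype.card F9 = 9 := by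
  rw [← Nat.card_eq_fintype_card, GaloisField.card 3 2 (by norm_num)]
  norm_num

theorem card_F9' : Fintype.card F9 = 3 ^ 2 := by rw [card_F9]; norm_num

theorem exists_iota (K : Type u) [Field K] [IsAlgClosed K] [CharP K 3] : Nonempty (F9 →+* K) := by
  letI : Algebra (ZMod 3) K := ZMod.algebra K 3
  exact ⟨(IsAlgClosed.lift (R := ZMod 3) (S := F9) (M := K) : F9 →ₐ[ZMod 3] K).toRingHom⟩

/-- the Frobenius twist -/
theorem ss_frob {K : Type u} [Field K] [CharP K 3] {F : Type w} [Field F] (ι : F →+* K)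
    {g : SpecialLinearGroup (Fin 2) F} {ζ : K} (hg : IsSS ι g ζ) : IsSS ((frobenius K 3).comp ι) g (ζ ^ 3) := by
  obtain ⟨v₁, v₂, h1, h2, hD⟩ := hg
  have key : ∀ (v : Fin 2 → K) (ξ : K), (g.1.map ι).mulVec v = ξ • v →
      (g.1.map ((frobenius K 3).comp ι)).mulVec (fun i => v i ^ 3) = ξ ^ 3 • (fun i => v i ^ 3) := by
    intro v ξ h
    funext i
    have h3 := congrFun h i
    have h4 := congrArg (frobenius K 3) h3
    simp only [Matrix.mulVec, dotProduct, Fin.sum_univ_two, Matrix.map_apply, Pi.smul_apply, smul_eq_mul, map_add,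
      map_mul] at h4 ⊢
    simpa [frobenius_def] using h4
  refine ⟨fun i => v₁ i ^ 3, fun i => v₂ i ^ 3, key _ _ h1, by rw [← inv_pow]; exact key _ _ h2, ?_⟩
  have h5 : (v₁ 0 ^ 3 * v₂ 1 ^ 3 - v₁ 1 ^ 3 * v₂ 0 ^ 3 : K) = frobenius K 3 (v₁ 0 * v₂ 1 - v₁ 1 * v₂ 0) := by
    rw [map_sub, map_mul, map_mul]
    simp only [frobenius_def]
  rw [h5]
  exact (map_ne_zero _).2 hD

theorem tau_cases {K : Type u} [Field K] {ζ τ : K} (hζ : IsPrimitiveRoot ζ 5) (hτ : τ * τ + τ - 1 = 0) :
    τ = ζ + ζ⁻¹ ∨ τ = ζ ^ 2 + (ζ ^ 2)⁻¹ := by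
  have hsum : ζ ^ 4 + ζ ^ 3 + ζ ^ 2 + ζ + 1 = 0 := by
    have h2 := hζ.geom_sum_eq_zero (by norm_num)
    simp only [Finset.sum_range_succ, Finset.sum_range_zero, pow_zero, pow_one] at h2
    linear_combination h2
  have hz5 := hζ.pow_eq_one
  have hinv1 : ζ⁻¹ = ζ ^ 4 := inv_eq_of_mul_eq_one_left (by rw [← pow_succ]; exact hz5)
  have hinv2 : (ζ ^ 2)⁻¹ = ζ ^ 3 := inv_eq_of_mul_eq_one_left (by rw [← pow_add]; exact hz5)
  have h1 : (τ - (ζ + ζ⁻¹)) * (τ - (ζ ^ 2 + (ζ ^ 2)⁻¹)) = 0 := by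
    rw [hinv1, hinv2]
    linear_combination hτ - τ * hsum + hsum + (ζ + ζ ^ 2 - 0) * hz5
  rcases mul_eq_zero.1 h1 with h | h
  · exact Or.inl (sub_eq_zero.1 h)
  · exact Or.inr (sub_eq_zero.1 h)

section
variable {K : Type u} [Field K] [IsAlgClosed K] [CharP K 3]
  {π : SpecialLinearGroup (Fin 2) F9 →* ↥(alternatingGroup (Fin 6))}

/-- an embedding such that `3a` is `V_2` -/
theorem exists_good (hs : Function.Surjective π) (hk : ∀ g, π g = 1 ↔ g = 1 ∨ g = -1) {τ : K}
    (hτ : τ * τ + τ - 1 = 0) {a : ↥(alternatingGroup (Fin 6))} (ha : orderOf a = 5) :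
    ∃ (ι : F9 →+* K) (g : SpecialLinearGroup (Fin 2) F9) (ζ : K), π g = a ∧ IsSS ι g ζ ∧ IsPrimitiveRoot ζ 5 ∧
      ζ ^ 2 + (ζ ^ 2)⁻¹ = τ := by
  obtain ⟨ι⟩ := exists_iota K
  obtain ⟨g, ζ, hg, hss, hζ⟩ := lift5 ι card_F9 hs hk ha
  rcases tau_cases hζ hτ with h | h
  · refine ⟨(frobenius K 3).comp ι, g, ζ ^ 3, hg, ss_frob ι hss, hζ.pow_of_coprime 3 (by norm_num), ?_⟩
    have hz5 := hζ.pow_eq_one
    have h6 : (ζ ^ 3) ^ 2 = ζ := by
      rw [← pow_mul, show 3 * 2 = 5 + 1 by norm_num, pow_succ, hz5, one_mul]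
    rw [h6, h]
  · exact ⟨ι, g, ζ, hg, hss, hζ, h.symm⟩

end

/-- **the multiplicities over an algebraically closed field** -/
theorem exists_muK {K : Type u} [Field K] [IsAlgClosed K] [CharP K 3] {τ : K} (hτ : τ * τ + τ - 1 = 0)
    {a : ↥(alternatingGroup (Fin 6))} (ha : orderOf a = 5) {M : Type v} [AddCommGroup M] [Module K M]
    [FiniteDimensional K M] (ρ : Representation K ↥(alternatingGroup (Fin 6)) M) :
    ∃ n na nb m l, Mu ρ τ a n na nb m l := by
  classical
  obtain ⟨π, hs, hk⟩ := exists_pi card_F9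
  obtain ⟨ι, g, ζ, rfl, hss, hζ, rfl⟩ := exists_good hs hk hτ ha
  obtain ⟨n, hn⟩ := exists_isMult ι 3 card_F9' (MonoidHom.comp ρ π : Representation K _ M)
  exact ⟨_, _, _, _, _, (mu_of ι ρ card_F9 hs hk hn hss hζ).1⟩

end Cfsg.Agent.R2.T1.N6L
end

-- part: R2/T1/N7/Sc7
section
set_option linter.all false
open scoped Cfsg.Agent.FastGrp

/-!
# S5929, `n = 7`: Scott's lemma for the triple `(2, 4, 7)` of `A₇` (helper19)

* `gen7c`, `triple7` : `A₇` is generated by elements of order 2 and 4 whose product has order 7;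
* `scott_pt` : Scott's lemma for the module of degree 56 (lift);
* `scott247L` : on the adjoint module of `Gh F` (lift), `scott247LK` : on the adjoint module, every `φ` (lift or cover).
-/

set_option autoImplicit false
set_option maxRecDepth 100000

namespace Cfsg.Agent.R2.T1.N7.Sc

open Cfsg Cfsg.Lie Module Equiv Equiv.Perm
open Cfsg.Agent.H943.E7V.Block (D1 rho)
open Cfsg.Agent.H952.F4 (ev es MaxAlt GenT)
open Cfsg.Agent.R2.T1

universe u

theorem gen7c : GenT 7 {2, 2} {4, 2} {7} :=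
  Cfsg.Agent.H952.F4.Gen.genT_of (n := 5) (c[2, 6] * c[4, 5]) (c[0, 5, 1, 3] * c[4, 6]) (by decide +kernel)
    (by decide +kernel)
    ![[],
    [],
    [0, 3, 0, 2, 2, 0, 3, 0],
    [0, 3, 0, 2, 0, 3, 0, 2, 0, 3],
    [2, 0, 2, 0, 2, 2, 0, 2, 2, 0, 3, 0, 2],
    [2, 2, 0, 2, 0, 3, 0, 2, 0, 3, 0, 3],
    [3, 0, 2, 2, 0, 3]]
    (by decide +kernel) (by decide +kernel) (by decide +kernel) (by decide +kernel)

theorem ord7 (a : ↥(alternatingGroup (Fin 7))) : orderOf a = (a : Perm (Fin 7)).cycleType.lcm := by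
  rw [lcm_cycleType, ← Subgroup.orderOf_coe]

/-- the generating triple -/
theorem triple7 : ∃ x y : ↥(alternatingGroup (Fin 7)), Subgroup.closure {x, y} = ⊤ ∧
    (x : Perm (Fin 7)).cycleType = {2, 2} ∧ (y : Perm (Fin 7)).cycleType = {4, 2} ∧
    ((x * y : ↥(alternatingGroup (Fin 7))) : Perm (Fin 7)).cycleType = {7} ∧
    orderOf x = 2 ∧ orderOf y = 4 ∧ orderOf (x * y) = 7 := by
  obtain ⟨x, y, h, hx, hy, hxy⟩ := gen7c
  refine ⟨x, y, h, hx, hy, hxy, ?_, ?_, ?_⟩
  · rw [ord7, hx]; decide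
  · rw [ord7, hy]; decide
  · rw [ord7, hxy]; decide

variable {F : Type u} [Field F] {H : Subgroup ↥(chevE7.group F)}
  {φ : ↥(alternatingGroup (Fin 7)) →* ↥(chevE7.group F)} {ψ : ↥(alternatingGroup (Fin 7)) →* Gh F}

end Cfsg.Agent.R2.T1.N7.Sc
end

-- part: R2/T1/N7C/Big
section
prune_inst 0x153061046562020000008590232000647800042200430800098008000949e2620986264116a00112128a8c0160010048115c00100000000000000400001d0000008116063150a10862009e000804000000000000300000000000000000000004000000000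
set_option linter.all false
open scoped Cfsg.Agent.FastGrp

-- part: R2/T1/N7C/Lin
section
/-!
# S5929, `n = 7`, cover: linear algebra for `2.A₆` in characteristic prime to 30 (helper6)

`X`, `A`, `B` of orders 5, 3, 3, `[A, B] = 1`, `(X A) ^ 2 = (X ^ 2 B) ^ 2 = -1`: then `4 dim ker (X - 1) ≤ dim W`.
-/

set_option autoImplicit false

namespace Cfsg.Agent.R2.T1.N7C

open Module
open Cfsg.Agent.H952.F4 (ev)

section
variable {K W : Type*} [Field K] [AddCommGroup W] [Module K W]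

/-- the fixed points -/
abbrev fx (T : Module.End K W) : Submodule K W := Module.End.eigenspace T 1

theorem mem_fx {T : Module.End K W} {v : W} : v ∈ fx T ↔ T v = v := by
  rw [Module.End.mem_eigenspace_iff, one_smul]

/-- `1 + T + T²` -/
def N3 (T : Module.End K W) : Module.End K W := 1 + T + T * T

theorem N3_apply (T : Module.End K W) (v : W) : N3 T v = v + T v + T (T v) := rfl

/-- `1 + T + T² + T³ + T⁴` -/
def N5 (T : Module.End K W) : Module.End K W := 1 + T + T * T + T * (T * T) + T * (T * (T * T))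

theorem N5_apply (T : Module.End K W) (v : W) : N5 T v = v + T v + T (T v) + T (T (T v)) + T (T (T (T v))) := rfl

theorem N3_fix {T : Module.End K W} (hT : ∀ v, T (T (T v)) = v) (v : W) : T (N3 T v) = N3 T v := by
  rw [N3_apply, map_add, map_add, hT]; abel

theorem N3_comm {T S : Module.End K W} (h : ∀ v, S (T v) = T (S v)) {v : W} (hv : S v = v) :
    S (N3 T v) = N3 T v := by
  rw [N3_apply, map_add, map_add, h, h, h, hv]

theorem N3_smul {T : Module.End K W} {v : W} (hv : T v = v) : N3 T v = (3 : K) • v := by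
  rw [N3_apply, hv, hv]; module

theorem N5_smul {T : Module.End K W} {v : W} (hv : T v = v) : N5 T v = (5 : K) • v := by
  rw [N5_apply, hv, hv, hv, hv]; module

theorem N5_shift {T : Module.End K W} (hT : ∀ v, T (T (T (T (T v)))) = v) (v : W) : N5 T (T v) = N5 T v := by
  rw [N5_apply, N5_apply, hT]; abel

theorem N3_shift {T : Module.End K W} (hT : ∀ v, T (T (T v)) = v) (v : W) : N3 T (T v) = N3 T v := by
  rw [N3_apply, N3_apply, hT]; abel

/-- dimensions -/
theorem dim_le [FiniteDimensional K W] {f : Module.End K W} {U E D : Submodule K W} (hU : ∀ v ∈ U, f v ∈ D)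
    (hE : E ≤ D) (hz : ∀ v ∈ U, f v ∈ E → v = 0) : finrank K ↥E + finrank K ↥U ≤ finrank K ↥D := by
  have hinj : Function.Injective (f.domRestrict U) := by
    rw [← LinearMap.ker_eq_bot, LinearMap.ker_eq_bot']
    rintro ⟨v, hv⟩ h
    have h1 : f v = 0 := h
    exact Subtype.ext (hz v hv (by rw [h1]; exact zero_mem _))
  have h1 : finrank K ↥(U.map f) = finrank K ↥U := by
    have := LinearMap.finrank_range_of_inj hinj
    rwa [LinearMap.range_domRestrict] at this
  have h2 : E ⊓ U.map f = ⊥ := by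
    rw [eq_bot_iff]
    rintro w ⟨hw, v, hv, rfl⟩
    rw [hz v hv hw, map_zero]
    exact zero_mem _
  have h3 := Submodule.finrank_sup_add_finrank_inf_eq E (U.map f)
  rw [h2, finrank_bot] at h3
  have h4 : E ⊔ U.map f ≤ D := sup_le hE (by rintro _ ⟨v, hv, rfl⟩; exact hU v hv)
  have h5 := Submodule.finrank_mono h4
  omega

/-- three commuting operators of order 3 -/
theorem inter {T : Module.End K W} (h3 : (3 : K) ≠ 0) (hT : ∀ v, T (T (T v)) = v) {E : Submodule K W}
    {w u : W} (hw : T w = w) (h : N3 T w ∈ E) : w ∈ E := by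
  rw [N3_smul hw] at h
  have h1 := E.smul_mem (3 : K)⁻¹ h
  rwa [smul_smul, inv_mul_cancel₀ h3, one_smul] at h1

/-- **Artin's formula for `3²`, one inequality** -/
theorem four [FiniteDimensional K W] (h3 : (3 : K) ≠ 0) {A B : Module.End K W} (hA : ∀ v, A (A (A v)) = v)
    (hB : ∀ v, B (B (B v)) = v) (hAB : ∀ v, A (B v) = B (A v)) :
    ev A 1 + ev B 1 + ev (A * B) 1 + ev (A * (B * B)) 1 ≤ finrank K W + 3 * finrank K ↥(fx A ⊓ fx B) := by
  set E := fx A ⊓ fx B with hE
  have mE : ∀ v, v ∈ E ↔ A v = v ∧ B v = v := fun v => by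
    rw [hE, Submodule.mem_inf, mem_fx, mem_fx]
  have hC : ∀ v, (A * B) ((A * B) ((A * B) v)) = v := by
    intro v
    simp only [Module.End.mul_apply]
    rw [hAB, hAB, hAB, hAB, hAB, hAB, hB, hA]
  have hD : ∀ v, (A * (B * B)) ((A * (B * B)) ((A * (B * B)) v)) = v := by
    intro v
    simp only [Module.End.mul_apply]
    simp only [hAB, hB, hA]
  have cA : ∀ v, A v = v → (A * B) v = v → v ∈ E := by
    intro v h1 h2
    rw [Module.End.mul_apply, hAB, h1] at h2
    exact (mE v).2 ⟨h1, h2⟩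
  have cB : ∀ v, B v = v → (A * B) v = v → v ∈ E := by
    intro v h1 h2
    rw [Module.End.mul_apply, h1] at h2
    exact (mE v).2 ⟨h2, h1⟩
  have dA : ∀ v, A v = v → (A * (B * B)) v = v → v ∈ E := by
    intro v h1 h2
    have h3 : B (B v) = v := by
      rwa [Module.End.mul_apply, Module.End.mul_apply, hAB, hAB, h1] at h2
    have h4 := hB v
    rw [h3] at h4
    exact (mE v).2 ⟨h1, h4⟩
  have dB : ∀ v, B v = v → (A * (B * B)) v = v → v ∈ E := by
    intro v h1 h2
    rw [Module.End.mul_apply, Module.End.mul_apply, h1, h1] at h2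
    exact (mE v).2 ⟨h2, h1⟩
  have dC : ∀ v, (A * B) v = v → (A * (B * B)) v = v → v ∈ E := by
    intro v h1 h2
    have h3 : B v = v := by
      have h4 : (A * (B * B)) v = B ((A * B) v) := by
        simp only [Module.End.mul_apply]
        rw [hAB]
      rw [h4, h1] at h2
      exact h2
    exact dB v h3 h2
  have commAC : ∀ v, A ((A * B) v) = (A * B) (A v) := fun v => by simp only [Module.End.mul_apply, hAB]
  have commBC : ∀ v, B ((A * B) v) = (A * B) (B v) := fun v => by simp only [Module.End.mul_apply, hAB]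
  have commAD : ∀ v, A ((A * (B * B)) v) = (A * (B * B)) (A v) := fun v => by simp only [Module.End.mul_apply, hAB]
  have commBD : ∀ v, B ((A * (B * B)) v) = (A * (B * B)) (B v) := fun v => by simp only [Module.End.mul_apply, hAB]
  have commCD : ∀ v, (A * B) ((A * (B * B)) v) = (A * (B * B)) ((A * B) v) := fun v => by
    simp only [Module.End.mul_apply, hAB]
  -- three intersections
  have k1 : fx A ⊓ fx B = E := rfl
  have k2 : (fx A ⊔ fx B) ⊓ fx (A * B) ≤ E := by
    rintro v ⟨hv, hv'⟩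
    obtain ⟨u, hu, w, hw, rfl⟩ := Submodule.mem_sup.1 hv
    rw [mem_fx] at hu hw
    have hv2 := mem_fx.1 hv'
    refine inter h3 hC (u := u) hv2 ?_
    rw [map_add]
    exact E.add_mem (cA _ (N3_comm commAC hu) (N3_fix hC u)) (cB _ (N3_comm commBC hw) (N3_fix hC w))
  have k3 : (fx A ⊔ fx B ⊔ fx (A * B)) ⊓ fx (A * (B * B)) ≤ E := by
    rintro v ⟨hv, hv'⟩
    obtain ⟨s, hs, w', hw', rfl⟩ := Submodule.mem_sup.1 hv
    obtain ⟨u, hu, w, hw, rfl⟩ := Submodule.mem_sup.1 hs
    rw [mem_fx] at hu hw hw'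
    have hv2 := mem_fx.1 hv'
    refine inter h3 hD (u := u) hv2 ?_
    rw [map_add, map_add]
    exact E.add_mem (E.add_mem (dA _ (N3_comm commAD hu) (N3_fix hD u)) (dB _ (N3_comm commBD hw) (N3_fix hD w)))
      (dC _ (N3_comm commCD hw') (N3_fix hD w'))
  have e1 := Submodule.finrank_sup_add_finrank_inf_eq (fx A) (fx B)
  have e2 := Submodule.finrank_sup_add_finrank_inf_eq (fx A ⊔ fx B) (fx (A * B))
  have e3 := Submodule.finrank_sup_add_finrank_inf_eq (fx A ⊔ fx B ⊔ fx (A * B)) (fx (A * (B * B)))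
  have m2 := Submodule.finrank_mono k2
  have m3 := Submodule.finrank_mono k3
  have m4 := Submodule.finrank_le (fx A ⊔ fx B ⊔ fx (A * B) ⊔ fx (A * (B * B)))
  rw [k1] at e1
  have r1 : ev A 1 = finrank K ↥(fx A) := rfl
  have r2 : ev B 1 = finrank K ↥(fx B) := rfl
  have r3 : ev (A * B) 1 = finrank K ↥(fx (A * B)) := rfl
  have r4 : ev (A * (B * B)) 1 = finrank K ↥(fx (A * (B * B))) := rfl
  omega

/-- **`2.A₆`** -/
theorem core [FiniteDimensional K W] (h2 : (2 : K) ≠ 0) (h3 : (3 : K) ≠ 0) (h5 : (5 : K) ≠ 0)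
    {X A B : Module.End K W} (hX : ∀ v, X (X (X (X (X v)))) = v) (hA : ∀ v, A (A (A v)) = v)
    (hB : ∀ v, B (B (B v)) = v) (hAB : ∀ v, A (B v) = B (A v)) (h1 : ∀ v, X (A (X (A v))) = -v)
    (h4 : ∀ v, X (X (B (X (X (B v))))) = -v) (hc : ev (A * B) 1 = ev B 1) (hd : ev (A * (B * B)) 1 = ev A 1) :
    4 * ev X 1 + finrank K ↥(fx A ⊓ fx B) ≤ finrank K W := by
  have mE : ∀ v, v ∈ fx A ⊓ fx B ↔ A v = v ∧ B v = v := fun v => by
    rw [Submodule.mem_inf, mem_fx, mem_fx]
  -- on the fixed points of `X`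
  have a1 : ∀ v, X v = v → N5 X (N3 A v) = (5 : K) • v := by
    intro v hv
    have e1 := h1 (A (A v))
    rw [hA, hv] at e1
    have e2 := N5_shift hX (A v)
    rw [e1, map_neg] at e2
    rw [N3_apply, map_add, map_add, ← e2, N5_smul hv]
    abel
  have a2 : ∀ v, X v = v → N5 X (N3 B v) = (5 : K) • v := by
    intro v hv
    have e1 := h4 (B (B v))
    rw [hB, hv, hv] at e1
    have e2 := N5_shift hX (X (B v))
    rw [e1, N5_shift hX, map_neg] at e2
    rw [N3_apply, map_add, map_add, ← e2, N5_smul hv]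
    abel
  -- on the fixed points of `E`
  have b1 : ∀ w, A w = w → B w = w → N3 B (N3 A (N5 X w)) = (9 : K) • w := by
    intro w hw hw'
    have e1 := h1 w
    rw [hw] at e1
    have e2 : A (X w) = - X (X (X (X w))) := by
      have := congrArg (fun u => X (X (X (X u)))) e1
      simp only [map_neg] at this
      rw [hX] at this
      exact this
    have e3 := h4 w
    rw [hw'] at e3
    have e4 : B (X (X w)) = - X (X (X w)) := by
      have := congrArg (fun u => X (X (X u))) e3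
      simp only [map_neg] at this
      rw [hX] at this
      exact this
    have hBA : ∀ v, N3 B (N3 A v) = N3 A (N3 B v) := by
      intro v
      simp only [N3_apply, map_add, hAB]
      abel
    have f1 : N3 B (N3 A (X w)) = - N3 B (N3 A (X (X (X (X w))))) := by
      rw [← N3_shift hA (X w), e2, map_neg, map_neg]
    have f2 : N3 B (N3 A (X (X w))) = - N3 B (N3 A (X (X (X w)))) := by
      rw [hBA, ← N3_shift hB (X (X w)), e4, map_neg, map_neg, hBA]
    rw [N5_apply, map_add, map_add, map_add, map_add, map_add, map_add, map_add, map_add, f1, f2, N3_smul hw,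
      map_smul, N3_smul hw', smul_smul]
    have : (3 : K) * 3 = 9 := by norm_num
    rw [this]
    abel
  -- the crucial step
  have fin : ∀ v w, X v = v → A w = w → B w = w → N5 X w = (5 : K) • v → N3 B (N3 A v) = (3 : K) • w → v = 0 := by
    intro v w hv hw hw' e1 e2
    have e3 := b1 w hw hw'
    rw [e1, map_smul, map_smul, e2, smul_smul] at e3
    have e4 : (6 : K) • w = 0 := by
      have : (6 : K) • w = ((5 : K) * 3) • w - (9 : K) • w := by rw [← sub_smul]; norm_num
      rw [this, e3, sub_self]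
    have h6 : (6 : K) ≠ 0 := by
      have : (6 : K) = 2 * 3 := by norm_num
      rw [this]
      exact mul_ne_zero h2 h3
    have e5 := (smul_eq_zero.1 e4).resolve_left h6
    rw [e5, map_zero] at e1
    exact (smul_eq_zero.1 e1.symm).resolve_left h5
  have cA : finrank K ↥(fx A ⊓ fx B) + finrank K ↥(fx X) ≤ finrank K ↥(fx A) := by
    refine dim_le (f := N3 A) (fun v _ => mem_fx.2 (N3_fix hA v)) inf_le_left fun v hv hw => ?_
    rw [mem_fx] at hv
    obtain ⟨hw1, hw2⟩ := (mE _).1 hw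
    refine fin v _ hv hw1 hw2 (a1 v hv) (N3_smul hw2)
  have cB : finrank K ↥(fx A ⊓ fx B) + finrank K ↥(fx X) ≤ finrank K ↥(fx B) := by
    refine dim_le (f := N3 B) (fun v _ => mem_fx.2 (N3_fix hB v)) inf_le_right fun v hv hw => ?_
    rw [mem_fx] at hv
    obtain ⟨hw1, hw2⟩ := (mE _).1 hw
    refine fin v _ hv hw1 hw2 (a2 v hv) ?_
    have hBA : N3 B (N3 A v) = N3 A (N3 B v) := by
      simp only [N3_apply, map_add, hAB]
      abel
    rw [hBA, N3_smul hw1]
  have hf := four h3 hA hB hAB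
  rw [hc, hd] at hf
  have r0 : ev X 1 = finrank K ↥(fx X) := rfl
  have r1 : ev A 1 = finrank K ↥(fx A) := rfl
  have r2 : ev B 1 = finrank K ↥(fx B) := rfl
  omega

end

end Cfsg.Agent.R2.T1.N7C
end

-- part: R2/T1/N7C/Big
section
/-!
# S5929, box sev7c: `n = 7`, cover, characteristic prime to 30 (helper6)

A faithful module `W` of `2.A₆` in characteristic prime to 30 has `4 dim W^x ≤ dim W` for `x` of order 5; here
`dim V^x = 16` and `dim V = 56`.
-/

set_option autoImplicit false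

universe u

namespace Cfsg.Agent.R2.T1.N7C

open Equiv Module Cfsg Cfsg.Lie
open Cfsg.Agent.R2.T1.Odd
open Cfsg.Agent.H943.E7V.Block (D1 rho)
open Cfsg.Agent.H952.F4 (ev es matRep MaxAlt)
open Cfsg.Agent.H944.E6T (ev_conj)

/-- `(0 2 3 1 4)` -/
def px : Perm (Fin 7) := swap (0 : Fin 7) 2 * swap (2 : Fin 7) 3 * swap (3 : Fin 7) 1 * swap (1 : Fin 7) 4
/-- `(0 1 2)` -/
def pa : Perm (Fin 7) := swap (0 : Fin 7) 1 * swap (1 : Fin 7) 2
/-- `(0 1 2)(3 4 5)` -/
def pb : Perm (Fin 7) := swap (0 : Fin 7) 1 * swap (1 : Fin 7) 2 * swap (3 : Fin 7) 4 * swap (4 : Fin 7) 5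
/-- `(2 3 4 1)(5 6)` -/
def pg : Perm (Fin 7) := swap (2 : Fin 7) 3 * swap (3 : Fin 7) 4 * swap (4 : Fin 7) 1 * swap (5 : Fin 7) 6
/-- `(0 3)(2 4 1 5)` -/
def pg1 : Perm (Fin 7) := swap (0 : Fin 7) 3 * swap (2 : Fin 7) 4 * swap (4 : Fin 7) 1 * swap (1 : Fin 7) 5
/-- `(0 3)(5 1 4 2)` -/
def pg2 : Perm (Fin 7) := swap (0 : Fin 7) 3 * swap (5 : Fin 7) 1 * swap (1 : Fin 7) 4 * swap (4 : Fin 7) 2

theorem sgn4 {a b c d e f g h : Fin 7} (h1 : a ≠ b) (h2 : c ≠ d) (h3 : e ≠ f) (h4 : g ≠ h) :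
    swap a b * swap c d * swap e f * swap g h ∈ alternatingGroup (Fin 7) := by
  rw [Perm.mem_alternatingGroup, map_mul, map_mul, map_mul, Perm.sign_swap h1, Perm.sign_swap h2, Perm.sign_swap h3,
    Perm.sign_swap h4]
  rfl

theorem sgn2 {a b c d : Fin 7} (h1 : a ≠ b) (h2 : c ≠ d) : swap a b * swap c d ∈ alternatingGroup (Fin 7) := by
  rw [Perm.mem_alternatingGroup, map_mul, Perm.sign_swap h1, Perm.sign_swap h2]
  rfl

/-- `(0 2 3 1 4)` -/
def qx : ↥(alternatingGroup (Fin 7)) := ⟨px, sgn4 (by decide) (by decide) (by decide) (by decide)⟩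
/-- `(0 1 2)` -/
def qa : ↥(alternatingGroup (Fin 7)) := ⟨pa, sgn2 (by decide) (by decide)⟩
/-- `(0 1 2)(3 4 5)` -/
def qb : ↥(alternatingGroup (Fin 7)) := ⟨pb, sgn4 (by decide) (by decide) (by decide) (by decide)⟩
/-- `(2 3 4 1)(5 6)` -/
def qg : ↥(alternatingGroup (Fin 7)) := ⟨pg, sgn4 (by decide) (by decide) (by decide) (by decide)⟩
/-- `(0 3)(2 4 1 5)` -/
def qg1 : ↥(alternatingGroup (Fin 7)) := ⟨pg1, sgn4 (by decide) (by decide) (by decide) (by decide)⟩
/-- `(0 3)(5 1 4 2)` -/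
def qg2 : ↥(alternatingGroup (Fin 7)) := ⟨pg2, sgn4 (by decide) (by decide) (by decide) (by decide)⟩

theorem qx5 : qx ^ 5 = 1 := Subtype.ext (by decide)
theorem qx1 : qx ≠ 1 := fun h => absurd (congrArg Subtype.val h) (by decide)
theorem qa3 : qa ^ 3 = 1 := Subtype.ext (by decide)
theorem qb3 : qb ^ 3 = 1 := Subtype.ext (by decide)
theorem qab : qa * qb = qb * qa := Subtype.ext (by decide)
theorem q_xa : px * pa = swap (0 : Fin 7) 4 * swap (1 : Fin 7) 3 := by decide
theorem q_xxb : px * px * pb = swap (2 : Fin 7) 3 * swap (4 : Fin 7) 5 := by decide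
theorem q_g : qg * qx * qg⁻¹ = qx ^ 2 := Subtype.ext (by decide)
theorem q_g1 : qg1 * (qa * qb) * qg1⁻¹ = qb := Subtype.ext (by decide)
theorem q_g2 : qg2 * (qa * (qb * qb)) * qg2⁻¹ = qa := Subtype.ext (by decide)

variable {F : Type u} [Field F]

/-- **sev7c** -/
theorem sev7c [Finite F] (H : Subgroup ↥(chevE7.group F)) (φ : ↥(alternatingGroup (Fin 7)) →* ↥(chevE7.group F))
    (hM : MaxAlt H 7 φ) (hc : Cover φ) (h2 : (2 : F) ≠ 0) (h3 : (3 : F) ≠ 0) (h5 : (5 : F) ≠ 0) : False := by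
  have hφ := hM.inj
  obtain ⟨x, hx, hx5⟩ := odd_lift (k := 5) (g := φ qx) (by decide) (by rw [← map_pow, qx5, map_one])
  obtain ⟨a, ha, ha3⟩ := odd_lift (k := 3) (g := φ qa) (by decide) (by rw [← map_pow, qa3, map_one])
  obtain ⟨b, hb, hb3⟩ := odd_lift (k := 3) (g := φ qb) (by decide) (by rw [← map_pow, qb3, map_one])
  obtain ⟨g, hg⟩ := ad_surjective (φ qg)
  obtain ⟨g1, hg1⟩ := ad_surjective (φ qg1)
  obtain ⟨g2, hg2⟩ := ad_surjective (φ qg2)
  have hab : a * b = b * a := by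
    have h1 : a * b * a⁻¹ = b := by
      refine odd_unique (k := 3) (by decide) ?_ ?_ hb3
      · rw [map_mul, map_mul, map_inv, ha, hb, ← map_mul, qab, map_mul, mul_inv_cancel_right]
      · rw [conj_pow, hb3, mul_one, mul_inv_cancel]
    calc a * b = a * b * a⁻¹ * a := by rw [inv_mul_cancel_right]
      _ = b * a := by rw [h1]
  have hcom : Commute a b := hab
  -- the fixed points of `x`
  have hgx : g * x * g⁻¹ = x ^ 2 := by
    refine odd_unique (k := 5) (by decide) ?_ ?_ ?_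
    · rw [map_mul, map_mul, map_inv, map_pow, hg, hx, ← map_pow, ← q_g, map_mul, map_mul, map_inv]
    · rw [conj_pow, hx5, mul_one, mul_inv_cancel]
    · rw [← pow_mul, mul_comm, pow_mul, hx5, one_pow]
  have hx1 : x ≠ 1 := by
    rintro rfl
    rw [map_one] at hx
    exact qx1 (hφ (by rw [← hx, map_one]))
  have e16 := five_rat h5 hx5 hx1 hgx
  -- the relations
  have r1 : V F (x * a * (x * a)) = -1 := by
    refine hc.sq (a := qx * qa) (by norm_num) hφ ?_ (by rw [map_mul, hx, ha, map_mul])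
    show (px * pa).cycleType = {2, 2}
    rw [q_xa]
    exact ct_swaps (by decide) (by decide) (by decide) (by decide) (by decide) (by decide)
  have r2 : V F (x * x * b * (x * x * b)) = -1 := by
    refine hc.sq (a := qx * qx * qb) (by norm_num) hφ ?_ (by rw [map_mul, map_mul, hx, hb, map_mul, map_mul])
    show (px * px * pb).cycleType = {2, 2}
    rw [q_xxb]
    exact ct_swaps (by decide) (by decide) (by decide) (by decide) (by decide) (by decide)
  -- conjugate elements
  have c1 : g1 * (a * b) * g1⁻¹ = b := by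
    refine odd_unique (k := 3) (by decide) ?_ ?_ hb3
    · rw [map_mul, map_mul, map_inv, map_mul, hg1, ha, hb, ← map_mul, ← map_mul, ← map_inv, ← map_mul, q_g1]
    · rw [conj_pow, hcom.mul_pow, ha3, hb3, mul_one, mul_one, mul_inv_cancel]
  have c2 : g2 * (a * (b * b)) * g2⁻¹ = a := by
    refine odd_unique (k := 3) (by decide) ?_ ?_ ha3
    · rw [map_mul, map_mul, map_inv, map_mul, map_mul, hg2, ha, hb, ← map_mul, ← map_mul, ← map_mul, ← map_inv,
        ← map_mul, q_g2]
    · rw [conj_pow, (hcom.mul_right hcom).mul_pow, (Commute.refl b).mul_pow, ha3, hb3, mul_one, mul_one, mul_one,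
        mul_inv_cancel]
  have d1 : ev (V F a * V F b) 1 = ev (V F b) 1 := by
    have h := ev_conj (V F) g1 (a * b) 1
    rw [c1] at h
    rw [← map_mul, h]
  have d2 : ev (V F a * (V F b * V F b)) 1 = ev (V F a) 1 := by
    have h := ev_conj (V F) g2 (a * (b * b)) 1
    rw [c2] at h
    rw [← map_mul, ← map_mul, h]
  have key := core (X := V F x) (A := V F a) (B := V F b) h2 h3 h5
    (fun v => by
      rw [← V_mul, ← V_mul, ← V_mul, ← V_mul]
      have : x * x * x * x * x = 1 := by rw [← hx5]; simp only [pow_succ, pow_zero, one_mul]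
      rw [this, V_one])
    (fun v => by
      rw [← V_mul, ← V_mul]
      have : a * a * a = 1 := by rw [← ha3]; simp only [pow_succ, pow_zero, one_mul]
      rw [this, V_one])
    (fun v => by
      rw [← V_mul, ← V_mul]
      have : b * b * b = 1 := by rw [← hb3]; simp only [pow_succ, pow_zero, one_mul]
      rw [this, V_one])
    (fun v => by rw [← V_mul, hab, V_mul])
    (fun v => by
      rw [← V_mul, ← V_mul, ← V_mul]
      have : x * a * x * a = x * a * (x * a) := by simp only [mul_assoc]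
      rw [this, r1]; rfl)
    (fun v => by
      rw [← V_mul, ← V_mul, ← V_mul, ← V_mul, ← V_mul]
      have : x * x * b * x * x * b = x * x * b * (x * x * b) := by simp only [mul_assoc]
      rw [this, r2]; rfl) d1 d2
  rw [e16, finrank_V] at key
  omega

end Cfsg.Agent.R2.T1.N7C
end
end

-- part: R2/T2/Orb/Div_mg
section
prune_inst 0x510440071000200000080900100006000000002000008000080010209090040000200001a1001120002108040000000005c0000400000000a000000001d00000000040000400008420008000000000000000000000000000000000000000000000000000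
set_option linter.all false
open scoped Cfsg.Agent.FastGrp

-- part: R2/T2/Orb/Div
section
/-!
# S5929, orbit box: divisibility of dimensions (helper2)

* `dvd_finrank` : if `p(T) = 0` and all irreducible factors of `p` have degree divisible by `d`, then `d ∣ dim E`;
* `dvd_sub` : the version for stable subspaces;
* `deg8`, `deg4`, `deg13` : the polynomials which occur over the field with nine elements.
-/

set_option autoImplicit false

namespace Cfsg.Agent.R2.T2.Orb

open Module Polynomial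

universe u v

section div

variable {F : Type u} [Field F]

theorem aeval_comm {E E' : Type*} [AddCommGroup E] [Module F E] [AddCommGroup E'] [Module F E'] {T : Module.End F E}
    {T' : Module.End F E'} {f : E →ₗ[F] E'} (h : ∀ x, f (T x) = T' (f x)) (p : F[X]) (x : E) :
    f (aeval T p x) = aeval T' p (f x) := by
  have hpow : ∀ (n : ℕ) (y : E), f ((T ^ n) y) = (T' ^ n) (f y) := by
    intro n
    induction n with
    | zero => intro y; simp
    | succ n ih => intro y; rw [pow_succ, pow_succ, Module.End.mul_apply, Module.End.mul_apply, ih, h]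
  induction p using Polynomial.induction_on' with
  | add p q hp hq => rw [map_add, map_add, LinearMap.add_apply, LinearMap.add_apply, map_add, hp, hq]
  | monomial n a =>
    rw [aeval_monomial, aeval_monomial, Module.End.mul_apply, Module.End.mul_apply, Module.algebraMap_end_apply,
      Module.algebraMap_end_apply, map_smul, hpow]

/-- the map `p ↦ p(T) x` -/
noncomputable def cyc {E : Type*} [AddCommGroup E] [Module F E] (T : Module.End F E) (x : E) : F[X] →ₗ[F] E :=
  (LinearMap.applyₗ x).comp (aeval T).toLinearMap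

theorem cyc_apply {E : Type*} [AddCommGroup E] [Module F E] (T : Module.End F E) (x : E) (p : F[X]) :
    cyc T x p = aeval T p x := rfl

theorem dvd_of_aeval {E : Type*} [AddCommGroup E] [Module F E] {T : Module.End F E} {x : E} (hx : x ≠ 0) {q p : F[X]}
    (hq : Irreducible q) (h : aeval T q x = 0) (hp : aeval T p x = 0) : q ∣ p := by
  by_contra hn
  obtain ⟨a, b, hab⟩ := (Irreducible.coprime_iff_not_dvd hq).2 hn
  apply hx
  have h1 : aeval T (a * q + b * p) x = x := by rw [hab, map_one, Module.End.one_apply]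
  rw [← h1, map_add, map_mul, map_mul, LinearMap.add_apply, Module.End.mul_apply, Module.End.mul_apply, h, hp,
    map_zero, map_zero, add_zero]

theorem finrank_cyc {E : Type*} [AddCommGroup E] [Module F E] {T : Module.End F E} {x : E} (hx : x ≠ 0) {q : F[X]}
    (hq : Irreducible q) (h : aeval T q x = 0) : finrank F (LinearMap.range (cyc T x)) = q.natDegree := by
  have hker : LinearMap.ker (cyc T x) = (Ideal.span {q}).restrictScalars F := by
    ext p
    rw [LinearMap.mem_ker, cyc_apply]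
    constructor
    · intro hp
      exact Ideal.mem_span_singleton.2 (dvd_of_aeval hx hq h hp)
    · intro hp
      obtain ⟨r, rfl⟩ := Ideal.mem_span_singleton.1 hp
      rw [mul_comm, map_mul, Module.End.mul_apply, h, map_zero]
  have e1 := (cyc T x).quotKerEquivRange.finrank_eq
  rw [← e1, hker]
  rw [(Submodule.Quotient.restrictScalarsEquiv F (Ideal.span {q})).finrank_eq]
  exact finrank_quotient_span_eq_natDegree

theorem exists_factor {E : Type*} [AddCommGroup E] [Module F E] [FiniteDimensional F E] [Nontrivial E]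
    {T : Module.End F E} {p : F[X]} (hp : aeval T p = 0) : ∃ (q : F[X]) (x : E), q.Monic ∧ Irreducible q ∧ q ∣ p ∧
      x ≠ 0 ∧ aeval T q x = 0 := by
  have hint : IsIntegral F T := Algebra.IsIntegral.isIntegral T
  obtain ⟨q, hqm, hqi, hqd⟩ := Polynomial.exists_monic_irreducible_factor (minpoly F T) (minpoly.not_isUnit F T)
  obtain ⟨r, hr⟩ := hqd
  have hr0 : r ≠ 0 := by
    rintro rfl
    rw [mul_zero] at hr
    exact minpoly.ne_zero hint hr
  have h1 : aeval T r ≠ 0 := by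
    intro h0
    have h2 := Polynomial.natDegree_le_of_dvd (minpoly.dvd F T h0) hr0
    rw [hr, Polynomial.natDegree_mul hqi.ne_zero hr0] at h2
    have h3 := hqi.natDegree_pos
    omega
  obtain ⟨y, hy⟩ : ∃ y, aeval T r y ≠ 0 := by
    by_contra hn
    push Not at hn
    exact h1 (LinearMap.ext hn)
  refine ⟨q, aeval T r y, hqm, hqi, (Dvd.intro _ hr.symm).trans (minpoly.dvd F T hp), hy, ?_⟩
  rw [← Module.End.mul_apply, ← map_mul, ← hr, minpoly.aeval, LinearMap.zero_apply]

/-- **divisibility of the dimension** -/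
theorem dvd_finrank_aux {d : ℕ} {p : F[X]} (hp : ∀ q : F[X], q.Monic → Irreducible q → q ∣ p → d ∣ q.natDegree) :
    ∀ (n : ℕ) (E : Type v) [AddCommGroup E] [Module F E] [FiniteDimensional F E] (T : Module.End F E),
      aeval T p = 0 → finrank F E = n → d ∣ finrank F E := by
  intro n
  induction n using Nat.strong_induction_on with
  | _ n ih =>
    intro E _ _ _ T hT hn
    rcases Nat.eq_zero_or_pos n with h0 | h0
    · rw [hn, h0]; exact dvd_zero _
    have hnt : Nontrivial E := Module.finrank_pos_iff.1 (by rw [hn]; exact h0)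
    obtain ⟨q, x, hqm, hqi, hqp, hx, hqx⟩ := exists_factor hT
    set K := LinearMap.range (cyc T x) with hK
    have hfK : finrank F K = q.natDegree := finrank_cyc hx hqi hqx
    have hst : K ≤ K.comap T := by
      rintro _ ⟨p', rfl⟩
      refine ⟨X * p', ?_⟩
      rw [cyc_apply, cyc_apply, map_mul, aeval_X, Module.End.mul_apply]
    have h2 : finrank F (E ⧸ K) + finrank F K = finrank F E := Submodule.finrank_quotient_add_finrank K
    have h3 := hqi.natDegree_pos
    have h4 := ih (finrank F (E ⧸ K)) (by omega) (E ⧸ K) (K.mapQ K T hst) (by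
      refine LinearMap.ext fun y => ?_
      obtain ⟨y, rfl⟩ := K.mkQ_surjective y
      rw [← aeval_comm (T := T) (f := K.mkQ) (fun z => rfl), hT, LinearMap.zero_apply, map_zero,
        LinearMap.zero_apply]) rfl
    rw [← h2, hfK]
    exact dvd_add h4 (hp q hqm hqi hqp)

theorem dvd_finrank {d : ℕ} {p : F[X]} (hp : ∀ q : F[X], q.Monic → Irreducible q → q ∣ p → d ∣ q.natDegree)
    {E : Type v} [AddCommGroup E] [Module F E] [FiniteDimensional F E] {T : Module.End F E} (hT : aeval T p = 0) :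
    d ∣ finrank F E := dvd_finrank_aux hp _ E T hT rfl

/-- the version for stable subspaces -/
theorem dvd_sub {d : ℕ} {p : F[X]} (hp : ∀ q : F[X], q.Monic → Irreducible q → q ∣ p → d ∣ q.natDegree)
    {E : Type v} [AddCommGroup E] [Module F E] [FiniteDimensional F E] {T : Module.End F E} {W : Submodule F E}
    (hW : ∀ w ∈ W, T w ∈ W) (hT : ∀ w ∈ W, aeval T p w = 0) : d ∣ finrank F W := by
  refine dvd_finrank hp (T := T.restrict hW) ?_
  refine LinearMap.ext fun w => ?_
  apply Subtype.ext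
  have h := aeval_comm (T := T.restrict hW) (T' := T) (f := W.subtype) (fun z => rfl) p w
  rw [Submodule.subtype_apply, Submodule.subtype_apply, hT _ w.2] at h
  rw [h]; rfl

end div

section deg

variable {F : Type u} [Field F] [Finite F]

theorem card_adj {q : F[X]} (hq : Irreducible q) : Nat.card (AdjoinRoot q) = Nat.card F ^ q.natDegree ∧
    Finite (AdjoinRoot q) := by
  have : Fact (Irreducible q) := ⟨hq⟩
  have hpb := AdjoinRoot.powerBasis hq.ne_zero
  have : FiniteDimensional F (AdjoinRoot q) := (AdjoinRoot.powerBasis hq.ne_zero).finite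
  have h1 : finrank F (AdjoinRoot q) = q.natDegree := by
    rw [(AdjoinRoot.powerBasis hq.ne_zero).finrank, AdjoinRoot.powerBasis_dim]
  refine ⟨?_, Module.finite_of_finite F⟩
  rw [Module.natCard_eq_pow_finrank (K := F), h1]

theorem pow_card_sub {K : Type*} [Field K] [Finite K] {x : K} (hx : x ≠ 0) : x ^ (Nat.card K - 1) = 1 := by
  have := Fintype.ofFinite K
  rw [Nat.card_eq_fintype_card]
  exact FiniteField.pow_card_sub_one_eq_one x hx

theorem nine_mod (n k : ℕ) (m d : ℕ) (hd : orderOf (9 : ZMod n) = d) (hk : n ∣ 9 ^ m - 1) (_ : k = k) : d ∣ m := by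
  rw [← hd]
  apply orderOf_dvd_of_pow_eq_one
  have h1 : ((9 ^ m - 1 : ℕ) : ZMod n) = 0 := (ZMod.natCast_eq_zero_iff _ _).2 hk
  rw [Nat.cast_sub (Nat.one_le_pow _ _ (by norm_num)), Nat.cast_pow, Nat.cast_one, sub_eq_zero] at h1
  exact_mod_cast h1

theorem ord64 : orderOf (9 : ZMod 64) = 8 := by
  have h : orderOf (9 : ZMod 64) = 2 ^ (2 + 1) := orderOf_eq_prime_pow (by decide) (by decide)
  exact h

theorem ord32 : orderOf (9 : ZMod 32) = 4 := by
  have h : orderOf (9 : ZMod 32) = 2 ^ (1 + 1) := orderOf_eq_prime_pow (by decide) (by decide)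
  exact h

/-- `X ^ 8 - l` with `l` of order 8 over the field with nine elements -/
theorem deg8 (hF : Nat.card F = 9) (h2 : (2 : F) ≠ 0) {l : F} (hl : l ^ 4 = -1) {q : F[X]} (hq : Irreducible q)
    (hd : q ∣ X ^ 8 - C l) : 8 ∣ q.natDegree := by
  have : Fact (Irreducible q) := ⟨hq⟩
  obtain ⟨hc, hfin⟩ := card_adj hq
  obtain ⟨r, hr⟩ := hd
  have h1 : (AdjoinRoot.root q) ^ 8 = algebraMap F (AdjoinRoot q) l := by
    have h3 : aeval (AdjoinRoot.root q) (X ^ 8 - C l) = 0 := by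
      rw [hr, map_mul, aeval_def, AdjoinRoot.algebraMap_eq, AdjoinRoot.eval₂_root, zero_mul]
    rw [map_sub, map_pow, aeval_X, aeval_C, sub_eq_zero] at h3
    exact h3
  set w := AdjoinRoot.root q with hw
  have h2' : (2 : AdjoinRoot q) ≠ 0 := by
    intro h0
    apply h2
    apply (algebraMap F (AdjoinRoot q)).injective
    rw [map_ofNat, h0, map_zero]
  have h32 : w ^ 32 = -1 := by
    calc w ^ 32 = (w ^ 8) ^ 4 := by ring
      _ = algebraMap F (AdjoinRoot q) (l ^ 4) := by rw [h1, map_pow]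
      _ = -1 := by rw [hl, map_neg, map_one]
  have h64 : w ^ 64 = 1 := by
    calc w ^ 64 = (w ^ 32) ^ 2 := by ring
      _ = 1 := by rw [h32]; ring
  have ho : orderOf w = 2 ^ (5 + 1) := orderOf_eq_prime_pow (by
    intro h0
    apply h2'
    have h5 : w ^ 32 = 1 := h0
    rw [h32] at h5
    linear_combination -h5) h64
  have hw0 : w ≠ 0 := by
    intro h0
    rw [h0, zero_pow (by norm_num)] at h64
    exact zero_ne_one h64
  have h6 := orderOf_dvd_of_pow_eq_one (pow_card_sub hw0)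
  rw [ho, hc, hF] at h6
  exact nine_mod 64 0 _ 8 ord64 h6 rfl

/-- `X ^ 4 - m` with `m` of order 8 over the field with nine elements -/
theorem deg4 (hF : Nat.card F = 9) (h2 : (2 : F) ≠ 0) {l : F} (hl : l ^ 4 = -1) {q : F[X]} (hq : Irreducible q)
    (hd : q ∣ X ^ 4 - C l) : 4 ∣ q.natDegree := by
  have : Fact (Irreducible q) := ⟨hq⟩
  obtain ⟨hc, hfin⟩ := card_adj hq
  obtain ⟨r, hr⟩ := hd
  have h1 : (AdjoinRoot.root q) ^ 4 = algebraMap F (AdjoinRoot q) l := by
    have h3 : aeval (AdjoinRoot.root q) (X ^ 4 - C l) = 0 := by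
      rw [hr, map_mul, aeval_def, AdjoinRoot.algebraMap_eq, AdjoinRoot.eval₂_root, zero_mul]
    rw [map_sub, map_pow, aeval_X, aeval_C, sub_eq_zero] at h3
    exact h3
  set w := AdjoinRoot.root q with hw
  have h2' : (2 : AdjoinRoot q) ≠ 0 := by
    intro h0
    apply h2
    apply (algebraMap F (AdjoinRoot q)).injective
    rw [map_ofNat, h0, map_zero]
  have h16 : w ^ 16 = -1 := by
    calc w ^ 16 = (w ^ 4) ^ 4 := by ring
      _ = algebraMap F (AdjoinRoot q) (l ^ 4) := by rw [h1, map_pow]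
      _ = -1 := by rw [hl, map_neg, map_one]
  have h32 : w ^ 32 = 1 := by
    calc w ^ 32 = (w ^ 16) ^ 2 := by ring
      _ = 1 := by rw [h16]; ring
  have ho : orderOf w = 2 ^ (4 + 1) := orderOf_eq_prime_pow (by
    intro h0
    apply h2'
    have h5 : w ^ 16 = 1 := h0
    rw [h16] at h5
    linear_combination -h5) h32
  have hw0 : w ≠ 0 := by
    intro h0
    rw [h0, zero_pow (by norm_num)] at h32
    exact zero_ne_one h32
  have h6 := orderOf_dvd_of_pow_eq_one (pow_card_sub hw0)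
  rw [ho, hc, hF] at h6
  exact nine_mod 32 0 _ 4 ord32 h6 rfl

theorem gcd_two {m : ℕ} (h : ¬ 13 ∣ m) : Nat.gcd m 26 ∣ 2 := by
  have h1 : Nat.Coprime m 13 := ((Nat.Prime.coprime_iff_not_dvd (by norm_num : Nat.Prime 13)).2 h).symm
  have h2 : Nat.gcd m 26 ∣ 13 * 2 := Nat.gcd_dvd_right m 26
  have h3 : Nat.Coprime (Nat.gcd m 26) 13 := Nat.Coprime.coprime_dvd_left (Nat.gcd_dvd_left m 26) h1
  exact h3.dvd_of_dvd_mul_left h2

theorem cop13 {a b c : ZMod 3} (h : ∀ x : ZMod 3, x ^ 3 + a * x ^ 2 + b * x + c ≠ 0) {m : ℕ} (hm : ¬ 13 ∣ m) :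
    IsCoprime (X ^ 3 + C a * X ^ 2 + C b * X + C c : (ZMod 3)[X]) (X ^ m - 1) := by
  set χ : (ZMod 3)[X] := X ^ 3 + C a * X ^ 2 + C b * X + C c with hχ
  have hdeg : χ.natDegree = 3 := by rw [hχ]; compute_degree!
  have hirr : Irreducible χ := by
    refine Polynomial.irreducible_of_degree_le_three_of_not_isRoot (by rw [hdeg]; decide) fun x hx => h x ?_
    rw [IsRoot.def, hχ] at hx
    simpa only [_root_.ZMod.pow_card, _root_.Polynomial.eval_add, _root_.Polynomial.eval_pow, _root_.Polynomial.eval_X, _root_.Polynomial.eval_mul, _root_.Polynomial.eval_C] using hx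
  rw [Irreducible.coprime_iff_not_dvd hirr]
  rintro ⟨r, hr⟩
  have : Fact (Irreducible χ) := ⟨hirr⟩
  obtain ⟨hc, hfin⟩ := card_adj hirr
  set w := AdjoinRoot.root χ with hw
  have e0 : aeval w χ = 0 := by rw [aeval_def, AdjoinRoot.algebraMap_eq, AdjoinRoot.eval₂_root]
  have e1 : w ^ m = 1 := by
    have h3 : aeval w (X ^ m - 1 : (ZMod 3)[X]) = 0 := by rw [hr, map_mul, e0, zero_mul]
    rw [map_sub, map_pow, aeval_X, map_one, sub_eq_zero] at h3
    exact h3
  have e2 : w ^ 3 + algebraMap (ZMod 3) _ a * w ^ 2 + algebraMap (ZMod 3) _ b * w + algebraMap (ZMod 3) _ c = 0 := by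
    have h3 : aeval w (X ^ 3 + C a * X ^ 2 + C b * X + C c : (ZMod 3)[X]) = 0 := e0
    simpa only [_root_.AdjoinRoot.algebraMap_eq, _root_.map_add, _root_.map_pow, _root_.Polynomial.aeval_X, _root_.map_mul, _root_.Polynomial.aeval_C] using h3
  have hinj := (algebraMap (ZMod 3) (AdjoinRoot χ)).injective
  have key : ∀ x : ZMod 3, w ≠ algebraMap (ZMod 3) _ x := by
    intro x hx
    apply h x
    apply hinj
    rw [hx] at e2
    rw [map_zero, ← e2]
    simp only [map_add, map_mul, map_pow]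
  have hw0 : w ≠ 0 := by
    have := key 0
    rwa [map_zero] at this
  have e3 := pow_card_sub hw0
  rw [hc, hdeg, Nat.card_zmod] at e3
  have e4 : w ^ 2 = 1 := by
    apply orderOf_dvd_iff_pow_eq_one.1
    exact (Nat.dvd_gcd (orderOf_dvd_of_pow_eq_one e1) (orderOf_dvd_of_pow_eq_one e3)).trans (gcd_two hm)
  have e5 : (w - 1) * (w + 1) = 0 := by linear_combination e4
  rcases mul_eq_zero.1 e5 with h5 | h5
  · apply key 1
    rw [map_one]; linear_combination h5
  · apply key (-1)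
    rw [map_neg, map_one]; linear_combination h5

/-- additive polynomials of degree 729 over the field with nine elements -/
theorem deg13 (hF : Nat.card F = 9) [CharP F 3] {a b c : ZMod 3}
    (h : ∀ x : ZMod 3, x ^ 3 + a * x ^ 2 + b * x + c ≠ 0) {q : F[X]} (hq : Irreducible q)
    (hd : q ∣ X ^ 728 + C (a.cast : F) * X ^ 80 + C (b.cast : F) * X ^ 8 + C (c.cast : F)) : 13 ∣ q.natDegree := by
  have : Fact (Irreducible q) := ⟨hq⟩
  have : Fact (Nat.Prime 3) := ⟨by norm_num⟩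
  obtain ⟨hc, hfin⟩ := card_adj hq
  have hch : CharP (AdjoinRoot q) 3 := charP_of_injective_algebraMap (algebraMap F (AdjoinRoot q)).injective 3
  have hexp : ExpChar (AdjoinRoot q) 3 := ExpChar.prime (by norm_num)
  let _ : Algebra (ZMod 3) (AdjoinRoot q) := ZMod.algebra _ 3
  obtain ⟨r, hr⟩ := hd
  set w := AdjoinRoot.root q with hw
  have ha : ∀ x : ZMod 3, algebraMap F (AdjoinRoot q) (x.cast : F) = algebraMap (ZMod 3) (AdjoinRoot q) x := by
    intro x
    have h1 : ((algebraMap F (AdjoinRoot q)).comp (ZMod.castHom (dvd_refl 3) F)) = algebraMap (ZMod 3) (AdjoinRoot q) :=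
      RingHom.ext_zmod _ _
    have h2 := RingHom.congr_fun h1 x
    rw [RingHom.comp_apply, ZMod.castHom_apply] at h2
    exact h2
  have e0 : w ^ 728 + algebraMap (ZMod 3) _ a * w ^ 80 + algebraMap (ZMod 3) _ b * w ^ 8 + algebraMap (ZMod 3) _ c = 0 := by
    have h3 : aeval w (X ^ 728 + C (a.cast : F) * X ^ 80 + C (b.cast : F) * X ^ 8 + C (c.cast : F)) = 0 := by
      rw [hr, map_mul, aeval_def, AdjoinRoot.algebraMap_eq, AdjoinRoot.eval₂_root, zero_mul]
    rw [map_add, map_add, map_add, map_mul, map_mul, map_pow, map_pow, map_pow, aeval_X, aeval_C, aeval_C, aeval_C,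
      ha, ha, ha] at h3
    exact h3
  have hc0 : c ≠ 0 := by
    have h1 := h 0
    intro h0
    apply h1
    rw [h0]; ring
  have hw0 : w ≠ 0 := by
    intro h0
    rw [h0, zero_pow (by norm_num), zero_pow (by norm_num), zero_pow (by norm_num)] at e0
    apply hc0
    apply (algebraMap (ZMod 3) (AdjoinRoot q)).injective
    rw [map_zero]
    linear_combination e0
  by_contra hm
  set G : Module.End (ZMod 3) (AdjoinRoot q) :=
    ((frobenius (AdjoinRoot q) 3).comp (frobenius (AdjoinRoot q) 3)).toAddMonoidHom.toZModLinearMap 3 with hG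
  have hGa : ∀ x, G x = x ^ 9 := by
    intro x
    show (x ^ 3) ^ 3 = x ^ 9
    rw [← pow_mul]
  have hGp : ∀ (k : ℕ) (x : AdjoinRoot q), (G ^ k) x = x ^ 9 ^ k := by
    intro k
    induction k with
    | zero => intro x; rw [pow_zero, pow_zero, pow_one, Module.End.one_apply]
    | succ k ih => intro x; rw [pow_succ, Module.End.mul_apply, hGa, ih, ← pow_mul, pow_succ, mul_comm]
  obtain ⟨A, B, hAB⟩ := cop13 h hm
  apply hw0
  have h1 : aeval G (A * (X ^ 3 + C a * X ^ 2 + C b * X + C c) + B * (X ^ q.natDegree - 1)) w = w := by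
    rw [hAB, map_one, Module.End.one_apply]
  rw [← h1, map_add, map_mul, map_mul, LinearMap.add_apply, Module.End.mul_apply, Module.End.mul_apply]
  have h2 : aeval G (X ^ 3 + C a * X ^ 2 + C b * X + C c : (ZMod 3)[X]) w = 0 := by
    rw [map_add, map_add, map_add, map_mul, map_mul, map_pow, map_pow, aeval_X, aeval_C, aeval_C, aeval_C]
    rw [LinearMap.add_apply, LinearMap.add_apply, LinearMap.add_apply, Module.End.mul_apply, Module.End.mul_apply,
      Module.algebraMap_end_apply, Module.algebraMap_end_apply, Module.algebraMap_end_apply, hGp, hGp, hGa,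
      Algebra.smul_def, Algebra.smul_def, Algebra.smul_def]
    have p1 : w ^ 9 ^ 3 = w * w ^ 728 := by rw [← pow_succ']; norm_num
    have p2 : w ^ 9 ^ 2 = w * w ^ 80 := by rw [← pow_succ']; norm_num
    have p3 : w ^ 9 = w * w ^ 8 := by rw [← pow_succ']
    rw [p1, p2, p3]
    generalize w ^ 728 = y1 at *
    generalize w ^ 80 = y2 at *
    generalize w ^ 8 = y3 at *
    linear_combination w * e0
  have h3 : aeval G (X ^ q.natDegree - 1 : (ZMod 3)[X]) w = 0 := by
    rw [map_sub, map_pow, aeval_X, map_one, LinearMap.sub_apply, Module.End.one_apply, hGp, sub_eq_zero]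
    have h4 : w ^ (Nat.card F ^ q.natDegree - 1) = 1 := by rw [← hc]; exact pow_card_sub hw0
    rw [hF] at h4
    have h5 : 1 ≤ 9 ^ q.natDegree := Nat.one_le_pow _ _ (by norm_num)
    calc w ^ 9 ^ q.natDegree = w ^ (9 ^ q.natDegree - 1) * w := by rw [← pow_succ, Nat.sub_add_cancel h5]
      _ = w := by rw [h4, one_mul]
  rw [h2, h3, map_zero, map_zero, add_zero]

end deg

end Cfsg.Agent.R2.T2.Orb
end

-- part: R2/T2/Orb/Cnt
section
/-!
# S5929, orbit box: counting orbits (helper2)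

* `count_in` : the counting lemma inside a stable set;
* `mem_of_line` : an element mapping an `H`-line to an `H`-line belongs to (the preimage of) `H`;
* `count_orb` : `|S| |G| ≤ |H| |N|`.
-/

set_option autoImplicit false
set_option linter.unusedSectionVars false
set_option maxRecDepth 100000

namespace Cfsg.Agent.R2.T2.Orb

open Cfsg Cfsg.Lie Module
open Cfsg.Agent.R2.T1
open Cfsg.Agent.H952.F4.MaxA (rmul rone rinv)

universe u v

section gen

variable {G : Type u} [Group G] {F V : Type*} [Field F] [AddCommGroup V] [Module F V] {ρ : Representation F G V}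

/-- the counting lemma inside a stable set -/
theorem count_in [Finite G] [Finite V] (H : Subgroup G) (S N : Set V) (hN : ∀ w ∈ S, ∀ g, ρ g w ∈ N)
    (h : ∀ w ∈ S, ∀ w' ∈ S, ∀ x : G, ρ x w = w' → x ∈ H) :
    Nat.card S * Nat.card G ≤ Nat.card H * Nat.card N := by
  classical
  have := Fintype.ofFinite G
  have := Fintype.ofFinite V
  have := Fintype.ofFinite S
  have := Fintype.ofFinite N
  have := Fintype.ofFinite H
  let f : S × G → V := fun x => ρ x.2 x.1
  have h1 : (Finset.univ : Finset (S × G)).card ≤ Nat.card H * ((Finset.univ : Finset (S × G)).image f).card := by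
    refine Finset.card_le_mul_card_image _ _ fun v hv => ?_
    obtain ⟨⟨⟨w', hw'⟩, g'⟩, -, rfl⟩ := Finset.mem_image.1 hv
    rw [Nat.card_eq_fintype_card, ← Finset.card_univ]
    refine Finset.card_le_card_of_injOn (fun x => if hx : g'⁻¹ * x.2 ∈ H then (⟨g'⁻¹ * x.2, hx⟩ : H) else 1)
      (fun _ _ => Finset.mem_coe.2 (Finset.mem_univ _)) ?_
    have key : ∀ x : S × G, f x = f (⟨w', hw'⟩, g') → g'⁻¹ * x.2 ∈ H := by
      rintro ⟨⟨w, hw⟩, g⟩ hx
      refine h w hw w' hw' _ ?_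
      change ρ (g'⁻¹ * g) w = w'
      rw [rmul, show ρ g w = ρ g' w' from hx, rinv]
    rintro ⟨⟨w, hw⟩, g⟩ hx ⟨⟨w1, hw1⟩, g1⟩ hx1 he
    have e1 := (Finset.mem_filter.1 (Finset.mem_coe.1 hx)).2
    have e2 := (Finset.mem_filter.1 (Finset.mem_coe.1 hx1)).2
    have k1 : g'⁻¹ * g ∈ H := key _ e1
    have k2 : g'⁻¹ * g1 ∈ H := key _ e2
    simp only [k1, k2, dif_pos, Subtype.mk.injEq, mul_right_inj] at he
    subst he
    have h5 : ρ g w = ρ g w1 := Eq.trans (b := ρ g' w') e1 e2.symm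
    have h6 : w = w1 := by rw [← rinv ρ g w, h5, rinv]
    subst h6
    rfl
  have h2 : ((Finset.univ : Finset (S × G)).image f).card ≤ Nat.card N := by
    have h3 : ((Finset.univ : Finset (S × G)).image f) ⊆ N.toFinset := by
      intro v hv
      obtain ⟨⟨⟨w, hw⟩, g⟩, -, rfl⟩ := Finset.mem_image.1 hv
      exact Set.mem_toFinset.2 (hN w hw g)
    have h4 := Finset.card_le_card h3
    rwa [Set.toFinset_card, ← Nat.card_eq_fintype_card] at h4
  rw [Finset.card_univ, Fintype.card_prod, ← Nat.card_eq_fintype_card, ← Nat.card_eq_fintype_card] at h1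
  exact h1.trans (Nat.mul_le_mul_left _ h2)

end gen

variable {F : Type u} [Field F] {H : Subgroup ↥(chevE7.group F)}

/-- a maximal subgroup `≠ 1` is self-normalizing -/
theorem normalizer_eq (hM : IsCoatom H) (hH : H ≠ ⊥) : Subgroup.normalizer (H : Set ↥(chevE7.group F)) = H := by
  have hs : IsSimpleGroup ↥(chevE7.group F) := simpleE7
  rcases eq_or_lt_of_le (Subgroup.le_normalizer (H := H)) with h | h
  · exact h.symm
  · exfalso
    have h1 := hM.2 _ h
    have h2 : H.Normal := Subgroup.normalizer_eq_top_iff.1 h1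
    rcases hs.eq_bot_or_eq_top_of_normal H h2 with h3 | h3
    · exact hH h3
    · exact hM.1 h3

section irr

variable {M : Type v} [AddCommGroup M] [Module F M] [FiniteDimensional F M] {ρ : Representation F (Gh F) M}

theorem St_line (hM : IsCoatom H) (hρ : Irr ρ) (h1 : 1 < finrank F M) {w : M} (hw : w ≠ 0)
    (hs : ∀ g, ad F g ∈ H → ∃ c : F, ρ g w = c • w) : St ρ (Submodule.span F {w}) = H.comap (ad F) := by
  refine St_eq hM hρ ?_ ?_ ?_
  · intro g hg v hv
    obtain ⟨a, rfl⟩ := Submodule.mem_span_singleton.1 hv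
    obtain ⟨c, hc⟩ := hs g hg
    rw [map_smul, hc]
    exact Submodule.smul_mem _ _ (Submodule.smul_mem _ _ (Submodule.mem_span_singleton_self w))
  · intro h0
    exact hw (Submodule.span_singleton_eq_bot.1 h0)
  · intro h0
    have h2 : finrank F ↥(Submodule.span F {w}) = 1 := finrank_span_singleton hw
    rw [h0, finrank_top] at h2
    omega

/-- an element mapping an `H`-line to an `H`-line belongs to the preimage of `H` -/
theorem mem_of_line (hM : IsCoatom H) (hH : H ≠ ⊥) (hρ : Irr ρ) (h1 : 1 < finrank F M) {w w' : M} (hw : w ≠ 0)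
    (hw' : w' ≠ 0) (hs : ∀ g, ad F g ∈ H → ∃ c : F, ρ g w = c • w) (hs' : ∀ g, ad F g ∈ H → ∃ c : F, ρ g w' = c • w')
    {x : Gh F} {c : F} (hx : ρ x w = c • w') : ad F x ∈ H := by
  have hc : c ≠ 0 := by
    rintro rfl
    rw [zero_smul] at hx
    apply hw
    rw [← ρ_inv ρ x w, hx, map_zero]
  rw [← normalizer_eq hM hH]
  have key : ∀ g : Gh F, ad F g ∈ H → ad F (x * g * x⁻¹) ∈ H := by
    intro g hg
    have h2 : x * g * x⁻¹ ∈ St ρ (Submodule.span F {w'}) := by
      apply mem_St_of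
      intro v hv
      obtain ⟨a, rfl⟩ := Submodule.mem_span_singleton.1 hv
      obtain ⟨d, hd⟩ := hs g hg
      have h3 : ρ x⁻¹ w' = c⁻¹ • w := by
        have h4 := ρ_inv ρ x w
        rw [hx, map_smul] at h4
        rw [← h4, smul_smul, inv_mul_cancel₀ hc, one_smul]
      rw [map_smul, map_mul, map_mul, Module.End.mul_apply, Module.End.mul_apply, h3, map_smul, hd, map_smul, map_smul, hx]
      exact Submodule.smul_mem _ _ (Submodule.smul_mem _ _ (Submodule.smul_mem _ _ (Submodule.smul_mem _ _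
        (Submodule.mem_span_singleton_self w'))))
    rw [St_line hM hρ h1 hw' hs'] at h2
    exact h2
  have keyinv : ∀ g : Gh F, ad F g ∈ H → ad F (x⁻¹ * g * x) ∈ H := by
    intro g hg
    have h2 : x⁻¹ * g * x ∈ St ρ (Submodule.span F {w}) := by
      apply mem_St_of
      intro v hv
      obtain ⟨a, rfl⟩ := Submodule.mem_span_singleton.1 hv
      obtain ⟨d, hd⟩ := hs' g hg
      have h3 : ρ x⁻¹ w' = c⁻¹ • w := by
        have h4 := ρ_inv ρ x w
        rw [hx, map_smul] at h4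
        rw [← h4, smul_smul, inv_mul_cancel₀ hc, one_smul]
      rw [map_smul, map_mul, map_mul, Module.End.mul_apply, Module.End.mul_apply, hx, map_smul, hd, map_smul, map_smul, h3]
      exact Submodule.smul_mem _ _ (Submodule.smul_mem _ _ (Submodule.smul_mem _ _ (Submodule.smul_mem _ _
        (Submodule.mem_span_singleton_self w))))
    rw [St_line hM hρ h1 hw hs] at h2
    exact h2
  rw [Subgroup.mem_normalizer_iff]
  intro h
  obtain ⟨g, rfl⟩ := ad_surjective h
  constructor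
  · intro hg
    have h5 := key g hg
    rwa [map_mul, map_mul, map_inv] at h5
  · intro hg
    have h5 := keyinv (x * g * x⁻¹) (by rw [map_mul, map_mul, map_inv]; exact hg)
    have h6 : x⁻¹ * (x * g * x⁻¹) * x = g := by group
    rwa [h6] at h5

/-- **counting** -/
theorem count_orb [Finite F] (hM : IsCoatom H) (hH : H ≠ ⊥) (hρ : Irr ρ) (h1 : 1 < finrank F M) (S N : Set M)
    (hS : ∀ w ∈ S, w ≠ 0 ∧ ∀ g, ad F g ∈ H → ∃ c : F, ρ g w = c • w) (hN : ∀ w ∈ S, ∀ g, ρ g w ∈ N) :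
    Nat.card S * Nat.card ↥(chevE7.group F) ≤ Nat.card ↥H * Nat.card N := by
  have hfin : Finite M := Module.finite_of_finite F
  have hcount := count_in (ρ := ρ) (H.comap (ad F)) S N hN (by
    intro w hw w' hw' x hx
    exact mem_of_line hM hH hρ h1 (hS w hw).1 (hS w' hw').1 (hS w hw).2 (hS w' hw').2 (c := 1) (by rw [hx, one_smul]))
  have e1 := Subgroup.card_mul_index (H.comap (ad F))
  have e2 := Subgroup.card_mul_index H
  rw [Subgroup.index_comap_of_surjective H ad_surjective] at e1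
  have hpos : 0 < Nat.card ↥(H.comap (ad F)) := Nat.card_pos
  have h4 : Nat.card S * H.index ≤ Nat.card N := by
    have h5 : Nat.card ↥(H.comap (ad F)) * (Nat.card S * H.index) ≤ Nat.card ↥(H.comap (ad F)) * Nat.card N := by
      calc Nat.card ↥(H.comap (ad F)) * (Nat.card S * H.index) = Nat.card S * (Nat.card ↥(H.comap (ad F)) * H.index) := by ring
        _ = Nat.card S * Nat.card (Gh F) := by rw [e1]
        _ ≤ Nat.card ↥(H.comap (ad F)) * Nat.card N := hcount
    exact Nat.le_of_mul_le_mul_left h5 hpos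
  calc Nat.card S * Nat.card ↥(chevE7.group F) = Nat.card ↥H * (Nat.card S * H.index) := by rw [← e2]; ring
    _ ≤ Nat.card ↥H * Nat.card N := Nat.mul_le_mul_left _ h4

end irr

end Cfsg.Agent.R2.T2.Orb
end

-- part: R2/T2/N6K/Tab
section
/-!
# S5929, counting in the Lie algebra of `E₇` (helper18): tables

`M z := del F z`, `e` the highest weight vector (index 238). A root `r` with `mv r 238 ≠ none` is *lowering*; `L1` : the
weights `238 + r`, `L2` : the 27 weights of the next layer.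

* `Pu s`, `Pl s`, `Pz s` : raising roots / lowering roots / roots killing `e` which move the weight `s`;
* `orth_all`, `pc_comm` : the checks.
-/

set_option autoImplicit false
set_option maxRecDepth 100000

namespace Cfsg.Agent.R2.T2.N6K

open Cfsg Cfsg.Lie Matrix
open Cfsg.Agent.R2.T1 Cfsg.Agent.R2.PX Cfsg.Agent.R2.T1.Mu
open Cfsg.Agent.ChevalleyStructure.Elts Cfsg.Agent.ChevalleyStructure.RootVec
  Cfsg.Agent.ChevalleyStructure.RootVecTab
open Cfsg.Agent.H943.E7V.Block (D1 rho)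

universe u

/-! ### tables -/

private def frcM {α : Type} (x : ℕ) (f : ℕ → α) : α := Nat.rec (f 0) (fun k _ => f k) (Nat.succ x)

private def nthM (l : List (List (ℕ × ℕ × ℤ))) : ℕ → List (ℕ × ℕ × ℤ) :=
  List.rec (fun _ => []) (fun a _ ih n => Nat.rec a (fun k _ => ih k) n) l

private theorem nthM_eq (l : List (List (ℕ × ℕ × ℤ))) (n : ℕ) : l.getD n [] = nthM l n := by
  induction l generalizing n with
  | nil => rfl
  | cons a l ih => cases n with
    | zero => rfl
    | succ k => exact ih k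

private def mskM (l : List (ℕ × ℕ × ℤ)) : ℕ := List.rec 0 (fun e _ ih => Nat.lor ih (Nat.shiftLeft 1 e.1)) l

private def fndM (s : ℕ) (l : List (ℕ × ℕ × ℤ)) : Option (ℕ × ℤ) :=
  List.rec none (fun e _ ih => Bool.rec ih (some e.2) (Nat.beq e.1 s)) l

private def mvF (r s : ℕ) : Option (ℕ × ℤ) := frcM r fun r => frcM s fun s =>
  Bool.rec (fndM s (nthM T56 r)) none (Nat.beq (Nat.land (Nat.shiftRight (mskM (nthM T56 r)) s) 1) 0)

private theorem mv_fast : mv = mvF := by
  have h1 : ∀ (s : ℕ) (l : List (ℕ × ℕ × ℤ)),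
      ((l.filter fun x => Nat.beq x.1 s).map fun x => x.2).head? = fndM s l := fun s l => by
    induction l with
    | nil => rfl
    | cons e l ih =>
      show _ = (Bool.rec (fndM s l) (some e.2) (Nat.beq e.1 s) : Option (ℕ × ℤ))
      rw [List.filter_cons]
      cases Nat.beq e.1 s
      · exact ih
      · rfl
  have h2 : ∀ (s : ℕ) (l : List (ℕ × ℕ × ℤ)), (mskM l).testBit s = false → fndM s l = none := fun s l h => by
    induction l with
    | nil => rfl
    | cons e l ih =>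
      have h1 : (mskM l ||| 1 <<< e.1).testBit s = false := h
      rw [Nat.testBit_or, Bool.or_eq_false_iff, Nat.one_shiftLeft, Nat.testBit_two_pow] at h1
      show (Bool.rec (fndM s l) (some e.2) (Nat.beq e.1 s) : Option (ℕ × ℤ)) = none
      rw [Bool.eq_false_iff.2 fun h2 => of_decide_eq_false h1.2 (Nat.eq_of_beq_eq_true h2)]
      exact ih h1.1
  funext r s
  refine (h1 s (T56.getD r [])).trans ?_
  rw [nthM_eq]
  show _ = (Bool.rec (fndM s (nthM T56 r)) none
    (Nat.beq (Nat.land (Nat.shiftRight (mskM (nthM T56 r)) s) 1) 0) : Option (ℕ × ℤ))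
  generalize nthM T56 r = l
  cases h : Nat.beq (Nat.land (Nat.shiftRight (mskM l) s) 1) 0 with
  | false => rfl
  | true =>
    refine h2 _ _ ?_
    have h3 : (mskM l >>> s) &&& 1 = 0 := Nat.eq_of_beq_eq_true h
    rw [Nat.and_one_is_mod] at h3
    rw [← Nat.add_zero s, ← Nat.testBit_shiftRight, Nat.testBit_zero, h3]
    rfl

/-- first layer -/
def L1 : List ℕ := [161, 183, 193, 199, 202, 203, 209, 212, 213, 216, 217, 218, 221, 222, 223, 224, 225, 228, 229, 230,
  231, 232, 233, 234, 235, 236, 237]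

/-- second layer -/
def L2 : List ℕ := [122, 125, 129, 134, 140, 146, 151, 155, 158, 160, 168, 173, 177, 180, 182, 187, 190, 192, 196, 198,
  201, 206, 208, 211, 215, 220, 227]

/-- lowering roots moving `s` -/
def Pl (s : ℕ) : Finset (Fin 126) := Finset.univ.filter fun r => ((mv r.val 238).isSome && (mv r.val s).isSome) = true

/-- raising roots moving `s` -/
def Pu (s : ℕ) : Finset (Fin 126) := Finset.univ.filter fun r => ((mv (125 - r.val) 238).isSome && (mv r.val s).isSome) = true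

/-- roots killing the highest weight vector, moving `s` -/
def Pz (s : ℕ) : Finset (Fin 126) := Finset.univ.filter fun r => ((mv r.val 238).isNone && (mv r.val s).isSome) = true

/-- lowering roots -/
def Pt : Finset (Fin 126) := Finset.univ.filter fun r => (mv r.val 238).isSome = true

theorem mem_Pl {s : ℕ} {r : Fin 126} : r ∈ Pl s ↔ (mv r.val 238).isSome = true ∧ (mv r.val s).isSome = true := by
  simp [Pl]

theorem mem_Pu {s : ℕ} {r : Fin 126} : r ∈ Pu s ↔ (mv (125 - r.val) 238).isSome = true ∧ (mv r.val s).isSome = true := by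
  simp only [Pu, _root_.Bool.and_eq_true, _root_.Finset.mem_filter, _root_.Finset.mem_univ, _root_.true_and]

theorem mem_Pz {s : ℕ} {r : Fin 126} : r ∈ Pz s ↔ (mv r.val 238).isNone = true ∧ (mv r.val s).isSome = true := by
  simp [Pz]

theorem mem_Pt {r : Fin 126} : r ∈ Pt ↔ (mv r.val 238).isSome = true := by
  simp [Pt]

theorem card_Pt : Pt.card = 27 := by
  delta Pt
  rw [mv_fast]
  decide +kernel
theorem card_Pl : ∀ s ∈ L1, (Pl s).card = 10 := by
  delta Pl
  rw [mv_fast]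
  decide +kernel
theorem card_Pu : ∀ s ∈ L2, (Pu s).card = 10 := by
  delta Pu
  rw [mv_fast]
  decide +kernel
private noncomputable def _root_.Cfsg.Agent.KOf8acae6.k0 : type_of% @Decidable.decide := @(fun x0 x1 => @Decidable.rec.{1} _ @(fun x2 => @Bool) @(fun x2 => @Bool.false) @(fun x2 => @Bool.true) @x1)
private theorem _root_.Cfsg.Agent.KOf8acae6.e0 : @Decidable.decide = @_root_.Cfsg.Agent.KOf8acae6.k0 := by delta _root_.Cfsg.Agent.KOf8acae6.k0; rfl'
private noncomputable def _root_.Cfsg.Agent.KOf8acae6.k1 : type_of% @Nat.decEq := @(fun x0 x1 => @Bool.rec.{1} @(fun x2 => (@Eq.{1} _ (@Nat.beq @x0 @x1) @x2) → @Decidable (@Eq.{1} _ @x0 @x1)) @(fun x2 => @Decidable.isFalse _ (@Nat.ne_of_beq_eq_false _ _ @x2)) @(fun x2 => @Decidable.isTrue _ (@Nat.eq_of_beq_eq_true _ _ @x2)) (@Nat.beq @x0 @x1) (@Eq.refl.{1} _ (@Nat.beq @x0 @x1)))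
private theorem _root_.Cfsg.Agent.KOf8acae6.e1 : @Nat.decEq = @_root_.Cfsg.Agent.KOf8acae6.k1 := by delta _root_.Cfsg.Agent.KOf8acae6.k1; rfl'
private noncomputable def _root_.Cfsg.Agent.KOf8acae6.k2 : type_of% @instDecidableEqNat := @Cfsg.Agent.KOf8acae6.k1
private theorem _root_.Cfsg.Agent.KOf8acae6.e2 : @instDecidableEqNat = @_root_.Cfsg.Agent.KOf8acae6.k2 := by delta _root_.Cfsg.Agent.KOf8acae6.k2; rewrite [← Cfsg.Agent.KOf8acae6.e1]; rfl'
private theorem _root_.Cfsg.Agent.KOf8acae6.e3.{ku, kv} {α : Type kv} {M : List α → Sort ku} (φ : ∀ l, M l) {z : M List.nil} {s : ∀ a l, M l → M (List.cons a l)} (h0 : φ List.nil = z) (hs : ∀ a l, φ (List.cons a l) = s a l (φ l)) (l : List α) : φ l = @List.rec α M z s l := List.rec h0 (fun a l ih => (hs a l).trans (congrArg (s a l) ih)) l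
private noncomputable def _root_.Cfsg.Agent.KOf8acae6.k5.{ku0} : type_of% @Finset.card.{ku0} := @(fun x0 x1 => @Quot.lift.{(ku0+1), 1} _ _ _ (@List.length.{ku0} _) @(fun x2 x3 => @List.Perm.length_eq.{ku0} _ _ _) (@Finset.val.{ku0} _ @x1))
private theorem _root_.Cfsg.Agent.KOf8acae6.e5.{ku0} : @Finset.card.{ku0} = @_root_.Cfsg.Agent.KOf8acae6.k5.{ku0} := by delta _root_.Cfsg.Agent.KOf8acae6.k5; rfl'
private noncomputable def _root_.Cfsg.Agent.KOf8acae6.k7.{ku0} : type_of% @Finset.filter.{ku0} := @(fun x0 x1 x2 x3 => @Finset.mk.{ku0} _ (@Quot.lift.{(ku0+1), (ku0+1)} _ _ _ @(fun x4 => @Quot.mk.{(ku0+1)} _ (@Setoid.r.{(ku0+1)} _ _) (@List.filter.{ku0} _ @(fun x5 => @Decidable.rec.{1} _ @(fun x6 => @Bool) @(fun x6 => @Bool.false) @(fun x6 => @Bool.true) (@x2 @x5)) @x4)) (@Multiset.filter._proof_1.{ku0} _ @x1 _) (@Finset.val.{ku0} _ @x3)) (@Finset.filter._proof_1.{ku0} _ @x1 _ @x3))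
private theorem _root_.Cfsg.Agent.KOf8acae6.e7.{ku0} : @Finset.filter.{ku0} = @_root_.Cfsg.Agent.KOf8acae6.k7.{ku0} := by delta _root_.Cfsg.Agent.KOf8acae6.k7; rfl'
private noncomputable def _root_.Cfsg.Agent.KOf8acae6.k8 : type_of% @Bool.decEq := @(fun x0 x1 => @Bool.rec.{1} @(fun x2 => @Decidable (@Eq.{1} _ @x2 @x1)) (@Bool.rec.{1} @(fun x2 => @Decidable (@Eq.{1} _ @Bool.false @x2)) (@Decidable.isTrue _ (@rfl.{1} _ _)) (@Decidable.isFalse _ @(fun x2 => @Bool.noConfusion.{0} _ _ _ @x2)) @x1) (@Bool.rec.{1} @(fun x2 => @Decidable (@Eq.{1} _ @Bool.true @x2)) (@Decidable.isFalse _ @(fun x2 => @Bool.noConfusion.{0} _ _ _ @x2)) (@Decidable.isTrue _ (@rfl.{1} _ _)) @x1) @x0)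
private theorem _root_.Cfsg.Agent.KOf8acae6.e8 : @Bool.decEq = @_root_.Cfsg.Agent.KOf8acae6.k8 := by delta _root_.Cfsg.Agent.KOf8acae6.k8; rfl'
private noncomputable def _root_.Cfsg.Agent.KOf8acae6.k9 : type_of% @instDecidableEqBool := @Cfsg.Agent.KOf8acae6.k8
private theorem _root_.Cfsg.Agent.KOf8acae6.e9 : @instDecidableEqBool = @_root_.Cfsg.Agent.KOf8acae6.k9 := by delta _root_.Cfsg.Agent.KOf8acae6.k9; rewrite [← Cfsg.Agent.KOf8acae6.e8]; rfl'
private noncomputable def _root_.Cfsg.Agent.KOf8acae6.k10.{ku0} : type_of% @Option.isSome.{ku0} := @(fun x0 x1 => @Option.rec.{1, ku0} @x0 @(fun x2 => @Bool) @Bool.false @(fun x2 => @Bool.true) @x1)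
private theorem _root_.Cfsg.Agent.KOf8acae6.e10.{ku0} : @Option.isSome.{ku0} = @_root_.Cfsg.Agent.KOf8acae6.k10.{ku0} := by delta _root_.Cfsg.Agent.KOf8acae6.k10; rfl'
private noncomputable def _root_.Cfsg.Agent.KOf8acae6.k11 : (by first | exact type_of% @Cfsg.Agent.R2.T2.N6K.frcM | exact Unit : Sort _) := by first | (refine @Subtype.val _ (fun g => @Cfsg.Agent.R2.T2.N6K.frcM = @g) (@Subtype.mk _ _ (@(fun x0 x1 x2 => @x2 @x1)) ?_); rfl') | exact @Cfsg.Agent.R2.T2.N6K.frcM | exact ()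
private theorem _root_.Cfsg.Agent.KOf8acae6.e11 : (by first | exact @Cfsg.Agent.R2.T2.N6K.frcM = @_root_.Cfsg.Agent.KOf8acae6.k11 | exact True : Prop) := by first | (delta _root_.Cfsg.Agent.KOf8acae6.k11; exact @Subtype.property _ (fun g => @Cfsg.Agent.R2.T2.N6K.frcM = @g) _) | rfl | trivial
private noncomputable def _root_.Cfsg.Agent.KOf8acae6.k12 : (by first | exact type_of% @Cfsg.Agent.R2.T2.N6K.mskM | exact Unit : Sort _) := by first | (refine @Subtype.val _ (fun g => @Cfsg.Agent.R2.T2.N6K.mskM = @g) (@Subtype.mk _ _ (@(fun x0 => @List.rec.{1, 0} (ℕ × (ℕ × ℤ)) @(fun x1 => ℕ) (nat_lit 0) @(fun x1 x2 x3 => @Nat.lor @x3 (@Nat.shiftLeft (nat_lit 1) (@Prod.fst.{0, 0} _ _ @x1))) @x0)) ?_); rfl') | exact @Cfsg.Agent.R2.T2.N6K.mskM | exact ()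
private theorem _root_.Cfsg.Agent.KOf8acae6.e12 : (by first | exact @Cfsg.Agent.R2.T2.N6K.mskM = @_root_.Cfsg.Agent.KOf8acae6.k12 | exact True : Prop) := by first | (delta _root_.Cfsg.Agent.KOf8acae6.k12; exact @Subtype.property _ (fun g => @Cfsg.Agent.R2.T2.N6K.mskM = @g) _) | rfl | trivial
private noncomputable def _root_.Cfsg.Agent.KOf8acae6.k13 : (by first | exact type_of% @Cfsg.Agent.R2.T2.N6K.mvF | exact Unit : Sort _) := by first | (refine @Subtype.val _ (fun g => @Cfsg.Agent.R2.T2.N6K.mvF = @g) (@Subtype.mk _ _ (@(fun x0 x1 => @Cfsg.Agent.KOf8acae6.k11 _ @x0 @(fun x2 => @Cfsg.Agent.KOf8acae6.k11 _ @x1 @(fun x3 => @Bool.rec.{1} @(fun x4 => @Option.{0} (ℕ × ℤ)) (@Cfsg.Agent.R2.T2.N6K.fndM @x3 (@Cfsg.Agent.R2.T2.N6K.nthM @Cfsg.Agent.R2.T1.T56 @x2)) (@Option.none.{0} _) (@Nat.beq (@Nat.land (@Nat.shiftRight (@Cfsg.Agent.KOf8acae6.k12 (@Cfsg.Agent.R2.T2.N6K.nthM @Cfsg.Agent.R2.T1.T56 @x2)) @x3) (nat_lit 1)) (nat_lit 0)))))) ?_); rewrite [← Cfsg.Agent.KOf8acae6.e12,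 ← Cfsg.Agent.KOf8acae6.e11]; (try delta Cfsg.Agent.R2.T2.N6K.mvF); (try generalize @Cfsg.Agent.R2.T2.N6K.frcM = g0); (try generalize @Cfsg.Agent.R2.T2.N6K.fndM = g1); (try generalize @Cfsg.Agent.R2.T2.N6K.nthM = g2); (try generalize @Cfsg.Agent.R2.T1.T56 = g3); (try generalize @Cfsg.Agent.R2.T2.N6K.mskM = g4); rfl') | exact @Cfsg.Agent.R2.T2.N6K.mvF | exact ()
private theorem _root_.Cfsg.Agent.KOf8acae6.e13 : (by first | exact @Cfsg.Agent.R2.T2.N6K.mvF = @_root_.Cfsg.Agent.KOf8acae6.k13 | exact True : Prop) := by first | (delta _root_.Cfsg.Agent.KOf8acae6.k13; exact @Subtype.property _ (fun g => @Cfsg.Agent.R2.T2.N6K.mvF = @g) _) | rfl | trivial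
private noncomputable def _root_.Cfsg.Agent.KOf8acae6.k14.{ku0} : type_of% @List.decidableBAll.{ku0} := @(fun x0 x1 x2 x3 => @List.rec.{1, ku0} @x0 @(fun x4 => @Decidable ((x5 : @x0) → (@Membership.mem.{ku0, ku0} _ _ _ @x4 @x5) → @x1 @x5)) (@Decidable.isTrue _ (@List.decidableBAll._proof_1.{ku0} _ @x1)) @(fun x4 x5 x6 => @Decidable.rec.{1} _ @(fun x7 => @Decidable ((x8 : @x0) → (@Membership.mem.{ku0, ku0} _ _ _ (@x4 :: @x5) @x8) → @x1 @x8)) @(fun x7 => @Decidable.isFalse _ (@List.decidableBAll._proof_4.{ku0} _ @x1 @x4 @x5 @x7)) @(fun x7 => @Decidable.rec.{1} _ @(fun x8 => @Decidable ((x9 : @x0) → (@Membership.mem.{ku0, ku0} _ _ _ (@x4 :: @x5) @x9) → @x1 @x9)) @(fun x8 => @Decidable.isFalse _ (@List.decidableBAll._proof_3.{ku0} _ @x1 @x4 @x5 @x8)) @(fun x8 => @Decidable.isTrue _ (@List.decidableBAll._proof_2.{ku0} _ @x1 @x4 @x5 @x7 @x8)) @x6) (@x2 @x4)) @x3)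
private theorem _root_.Cfsg.Agent.KOf8acae6.e14.{ku0} : @List.decidableBAll.{ku0} = @_root_.Cfsg.Agent.KOf8acae6.k14.{ku0} := by delta _root_.Cfsg.Agent.KOf8acae6.k14; funext a0 a1 a2 a3; refine (_root_.Cfsg.Agent.KOf8acae6.e3 (fun a3 => @List.decidableBAll.{ku0} a0 a1 a2 a3) ?_ (fun c0 c1 => ?_) a3 :) <;> (rfl')
private noncomputable def _root_.Cfsg.Agent.KOf8acae6.k15 : type_of% @Bool.and := @(fun x0 x1 => @Bool.rec.{1} @(fun x2 => @Bool) @Bool.false @x1 @x0)
private theorem _root_.Cfsg.Agent.KOf8acae6.e15 : @Bool.and = @_root_.Cfsg.Agent.KOf8acae6.k15 := by delta _root_.Cfsg.Agent.KOf8acae6.k15; rfl'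
private noncomputable def _root_.Cfsg.Agent.KOf8acae6.k16.{ku0} : type_of% @Option.isNone.{ku0} := @(fun x0 x1 => @Option.rec.{1, ku0} @x0 @(fun x2 => @Bool) @Bool.true @(fun x2 => @Bool.false) @x1)
private theorem _root_.Cfsg.Agent.KOf8acae6.e16.{ku0} : @Option.isNone.{ku0} = @_root_.Cfsg.Agent.KOf8acae6.k16.{ku0} := by delta _root_.Cfsg.Agent.KOf8acae6.k16; rfl'

theorem card_Pz : ∀ s ∈ L1, (Pz s).card = 17 := by
  delta Pz
  rw [mv_fast]
  (first | (refine of_decide_eq_true ?_; rewrite [Cfsg.Agent.KOf8acae6.e0, Cfsg.Agent.KOf8acae6.e14.{0}, Cfsg.Agent.KOf8acae6.e2, Cfsg.Agent.KOf8acae6.e5.{0}, Cfsg.Agent.KOf8acae6.e7.{0}, Cfsg.Agent.KOf8acae6.e9, Cfsg.Agent.KOf8acae6.e15, Cfsg.Agent.KOf8acae6.e16.{0}, Cfsg.Agent.KOf8acae6.e13, Cfsg.Agent.KOf8acae6.e10.{0}]; decide +kernel) | decide +kernel)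

/-- the targets of the lowering roots at the top -/
theorem low_tab : ((List.range 126).all fun r => match mv r 238 with
    | none => true
    | some (a, _) => L1.contains a) = true := by
  rw [mv_fast]
  decide +kernel

private noncomputable def _root_.Cfsg.Agent.KOf8acae6.k17.{ku0} : type_of% @List.all.{ku0} := @(fun x0 x1 x2 => @List.rec.{(ku0+1), ku0} @x0 @(fun x3 => (@x0 → @Bool) → @Bool) @(fun x3 => @Bool.true) @(fun x3 x4 x5 x6 => @Bool.rec.{1} @(fun x7 => @Bool) @Bool.false (@x5 @x6) (@x6 @x3)) @x1 @x2)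
private theorem _root_.Cfsg.Agent.KOf8acae6.e17.{ku0} : @List.all.{ku0} = @_root_.Cfsg.Agent.KOf8acae6.k17.{ku0} := by delta _root_.Cfsg.Agent.KOf8acae6.k17; funext a0 a1 a2; refine (congrFun (_root_.Cfsg.Agent.KOf8acae6.e3 (fun a1 a2 => @List.all.{ku0} a0 a1 a2) ?_ (fun c0 c1 => ?_) a1) a2 :) <;> (rfl')
private theorem _root_.Cfsg.Agent.KOf8acae6.e18.{ku} {M : Nat → Sort ku} (φ : ∀ n, M n) {z : M Nat.zero} {s : ∀ n, M n → M (Nat.succ n)} (h0 : φ Nat.zero = z) (hs : ∀ n, φ (Nat.succ n) = s n (φ n)) (n : Nat) : φ n = @Nat.rec M z s n := Nat.rec h0 (fun n ih => (hs n).trans (congrArg (s n) ih)) n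
private noncomputable def _root_.Cfsg.Agent.KOf8acae6.k19 : type_of% @List.range.loop := @(fun x0 x1 => @Nat.rec.{1} @(fun x2 => (@List.{0} ℕ) → @List.{0} ℕ) @(fun x2 => @x2) @(fun x2 x3 x4 => @x3 (@x2 :: @x4)) @x0 @x1)
private theorem _root_.Cfsg.Agent.KOf8acae6.e19 : @List.range.loop = @_root_.Cfsg.Agent.KOf8acae6.k19 := by delta _root_.Cfsg.Agent.KOf8acae6.k19; funext a0 a1; refine (congrFun (_root_.Cfsg.Agent.KOf8acae6.e18 (fun a0 a1 => @List.range.loop a0 a1) ?_ (fun c0 => ?_) a0) a1 :) <;> (rfl')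
private noncomputable def _root_.Cfsg.Agent.KOf8acae6.k20 : type_of% @List.range := @(fun x0 => @Cfsg.Agent.KOf8acae6.k19 @x0 [])
private theorem _root_.Cfsg.Agent.KOf8acae6.e20 : @List.range = @_root_.Cfsg.Agent.KOf8acae6.k20 := by delta _root_.Cfsg.Agent.KOf8acae6.k20; rewrite [← Cfsg.Agent.KOf8acae6.e19]; rfl'
/-- raising roots on the first layer -/
theorem up_tab : ((List.range 126).all fun r => (mv (125 - r) 238).isNone || ((mv r 238).isNone && L1.all fun s =>
    match mv r s with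
    | none => true
    | some (a, _) => Nat.beq a 238)) = true := by
  rw [mv_fast]
  decide +kernel

private noncomputable def _root_.Cfsg.Agent.KOf8acae6.k21 : type_of% @Bool.or := @(fun x0 x1 => @Bool.rec.{1} @(fun x2 => @Bool) @x1 @Bool.true @x0)
private theorem _root_.Cfsg.Agent.KOf8acae6.e21 : @Bool.or = @_root_.Cfsg.Agent.KOf8acae6.k21 := by delta _root_.Cfsg.Agent.KOf8acae6.k21; rfl'
private noncomputable def _root_.Cfsg.Agent.KOf8acae6.k33.{ku0} : type_of% @List.elem.{ku0} := @(fun x0 x1 x2 x3 => @List.rec.{1, ku0} @x0 @(fun x4 => @Bool) @Bool.false @(fun x4 x5 x6 => @Bool.rec.{1} @(fun x7 => @Bool) @x6 @Bool.true (@BEq.beq.{ku0} _ @x1 @x2 @x4)) @x3)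
private theorem _root_.Cfsg.Agent.KOf8acae6.e33.{ku0} : @List.elem.{ku0} = @_root_.Cfsg.Agent.KOf8acae6.k33.{ku0} := by delta _root_.Cfsg.Agent.KOf8acae6.k33; funext a0 a1 a2 a3; refine (_root_.Cfsg.Agent.KOf8acae6.e3 (fun a3 => @List.elem.{ku0} a0 a1 a2 a3) ?_ (fun c0 c1 => ?_) a3 :) <;> (rfl')
private noncomputable def _root_.Cfsg.Agent.KOf8acae6.k34.{ku0} : type_of% @List.contains.{ku0} := @(fun x0 x1 x2 x3 => @Cfsg.Agent.KOf8acae6.k33.{ku0} _ @x1 @x3 @x2)
private theorem _root_.Cfsg.Agent.KOf8acae6.e34.{ku0} : @List.contains.{ku0} = @_root_.Cfsg.Agent.KOf8acae6.k34.{ku0} := by delta _root_.Cfsg.Agent.KOf8acae6.k34; rewrite [← Cfsg.Agent.KOf8acae6.e33.{ku0}]; rfl'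

/-- lowering roots: targets from the first layer are in the second layer -/
theorem low_tab2 : ((List.range 126).all fun r => (mv r 238).isNone || (L1.all fun s =>
    match mv r s with
    | none => true
    | some (a, _) => L2.contains a)) = true := by
  rw [mv_fast]
  (first | (rewrite [Cfsg.Agent.KOf8acae6.e17.{0}, Cfsg.Agent.KOf8acae6.e20, Cfsg.Agent.KOf8acae6.e21, Cfsg.Agent.KOf8acae6.e16.{0}, Cfsg.Agent.KOf8acae6.e13, Cfsg.Agent.KOf8acae6.e34.{0}, Cfsg.Agent.KOf8acae6.e2]; decide +kernel) | decide +kernel)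

private noncomputable def _root_.Cfsg.Agent.KOf8acae6.k6.{ku0} : type_of% @List.filter.{ku0} := @(fun x0 x1 x2 => @List.rec.{(ku0+1), ku0} @x0 @(fun x3 => @List.{ku0} @x0) [] @(fun x3 x4 x5 => @Bool.rec.{(ku0+1)} @(fun x6 => @List.{ku0} @x0) @x5 (@x3 :: @x5) (@x1 @x3)) @x2)
private theorem _root_.Cfsg.Agent.KOf8acae6.e6.{ku0} : @List.filter.{ku0} = @_root_.Cfsg.Agent.KOf8acae6.k6.{ku0} := by delta _root_.Cfsg.Agent.KOf8acae6.k6; funext a0 a1 a2; refine (_root_.Cfsg.Agent.KOf8acae6.e3 (fun a2 => @List.filter.{ku0} a0 a1 a2) ?_ (fun c0 c1 => ?_) a2 :) <;> (rfl')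
private noncomputable def _root_.Cfsg.Agent.KOf8acae6.k22 : type_of% @Bool.not := @(fun x0 => @Bool.rec.{1} @(fun x1 => @Bool) @Bool.true @Bool.false @x0)
private theorem _root_.Cfsg.Agent.KOf8acae6.e22 : @Bool.not = @_root_.Cfsg.Agent.KOf8acae6.k22 := by delta _root_.Cfsg.Agent.KOf8acae6.k22; rfl'
private noncomputable def _root_.Cfsg.Agent.KOf8acae6.k23 : type_of% @Int.decEq := @(fun x0 x1 => @Int.rec.{1} @(fun x2 => @Decidable (@Eq.{1} _ @x2 @x1)) @(fun x2 => @Int.rec.{1} @(fun x3 => @Decidable (@Eq.{1} _ (@Int.ofNat @x2) @x3)) @(fun x3 => @Decidable.rec.{1} _ @(fun x4 => @Decidable (@Eq.{1} _ (@Int.ofNat @x2) (@Int.ofNat @x3))) @(fun x4 => @Decidable.isFalse _ (@Int.decEq._proof_2 @x2 @x3 @x4)) @(fun x4 => @Decidable.isTrue _ (@Int.decEq._proof_1 @x2 @x3 @x4)) (@Cfsg.Agent.KOf8acae6.k1 @x2 @x3)) @(fun x3 => @Decidable.isFalse _ (@Int.decEq._proof_3 @x2 @x3)) @x1) @(fun x2 => @Int.rec.{1} @(fun x3 => @Decidable (@Eq.{1} _ (@Int.negSucc @x2) @x3))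 @(fun x3 => @Decidable.isFalse _ (@Int.decEq._proof_4 @x2 @x3)) @(fun x3 => @Decidable.rec.{1} _ @(fun x4 => @Decidable (@Eq.{1} _ (@Int.negSucc @x2) (@Int.negSucc @x3))) @(fun x4 => @Decidable.isFalse _ (@Int.decEq._proof_6 @x2 @x3 @x4)) @(fun x4 => @Decidable.isTrue _ (@Int.decEq._proof_5 @x2 @x3 @x4)) (@Cfsg.Agent.KOf8acae6.k1 @x2 @x3)) @x1) @x0)
private theorem _root_.Cfsg.Agent.KOf8acae6.e23 : @Int.decEq = @_root_.Cfsg.Agent.KOf8acae6.k23 := by delta _root_.Cfsg.Agent.KOf8acae6.k23; rewrite [← Cfsg.Agent.KOf8acae6.e1]; rfl'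
private noncomputable def _root_.Cfsg.Agent.KOf8acae6.k24 : type_of% @Int.instDecidableEq := @Cfsg.Agent.KOf8acae6.k23
private theorem _root_.Cfsg.Agent.KOf8acae6.e24 : @Int.instDecidableEq = @_root_.Cfsg.Agent.KOf8acae6.k24 := by delta _root_.Cfsg.Agent.KOf8acae6.k24; rewrite [← Cfsg.Agent.KOf8acae6.e23]; rfl'
private noncomputable def _root_.Cfsg.Agent.KOf8acae6.k25 : type_of% @Int.add := @(fun x0 x1 => @Int.rec.{1} @(fun x2 => ℤ) @(fun x2 => @Int.rec.{1} @(fun x3 => ℤ) @(fun x3 => @Int.ofNat (@Nat.add @x2 @x3)) @(fun x3 => @Nat.rec.{1} @(fun x4 => ℤ) (@Int.ofNat (@Nat.sub @x2 (@Nat.succ @x3))) @(fun x4 x5 => @Int.negSucc @x4) (@Nat.sub (@Nat.succ @x3) @x2)) @x1) @(fun x2 => @Int.rec.{1} @(fun x3 => ℤ) @(fun x3 => @Nat.rec.{1} @(fun x4 => ℤ) (@Int.ofNat (@Nat.sub @x3 (@Nat.succ @x2))) @(fun x4 x5 => @Int.negSucc @x4) (@Nat.sub (@Nat.succ @x2) @x3)) @(fun x3 => @Int.negSucc (@Nat.succ (@Nat.add @x2 @x3))) @x1) @x0)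
private theorem _root_.Cfsg.Agent.KOf8acae6.e25 : @Int.add = @_root_.Cfsg.Agent.KOf8acae6.k25 := by delta _root_.Cfsg.Agent.KOf8acae6.k25; rfl'
private noncomputable def _root_.Cfsg.Agent.KOf8acae6.k26 : (by first | exact type_of% @Cfsg.Agent.ChevalleyStructure.RootVecTab.dig | exact Unit : Sort _) := by first | (refine @Subtype.val _ (fun g => @Cfsg.Agent.ChevalleyStructure.RootVecTab.dig = @g) (@Subtype.mk _ _ (@(fun x0 x1 => @Nat.mod (@Nat.shiftRight @x0 (@Nat.mul (nat_lit 6) @x1)) (nat_lit 64))) ?_); rfl') | exact @Cfsg.Agent.ChevalleyStructure.RootVecTab.dig | exact ()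
private theorem _root_.Cfsg.Agent.KOf8acae6.e26 : (by first | exact @Cfsg.Agent.ChevalleyStructure.RootVecTab.dig = @_root_.Cfsg.Agent.KOf8acae6.k26 | exact True : Prop) := by first | (delta _root_.Cfsg.Agent.KOf8acae6.k26; exact @Subtype.property _ (fun g => @Cfsg.Agent.ChevalleyStructure.RootVecTab.dig = @g) _) | rfl | trivial
private noncomputable def _root_.Cfsg.Agent.KOf8acae6.oEq.{ku} (α : Sort ku) (a b : Nat) (f t : α) : α := @Decidable.rec (a = b) (fun _ => α) (fun _ => f) (fun _ => t) (Nat.decEq a b)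
private noncomputable def _root_.Cfsg.Agent.KOf8acae6.k27.{ku} (α : Sort ku) (a b : Nat) (f t : α) : α := @Bool.rec (fun _ => α) f t (Nat.beq a b)
private theorem _root_.Cfsg.Agent.KOf8acae6.e27.{ku} : @_root_.Cfsg.Agent.KOf8acae6.oEq.{ku} = @_root_.Cfsg.Agent.KOf8acae6.k27.{ku} := funext fun α => funext fun a => funext fun b => funext fun f => funext fun t => by delta _root_.Cfsg.Agent.KOf8acae6.oEq _root_.Cfsg.Agent.KOf8acae6.k27; cases h : Nat.beq a b <;> cases Nat.decEq a b <;> rename_i g <;> first | rfl | exact absurd g (Nat.ne_of_beq_eq_false h) | exact absurd (Nat.eq_of_beq_eq_true h) g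
private noncomputable def _root_.Cfsg.Agent.KOf8acae6.k28 : (by first | exact type_of% @Cfsg.Agent.ChevalleyStructure.RootVecTab.packTab | exact Unit : Sort _) := by first | (refine @Subtype.val _ (fun g => @Cfsg.Agent.ChevalleyStructure.RootVecTab.packTab = @g) (@Subtype.mk _ _ (@(fun x0 => @Cfsg.Agent.KOf8acae6.k27.{1} ℕ (@Cfsg.Lie.ChevalleyDatum.nroots @x0) (nat_lit 12) (@Cfsg.Agent.KOf8acae6.k27.{1} ℕ (@Cfsg.Lie.ChevalleyDatum.nroots @x0) (nat_lit 8) (@Cfsg.Agent.KOf8acae6.k27.{1} ℕ (@Cfsg.Lie.ChevalleyDatum.nroots @x0) (nat_lit 24) (@Cfsg.Agent.KOf8acae6.k27.{1} ℕ (@Cfsg.Lie.ChevalleyDatum.nroots @x0) (nat_lit 48) (@Cfsg.Agent.KOf8acae6.k27.{1} ℕ (@Cfsg.Lie.ChevalleyDatum.nroots @x0) (nat_lit 72) (@Cfsg.Agent.KOf8acae6.k27.{1} ℕ (@Cfsg.Lie.ChevalleyDatum.nroots @x0) (nat_lit 126) @Cfsg.Agent.ChevalleyStructure.RootVecTab.packE8 @Cfsg.Agent.ChevalleyStructure.RootVecTab.packE7) @Cfsg.Agent.ChevalleyStructure.RootVecTab.packE6) @Cfsg.Agent.ChevalleyStructure.RootVecTab.packF4)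 @Cfsg.Agent.ChevalleyStructure.RootVecTab.packD4) @Cfsg.Agent.ChevalleyStructure.RootVecTab.packB2) @Cfsg.Agent.ChevalleyStructure.RootVecTab.packG2)) ?_); rewrite [← Cfsg.Agent.KOf8acae6.e27.{1}]; (try delta Cfsg.Agent.ChevalleyStructure.RootVecTab.packTab); (try generalize @Cfsg.Agent.ChevalleyStructure.RootVecTab.packE8 = g0); (try generalize @Cfsg.Agent.ChevalleyStructure.RootVecTab.packE7 = g1); (try generalize @Cfsg.Agent.ChevalleyStructure.RootVecTab.packE6 = g2); (try generalize @Cfsg.Agent.ChevalleyStructure.RootVecTab.packF4 = g3); (try generalize @Cfsg.Agent.ChevalleyStructure.RootVecTab.packD4 = g4); (try generalize @Cfsg.Agent.ChevalleyStructure.RootVecTab.packB2 = g5); (try generalize @Cfsg.Agent.ChevalleyStructure.RootVecTab.packG2 = g6); rfl') | exact @Cfsg.Agent.ChevalleyStructure.RootVecTab.packTab | exact ()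
private theorem _root_.Cfsg.Agent.KOf8acae6.e28 : (by first | exact @Cfsg.Agent.ChevalleyStructure.RootVecTab.packTab = @_root_.Cfsg.Agent.KOf8acae6.k28 | exact True : Prop) := by first | (delta _root_.Cfsg.Agent.KOf8acae6.k28; exact @Subtype.property _ (fun g => @Cfsg.Agent.ChevalleyStructure.RootVecTab.packTab = @g) _) | rfl | trivial
private noncomputable def _root_.Cfsg.Agent.KOf8acae6.k29 : (by first | exact type_of% @Cfsg.Agent.ChevalleyStructure.RootVecTab.code | exact Unit : Sort _) := by first | (refine @Subtype.val _ (fun g => @Cfsg.Agent.ChevalleyStructure.RootVecTab.code = @g) (@Subtype.mk _ _ (@(fun x0 x1 => @Nat.mod (@Nat.shiftRight (@Cfsg.Agent.KOf8acae6.k28 @x0) (@Nat.mul (@Nat.mul (nat_lit 6) (@Cfsg.Lie.ChevalleyDatum.rank @x0)) @x1)) (@Nat.pow (nat_lit 2) (@Nat.mul (nat_lit 6) (@Cfsg.Lie.ChevalleyDatum.rank @x0))))) ?_); rewrite [← Cfsg.Agent.KOf8acae6.e28]; (try delta Cfsg.Agent.ChevalleyStructure.RootVecTab.code); (try generalize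 @Cfsg.Agent.ChevalleyStructure.RootVecTab.packTab = g0); rfl') | exact @Cfsg.Agent.ChevalleyStructure.RootVecTab.code | exact ()
private theorem _root_.Cfsg.Agent.KOf8acae6.e29 : (by first | exact @Cfsg.Agent.ChevalleyStructure.RootVecTab.code = @_root_.Cfsg.Agent.KOf8acae6.k29 | exact True : Prop) := by first | (delta _root_.Cfsg.Agent.KOf8acae6.k29; exact @Subtype.property _ (fun g => @Cfsg.Agent.ChevalleyStructure.RootVecTab.code = @g) _) | rfl | trivial
private noncomputable def _root_.Cfsg.Agent.KOf8acae6.k30 : type_of% @instDecidableAnd := @(fun x0 x1 x2 x3 => @Decidable.rec.{1} _ @(fun x4 => @Decidable (@And @x0 @x1)) @(fun x4 => @Decidable.isFalse _ (@instDecidableAnd._proof_2 _ _ @x4)) @(fun x4 => @Decidable.rec.{1} _ @(fun x5 => @Decidable (@And @x0 @x1)) @(fun x5 => @Decidable.isFalse _ (@instDecidableAnd._proof_1 _ _ @x5)) @(fun x5 => @Decidable.isTrue _ (@And.intro _ _ @x4 @x5)) @x3) @x2)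
private theorem _root_.Cfsg.Agent.KOf8acae6.e30 : @instDecidableAnd = @_root_.Cfsg.Agent.KOf8acae6.k30 := by delta _root_.Cfsg.Agent.KOf8acae6.k30; rfl'
private noncomputable def _root_.Cfsg.Agent.KOf8acae6.k31 : type_of% @Nat.decLe := @(fun x0 x1 => @Decidable.rec.{1} _ @(fun x2 => @Decidable (@LE.le.{0} _ _ @x0 @x1)) @(fun x2 => @Decidable.isFalse _ (@Nat.not_le_of_not_ble_eq_true _ _ @x2)) @(fun x2 => @Decidable.isTrue _ (@Nat.le_of_ble_eq_true _ _ @x2)) (@Cfsg.Agent.KOf8acae6.k8 (@Nat.ble @x0 @x1) @Bool.true))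
private theorem _root_.Cfsg.Agent.KOf8acae6.e31 : @Nat.decLe = @_root_.Cfsg.Agent.KOf8acae6.k31 := by delta _root_.Cfsg.Agent.KOf8acae6.k31; rewrite [← Cfsg.Agent.KOf8acae6.e8]; rfl'
private noncomputable def _root_.Cfsg.Agent.KOf8acae6.k32 : (by first | exact type_of% @Cfsg.Agent.ChevalleyStructure.RootVec.rt | exact Unit : Sort _) := by first | (refine @Subtype.val _ (fun g => @Cfsg.Agent.ChevalleyStructure.RootVec.rt = @g) (@Subtype.mk _ _ (@(fun x0 x1 x2 => @Decidable.rec.{1} _ @(fun x3 => ℤ) @(fun x3 => @Int.ofNat (nat_lit 0)) @(fun x3 => @Cfsg.Agent.KOf8acae6.k25 (@Int.ofNat (@Cfsg.Agent.KOf8acae6.k26 (@Cfsg.Agent.KOf8acae6.k29 @x0 @x1) (@Nat.sub (@Nat.sub (@Cfsg.Lie.ChevalleyDatum.rank @x0) (nat_lit 1)) @x2))) (@Nat.rec.{1} @(fun x4 => ℤ) (@Int.ofNat (nat_lit 0)) @(fun x4 x5 => @Int.negSucc @x4) (nat_lit 8))) (@Cfsg.Agent.KOf8acae6.k30 _ _ (@Cfsg.Agent.KOf8acae6.k31 (@Nat.succ @x1) (@Cfsg.Lie.ChevalleyDatum.nroots @x0)) (@Cfsg.Agent.KOf8acae6.k31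 (@Nat.succ @x2) (@Cfsg.Lie.ChevalleyDatum.rank @x0))))) ?_); rewrite [← Cfsg.Agent.KOf8acae6.e31, ← Cfsg.Agent.KOf8acae6.e30, ← Cfsg.Agent.KOf8acae6.e29, ← Cfsg.Agent.KOf8acae6.e26, ← Cfsg.Agent.KOf8acae6.e25]; (try delta Cfsg.Agent.ChevalleyStructure.RootVec.rt); (try generalize @Cfsg.Agent.ChevalleyStructure.RootVecTab.dig = g0); (try generalize @Cfsg.Agent.ChevalleyStructure.RootVecTab.code = g1); rfl') | exact @Cfsg.Agent.ChevalleyStructure.RootVec.rt | exact ()
private theorem _root_.Cfsg.Agent.KOf8acae6.e32 : (by first | exact @Cfsg.Agent.ChevalleyStructure.RootVec.rt = @_root_.Cfsg.Agent.KOf8acae6.k32 | exact True : Prop) := by first | (delta _root_.Cfsg.Agent.KOf8acae6.k32; exact @Subtype.property _ (fun g => @Cfsg.Agent.ChevalleyStructure.RootVec.rt = @g) _) | rfl | trivial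

/-- two roots moving the same weight -/
theorem orth_all : ((List.range 240).all fun s => !(decide (rt chevE8 s 7 = 1)) ||
    (List.range 126).all fun r => match mv r s with
      | none => true
      | some (a, _) => (List.range 126).all fun r' => Nat.beq r r' || (mv r' s).isNone || (mv (125 - r') a).isNone) = true := by
  have h : ((List.range 240).all fun s => !(decide (rt chevE8 s 7 = 1)) ||
      (List.range 126).all fun r => match mv r s with
        | none => true
        | some (a, _) => ((List.range 126).filter fun r' => (mv r' s).isSome).all fun r' =>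
            Nat.beq r r' || (mv (Nat.sub 125 r') a).isNone) = true := by
    rw [mv_fast]
    (first | (rewrite [Cfsg.Agent.KOf8acae6.e17.{0}, Cfsg.Agent.KOf8acae6.e20, Cfsg.Agent.KOf8acae6.e21, Cfsg.Agent.KOf8acae6.e22, Cfsg.Agent.KOf8acae6.e0, Cfsg.Agent.KOf8acae6.e24, Cfsg.Agent.KOf8acae6.e32, Cfsg.Agent.KOf8acae6.e13, Cfsg.Agent.KOf8acae6.e6.{0}, Cfsg.Agent.KOf8acae6.e10.{0}, Cfsg.Agent.KOf8acae6.e16.{0}]; decide +kernel) | decide +kernel)
  refine Eq.trans (congrArg _ (funext fun s => congrArg _ (congrArg _ (funext fun r => ?_)))) h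
  rcases mv r s with _ | ⟨a, c⟩
  · rfl
  · show List.all _ _ = List.all _ _
    rw [List.all_filter]
    refine congrArg _ (funext fun r' => ?_)
    show _ = (!(mv r' s).isSome || (Nat.beq r r' || (mv (125 - r') a).isNone))
    cases mv r' s <;> cases Nat.beq r r' <;> rfl

/-- the image of the top under two roots, if it is in the second layer -/
def pc (s r : ℕ) : Option (ℕ × ℤ) :=
  match mv r 238 with
  | none => none
  | some (b, c) => match mv s b with
    | none => none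
    | some (a, c') => bif L2.contains a then some (a, c' * c) else none

private noncomputable def _root_.Cfsg.Agent.KOf8acae6.k36.{ku0} : type_of% @Option.instDecidableEq.{ku0} := @(fun x0 x1 x2 x3 => @Option.rec.{1, ku0} @x0 @(fun x4 => @Decidable (@Eq.{(ku0+1)} _ @x4 @x3)) (@Option.rec.{1, ku0} @x0 @(fun x4 => @Decidable (@Eq.{(ku0+1)} _ (@Option.none.{ku0} _) @x4)) (@Decidable.isTrue _ (@Option.instDecidableEq._proof_1.{ku0} _)) @(fun x4 => @Decidable.isFalse _ (@Option.instDecidableEq._proof_2.{ku0} _ @x4)) @x3) @(fun x4 => @Option.rec.{1, ku0} @x0 @(fun x5 => @Decidable (@Eq.{(ku0+1)} _ (@Option.some.{ku0} _ @x4) @x5)) (@Decidable.isFalse _ (@Option.instDecidableEq._proof_3.{ku0} _ @x4)) @(fun x5 => @Decidable.rec.{1} _ @(fun x6 => @Decidable (@Eq.{(ku0+1)} _ (@Option.some.{ku0} _ @x4) (@Option.some.{ku0} _ @x5))) @(fun x6 => @Decidable.isFalse _ (@Option.instDecidableEq._proof_5.{ku0} _ @x4 @x5 @x6)) @(fun x6 => @Decidable.isTrue _ (@Option.instDecidableEq._proof_4.{ku0}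 _ @x4 @x5 @x6)) (@x1 @x4 @x5)) @x3) @x2)
private theorem _root_.Cfsg.Agent.KOf8acae6.e36.{ku0} : @Option.instDecidableEq.{ku0} = @_root_.Cfsg.Agent.KOf8acae6.k36.{ku0} := by delta _root_.Cfsg.Agent.KOf8acae6.k36; rfl'
private noncomputable def _root_.Cfsg.Agent.KOf8acae6.k37.{ku0, ku1} : type_of% @instDecidableEqProd.{ku0, ku1} := @(fun x0 x1 x2 x3 x4 x5 => @Prod.rec.{1, ku0, ku1} @x0 @x1 @(fun x6 => @Decidable (@Eq.{(max (ku1+1) (ku0+1))} _ @x6 @x5)) @(fun x6 x7 => @Prod.rec.{1, ku0, ku1} @x0 @x1 @(fun x8 => @Decidable (@Eq.{(max (ku1+1) (ku0+1))} _ ((@x6, @x7)) @x8)) @(fun x8 x9 => @Decidable.rec.{1} _ @(fun x10 => @Decidable (@Eq.{(max (ku1+1) (ku0+1))} _ ((@x6, @x7)) ((@x8, @x9)))) @(fun x10 => @Decidable.isFalse _ (@instDecidableEqProd._proof_3.{ku1, ku0} _ _ @x6 @x7 @x8 @x9 @x10)) @(fun x10 => @Decidable.rec.{1} _ @(fun x11 => @Decidable (@Eq.{(max (ku1+1) (ku0+1))} _ ((@x6, @x7)) ((@x8, @x9)))) @(fun x11 => @Decidable.isFalse _ (@instDecidableEqProd._proof_2.{ku1,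 ku0} _ _ @x6 @x7 @x8 @x9 @x11)) @(fun x11 => @Decidable.isTrue _ (@instDecidableEqProd._proof_1.{ku1, ku0} _ _ @x6 @x7 @x8 @x9 @x10 @x11)) (@x3 @x7 @x9)) (@x2 @x6 @x8)) @x5) @x4)
private theorem _root_.Cfsg.Agent.KOf8acae6.e37.{ku0, ku1} : @instDecidableEqProd.{ku0, ku1} = @_root_.Cfsg.Agent.KOf8acae6.k37.{ku0, ku1} := by delta _root_.Cfsg.Agent.KOf8acae6.k37; rfl'
private noncomputable def _root_.Cfsg.Agent.KOf8acae6.k38.{ku0} : type_of% @cond.{ku0} := @(fun x0 x1 x2 x3 => @Bool.rec.{ku0} @(fun x4 => @x0) @x3 @x2 @x1)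
private theorem _root_.Cfsg.Agent.KOf8acae6.e38.{ku0} : @cond.{ku0} = @_root_.Cfsg.Agent.KOf8acae6.k38.{ku0} := by delta _root_.Cfsg.Agent.KOf8acae6.k38; rfl'

theorem pc_comm : ((List.range 126).all fun r => (mv r 238).isNone || (List.range 126).all fun s =>
    decide (pc s r = pc r s)) = true := by
  delta pc
  rw [mv_fast]
  (first | (rewrite [Cfsg.Agent.KOf8acae6.e17.{0}, Cfsg.Agent.KOf8acae6.e20, Cfsg.Agent.KOf8acae6.e21, Cfsg.Agent.KOf8acae6.e16.{0}, Cfsg.Agent.KOf8acae6.e13, Cfsg.Agent.KOf8acae6.e0, Cfsg.Agent.KOf8acae6.e36.{0}, Cfsg.Agent.KOf8acae6.e37.{0, 0}, Cfsg.Agent.KOf8acae6.e2, Cfsg.Agent.KOf8acae6.e24, Cfsg.Agent.KOf8acae6.e38.{1}, Cfsg.Agent.KOf8acae6.e34.{0}]; decide +kernel) | decide +kernel)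

end Cfsg.Agent.R2.T2.N6K
end

-- part: R2/T2/N6K/Tri
section
/-!
# S5929, counting in the Lie algebra of `E₇` (helper18): the elimination lemmas

* `tri` : if `d` is supported on roots moving the weight `b`, `t b ≠ 0` and `del d *ᵥ t` vanishes at their targets, then
  `d = 0`;
* `elim`, `elim'` : counting by forgetting coordinates;
* `del_top` : support of `del z *ᵥ e`;
* `comm2` : `del z *ᵥ (del d *ᵥ e) = del d *ᵥ (del z *ᵥ e)` on the second layer for `d` supported on lowering roots.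
-/

set_option autoImplicit false
set_option maxRecDepth 100000

namespace Cfsg.Agent.R2.T2.N6K

open Cfsg Cfsg.Lie Matrix
open Cfsg.Agent.R2.T1 Cfsg.Agent.R2.PX Cfsg.Agent.R2.T1.Mu
open Cfsg.Agent.ChevalleyStructure.Elts Cfsg.Agent.ChevalleyStructure.RootVec
  Cfsg.Agent.ChevalleyStructure.RootVecTab
open Cfsg.Agent.H943.E7V.Block (D1 rho)

universe u

/-! ### consequences of the tables -/

theorem low_mem {r a : ℕ} {c : ℤ} (hr : r < 126) (h : mv r 238 = some (a, c)) : a ∈ L1 := by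
  have h1 := List.all_eq_true.1 low_tab r (List.mem_range.2 hr)
  rw [h] at h1
  simpa using h1

theorem up_none {r : ℕ} (hr : r < 126) (h : (mv (125 - r) 238).isSome = true) : mv r 238 = none := by
  have h1 := List.all_eq_true.1 up_tab r (List.mem_range.2 hr)
  rw [Bool.or_eq_true, Bool.and_eq_true] at h1
  rcases h1 with h1 | h1
  · rw [Option.isNone_iff_eq_none.1 h1] at h; exact absurd h (by simp)
  · exact Option.isNone_iff_eq_none.1 h1.1

theorem up_top {r : ℕ} (hr : r < 126) (h : (mv (125 - r) 238).isSome = true) {s a : ℕ} {c : ℤ} (hs : s ∈ L1)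
    (hm : mv r s = some (a, c)) : a = 238 := by
  have h1 := List.all_eq_true.1 up_tab r (List.mem_range.2 hr)
  rw [Bool.or_eq_true, Bool.and_eq_true] at h1
  rcases h1 with h1 | h1
  · rw [Option.isNone_iff_eq_none.1 h1] at h; exact absurd h (by simp)
  · have h2 := List.all_eq_true.1 h1.2 s hs
    rw [hm] at h2
    exact Nat.eq_of_beq_eq_true h2

theorem low_L2 {r : ℕ} (hr : r < 126) (h : (mv r 238).isSome = true) {s a : ℕ} {c : ℤ} (hs : s ∈ L1)
    (hm : mv r s = some (a, c)) : a ∈ L2 := by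
  have h1 := List.all_eq_true.1 low_tab2 r (List.mem_range.2 hr)
  rw [Bool.or_eq_true] at h1
  rcases h1 with h1 | h1
  · rw [Option.isNone_iff_eq_none.1 h1] at h; exact absurd h (by simp)
  · have h2 := List.all_eq_true.1 h1 s hs
    rw [hm] at h2
    simpa using h2

theorem orth {r r' : ℕ} (hr : r < 126) (hr' : r' < 126) (hne : r ≠ r') {b : D1} {a : ℕ} {c : ℤ}
    (h : mv r (nn b) = some (a, c)) (h' : (mv r' (nn b)).isSome = true) : mv (125 - r') a = none := by
  have h1 := List.all_eq_true.1 orth_all (nn b) (List.mem_range.2 (nn_lt b))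
  rw [Bool.or_eq_true, Bool.not_eq_true', decide_eq_false_iff_not] at h1
  rcases h1 with h1 | h1
  · exact absurd (rt_nn b) h1
  have h2 := List.all_eq_true.1 h1 r (List.mem_range.2 hr)
  rw [h] at h2
  have h3 := List.all_eq_true.1 h2 r' (List.mem_range.2 hr')
  rw [Bool.or_eq_true, Bool.or_eq_true] at h3
  rcases h3 with (h3 | h3) | h3
  · exact absurd (Nat.eq_of_beq_eq_true h3) hne
  · rw [Option.isNone_iff_eq_none.1 h3] at h'; exact absurd h' (by simp)
  · exact Option.isNone_iff_eq_none.1 h3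

/-! ### the triangular lemma -/

/-- the index of a root -/
def ix (r : Fin 126) : chevE7.Idx := Sum.inr ⟨r.val, r.2⟩

theorem ix_inj : Function.Injective ix := by
  intro r s h
  have h1 := Sum.inr_injective h
  exact Fin.ext (congrArg Fin.val h1)

section
variable {F : Type u} [Field F]

theorem del_sum {d : chevE7.Idx → F} (h0 : ∀ i, d (Sum.inl i) = 0) (t : D1 → F) (a : D1) :
    (del F d *ᵥ t) a = ∑ s : Fin chevE7.nroots, d (Sum.inr s) * (NM F s *ᵥ t) a := by
  rw [del_apply]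
  simp only [h0, zero_smul, Finset.sum_const_zero, zero_add]
  rw [Matrix.sum_mulVec, Finset.sum_apply]
  refine Finset.sum_congr rfl fun s _ => ?_
  rw [Matrix.smul_mulVec, Pi.smul_apply, smul_eq_mul]

/-- `d` is supported on the roots of `P` -/
def Sup (P : Finset (Fin 126)) (d : chevE7.Idx → F) : Prop := ∀ i, i ∉ P.image ix → d i = 0

theorem Sup.inl {P : Finset (Fin 126)} {d : chevE7.Idx → F} (h : Sup P d) (i : Fin chevE7.rank) : d (Sum.inl i) = 0 := by
  apply h
  intro hi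
  obtain ⟨r, -, hr⟩ := Finset.mem_image.1 hi
  exact absurd hr (by simp [ix])

theorem Sup.inr {P : Finset (Fin 126)} {d : chevE7.Idx → F} (h : Sup P d) {s : Fin chevE7.nroots} (hs : d (Sum.inr s) ≠ 0) :
    (⟨s.val, s.2⟩ : Fin 126) ∈ P := by
  by_contra hn
  apply hs
  apply h
  intro hi
  obtain ⟨r, hr, hr'⟩ := Finset.mem_image.1 hi
  have : r = (⟨s.val, s.2⟩ : Fin 126) := by
    have h1 := Sum.inr_injective hr'
    exact Fin.ext (congrArg Fin.val h1)
  rw [this] at hr
  exact hn hr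

theorem NM_zero {r : ℕ} {t : D1 → F} {a : D1} (h : ∀ (b : D1) (c : ℤ), mv r (nn b) = some (nn a, c) → t b = 0) :
    (NM F r *ᵥ t) a = 0 := by
  by_contra hne
  obtain ⟨b, c, h1, h2⟩ := NM_mulVec_ne hne
  exact h2 (h b c h1)

/-- **elimination lemma** -/
theorem tri {b : D1} {d : chevE7.Idx → F} {t : D1 → F} {P : Finset (Fin 126)} (hd : Sup P d)
    (hm : ∀ r ∈ P, (mv r.val (nn b)).isSome = true)
    (h0 : ∀ r ∈ P, ∀ (a : D1) (c : ℤ), mv r.val (nn b) = some (nn a, c) → (del F d *ᵥ t) a = 0)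
    (ht : t b ≠ 0) : d = 0 := by
  have key : ∀ r : Fin chevE7.nroots, d (Sum.inr r) = 0 := by
    intro r
    by_contra hr
    have hr' : r.val < 126 := r.2
    have hP := hd.inr hr
    have h1 := hm _ hP
    rcases mv_spec hr' b with h2 | ⟨a, c, h2, hc, -, -⟩
    · have h3 : mv r.val (nn b) = none := h2
      have h4 : (mv r.val (nn b)).isSome = true := h1
      rw [h3] at h4; exact absurd h4 (by simp)
    have h3 := h0 _ hP a c h2
    rw [del_sum hd.inl, Finset.sum_eq_single r] at h3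
    · rw [NM_mulVec hr' h2, mul_eq_zero, mul_eq_zero] at h3
      rcases h3 with h3 | h3 | h3
      · exact hr h3
      · exact cast_ne hc h3
      · exact ht h3
    · intro s _ hs
      by_cases hd' : d (Sum.inr s) = 0
      · rw [hd', zero_mul]
      · have hs' : s.val < 126 := s.2
        rw [NM_zero, mul_zero]
        intro b' c' h4
        exfalso
        rcases mv_spec hs' b' with h5 | ⟨a', c'', h5, -, -, h6⟩
        · rw [h5] at h4; exact absurd h4 (by simp)
        · rw [h4, Option.some.injEq, Prod.mk.injEq] at h5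
          have h7 := orth hr' hs' (fun h => hs (Fin.ext h.symm)) h2 (hm _ (hd.inr hd'))
          rw [h5.1, h6] at h7
          exact absurd h7 (by simp)
    · intro h; exact absurd (Finset.mem_univ _) h
  funext i
  rcases i with i | s
  · exact hd.inl i
  · exact key s

/-! ### the highest weight vector -/

theorem top_entry (z : chevE7.Idx → F) (a : D1) : (del F z *ᵥ bs F topv) a = del F z a topv := by
  rw [bs, Matrix.mulVec_single_one, Matrix.col_apply]

/-- the image of the highest weight vector -/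
theorem del_top (z : chevE7.Idx → F) {a : D1} (ha : a ≠ topv) (h : nn a ∉ L1) : (del F z *ᵥ bs F topv) a = 0 := by
  rw [del_apply, Matrix.add_mulVec, Matrix.sum_mulVec, Matrix.sum_mulVec, Pi.add_apply, Finset.sum_apply,
    Finset.sum_apply, Finset.sum_eq_zero, Finset.sum_eq_zero, add_zero]
  · intro s _
    rw [Matrix.smul_mulVec, Pi.smul_apply, NM_zero, smul_zero]
    intro b c hb
    by_cases h1 : b = topv
    · subst h1
      exact absurd (low_mem s.2 hb) h
    · exact bs_ne h1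
  · intro i _
    rw [Matrix.smul_mulVec, Pi.smul_apply, Hi_mulVec, bs_ne ha, mul_zero, smul_zero]

/-- the coordinates of the first layer -/
theorem low_coord (z : chevE7.Idx → F) {r : ℕ} (hr : r < 126) {a : D1} {c : ℤ} (h : mv r 238 = some (nn a, c)) :
    (del F z *ᵥ bs F topv) a = z (Sum.inr ⟨r, hr⟩) * (c : F) := by
  rw [top_entry]
  exact del_entry z hr (b := topv) h

/-- roots killing the highest weight vector -/
theorem kill_top {P : Finset (Fin 126)} {d : chevE7.Idx → F} (hd : Sup P d) (hP : ∀ r ∈ P, mv r.val 238 = none) :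
    del F d *ᵥ bs F topv = 0 := by
  funext a
  rw [del_sum hd.inl, Pi.zero_apply]
  refine Finset.sum_eq_zero fun s _ => ?_
  by_cases h : d (Sum.inr s) = 0
  · rw [h, zero_mul]
  · have h1 := hP _ (hd.inr h)
    have h2 : NM F s *ᵥ bs F topv = 0 := NM_bs_none (b := topv) h1
    rw [h2, Pi.zero_apply, mul_zero]

theorem pc_spec {r s : ℕ} (hr : r < 126) (hs : s < 126) {a : D1} (ha : nn a ∈ L2) :
    (NM F s *ᵥ (NM F r *ᵥ bs F topv)) a = match pc s r with
      | none => 0
      | some (x, c) => if nn a = x then ((c : ℤ) : F) else 0 := by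
  unfold pc
  rcases mv_spec hr topv with h | ⟨b, c, h, -, -, -⟩
  · rw [NM_bs_none h]
    rw [nn_top] at h
    rw [h, Matrix.mulVec_zero]
    rfl
  · rw [NM_bs_some h, Matrix.mulVec_smul]
    rw [nn_top] at h
    rw [h]
    dsimp only
    rcases mv_spec hs b with h' | ⟨b', c', h', -, -, -⟩
    · rw [NM_bs_none h', h', smul_zero]
      rfl
    · rw [NM_bs_some h', h', Pi.smul_apply, Pi.smul_apply, bs_apply]
      dsimp only
      by_cases h2 : nn b' ∈ L2
      · rw [show L2.contains (nn b') = true by simpa using h2, cond_true]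
        dsimp only
        split_ifs with h3
        · rw [smul_eq_mul, smul_eq_mul, mul_one]; push_cast; ring
        · rw [smul_zero, smul_zero]
      · rw [show L2.contains (nn b') = false by simpa using h2, cond_false]
        dsimp only
        rw [if_neg, smul_zero, smul_zero]
        intro h3
        rw [← h3] at h2
        exact h2 ha

theorem pc_eq {r s : ℕ} (hr : r < 126) (h : (mv r 238).isSome = true) (hs : s < 126) : pc s r = pc r s := by
  have h1 := List.all_eq_true.1 pc_comm r (List.mem_range.2 hr)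
  rw [Bool.or_eq_true] at h1
  rcases h1 with h1 | h1
  · rw [Option.isNone_iff_eq_none.1 h1] at h; exact absurd h (by simp)
  · have h2 := List.all_eq_true.1 h1 s (List.mem_range.2 hs)
    exact of_decide_eq_true h2

/-- commutation on the second layer -/
theorem comm1 {r : ℕ} (hr : r < 126) (h : (mv r 238).isSome = true) (z : chevE7.Idx → F) {a : D1} (ha : nn a ∈ L2) :
    (del F z *ᵥ (NM F r *ᵥ bs F topv)) a = (NM F r *ᵥ (del F z *ᵥ bs F topv)) a := by
  have hat : a ≠ topv := by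
    rintro rfl
    rw [nn_top] at ha
    exact absurd ha (by decide)
  have hz : ∀ i : Fin chevE7.rank, (Hi F i *ᵥ (NM F r *ᵥ bs F topv)) a = 0 := by
    intro i
    rw [Hi_mulVec]
    rcases mv_spec hr topv with h' | ⟨b, c, h', -, -, -⟩
    · rw [NM_bs_none h', Pi.zero_apply, mul_zero]
    · rw [NM_bs_some h', Pi.smul_apply, bs_ne, smul_zero, mul_zero]
      rintro rfl
      rw [nn_top] at h'
      have := low_mem hr h'
      exact absurd ha ((by decide +kernel : ∀ x ∈ L1, x ∉ L2) _ this)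
  have hz' : ∀ i : Fin chevE7.rank, (NM F r *ᵥ (Hi F i *ᵥ bs F topv)) a = 0 := by
    intro i
    rw [Hi, diag_bs, Matrix.mulVec_smul, Pi.smul_apply]
    rcases mv_spec hr topv with h' | ⟨b, c, h', -, -, -⟩
    · rw [NM_bs_none h', Pi.zero_apply, smul_zero]
    · rw [NM_bs_some h', Pi.smul_apply, bs_ne, smul_zero, smul_zero]
      rintro rfl
      rw [nn_top] at h'
      have := low_mem hr h'
      exact absurd ha ((by decide +kernel : ∀ x ∈ L1, x ∉ L2) _ this)
  rw [del_apply, Matrix.add_mulVec, Matrix.add_mulVec, Matrix.mulVec_add, Matrix.sum_mulVec, Matrix.sum_mulVec,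
    Matrix.sum_mulVec, Matrix.sum_mulVec, Matrix.mulVec_sum, Matrix.mulVec_sum, Pi.add_apply, Pi.add_apply,
    Finset.sum_apply, Finset.sum_apply, Finset.sum_apply, Finset.sum_apply]
  congr 1
  · refine Finset.sum_congr rfl fun i _ => ?_
    rw [Matrix.smul_mulVec, Matrix.smul_mulVec, Matrix.mulVec_smul, Pi.smul_apply, Pi.smul_apply, hz, hz']
  · refine Finset.sum_congr rfl fun s _ => ?_
    have hs : s.val < 126 := s.2
    rw [Matrix.smul_mulVec, Matrix.smul_mulVec, Matrix.mulVec_smul, Pi.smul_apply, Pi.smul_apply, pc_spec hr hs ha,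
      pc_spec hs hr ha, pc_eq hr h hs]

/-- commutation on the second layer -/
theorem comm2 {P : Finset (Fin 126)} {d : chevE7.Idx → F} (hd : Sup P d) (hP : ∀ r ∈ P, (mv r.val 238).isSome = true)
    (z : chevE7.Idx → F) {a : D1} (ha : nn a ∈ L2) :
    (del F z *ᵥ (del F d *ᵥ bs F topv)) a = (del F d *ᵥ (del F z *ᵥ bs F topv)) a := by
  have e : del F d = ∑ s : Fin chevE7.nroots, d (Sum.inr s) • NM F s := by
    rw [del_apply]
    simp only [hd.inl, zero_smul, Finset.sum_const_zero, zero_add]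
  rw [e, Matrix.sum_mulVec, Matrix.sum_mulVec, Matrix.mulVec_sum, Finset.sum_apply, Finset.sum_apply]
  refine Finset.sum_congr rfl fun s _ => ?_
  have hs : s.val < 126 := s.2
  rw [Matrix.smul_mulVec, Matrix.smul_mulVec, Matrix.mulVec_smul, Pi.smul_apply, Pi.smul_apply]
  by_cases h : d (Sum.inr s) = 0
  · rw [h, zero_smul, zero_smul]
  · rw [comm1 hs (hP _ (hd.inr h)) z ha]

end

/-! ### counting -/

section
variable {ι : Type*} [Fintype ι] [DecidableEq ι] {F : Type*} [Fintype F]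

/-- **counting by forgetting coordinates** -/
theorem elim (S : Finset (ι → F)) (P : Finset ι)
    (h : ∀ z ∈ S, ∀ w ∈ S, (∀ i ∉ P, z i = w i) → z = w) :
    S.card ≤ Fintype.card F ^ (Fintype.card ι - P.card) := by
  classical
  have h1 : S.card ≤ (Finset.univ : Finset ({i // i ∈ Pᶜ} → F)).card := by
    refine Finset.card_le_card_of_injOn (fun z i => z i.1) (fun _ _ => Finset.mem_coe.2 (Finset.mem_univ _)) ?_
    intro z hz w hw hzw
    refine h z hz w hw fun i hi => ?_
    exact congrFun hzw ⟨i, Finset.mem_compl.2 hi⟩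
  rwa [Finset.card_univ, Fintype.card_fun, Fintype.card_coe, Finset.card_compl] at h1

/-- the same with one additional coordinate -/
theorem elim' (S : Finset (ι → F)) (P : Finset ι) (s : (ι → F) → F)
    (h : ∀ z ∈ S, ∀ w ∈ S, (∀ i ∉ P, z i = w i) → s z = s w → z = w) :
    S.card ≤ Fintype.card F ^ (Fintype.card ι - P.card) * Fintype.card F := by
  classical
  have h1 : S.card ≤ (Finset.univ : Finset (({i // i ∈ Pᶜ} → F) × F)).card := by
    refine Finset.card_le_card_of_injOn (fun z => (fun i => z i.1, s z)) (fun _ _ => Finset.mem_coe.2 (Finset.mem_univ _)) ?_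
    intro z hz w hw hzw
    rw [Prod.mk.injEq] at hzw
    refine h z hz w hw (fun i hi => ?_) hzw.2
    exact congrFun hzw.1 ⟨i, Finset.mem_compl.2 hi⟩
  rwa [Finset.card_univ, Fintype.card_prod, Fintype.card_fun, Fintype.card_coe, Finset.card_compl] at h1

end

end Cfsg.Agent.R2.T2.N6K
end

-- part: R2/T2/N6K/Cnt
section
/-!
# S5929, counting in the Lie algebra of `E₇` (helper18)

* `card_cube` : `2 ≠ 0`: at most `27 q^124 + 27 q^123 + q^106` elements with `M ^ 3 = a M`;
* `card_sq` : every characteristic: at most `27 q^116 + q^106` elements with `M ^ 2 = a M + b`.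
-/

set_option autoImplicit false
set_option maxRecDepth 100000

namespace Cfsg.Agent.R2.T2.N6K

open Cfsg Cfsg.Lie Matrix
open Cfsg.Agent.R2.T1 Cfsg.Agent.R2.PX Cfsg.Agent.R2.T1.Mu
open Cfsg.Agent.H943.E7V.Block (D1 rho)

universe u

section
variable {F : Type u} [Field F]

theorem sup_sub {P : Finset (Fin 126)} {z w : chevE7.Idx → F} (h : ∀ i ∉ P.image ix, z i = w i) : Sup P (z - w) := by
  intro i hi
  rw [Pi.sub_apply, h i hi, sub_self]

theorem mv_top {r : ℕ} (hr : (mv r 238).isNone = true) : mv r 238 = none := Option.isNone_iff_eq_none.1 hr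

/-! ### the three injections -/

/-- the lowering coordinates vanish -/
theorem inj0 {z w : chevE7.Idx → F} (hz : ∀ a : D1, nn a ∈ L1 → (del F z *ᵥ bs F topv) a = 0)
    (hw : ∀ a : D1, nn a ∈ L1 → (del F w *ᵥ bs F topv) a = 0) (h : ∀ i ∉ Pt.image ix, z i = w i) : z = w := by
  have key : ∀ z : chevE7.Idx → F, (∀ a : D1, nn a ∈ L1 → (del F z *ᵥ bs F topv) a = 0) → ∀ r ∈ Pt, z (ix r) = 0 := by
    intro z hz r hr
    rw [mem_Pt] at hr
    rcases mv_spec r.2 topv with h1 | ⟨a, c, h1, hc, -, -⟩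
    · rw [nn_top] at h1; rw [h1] at hr; exact absurd hr (by simp)
    · rw [nn_top] at h1
      have h2 := hz a (low_mem r.2 h1)
      rw [low_coord z r.2 h1] at h2
      exact (mul_eq_zero.1 h2).resolve_right (cast_ne hc)
  funext i
  by_cases hi : i ∈ Pt.image ix
  · obtain ⟨r, hr, rfl⟩ := Finset.mem_image.1 hi
    rw [key z hz r hr, key w hw r hr]
  · exact h i hi

/-- the quadratic equation -/
theorem inj_sq {a b : F} {z w : chevE7.Idx → F} (hz : del F z * del F z = a • del F z + b • 1)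
    (hw : del F w * del F w = a • del F w + b • 1) {g : D1} (hg : (del F z *ᵥ bs F topv) g ≠ 0)
    (h : ∀ i ∉ (Pz (nn g)).image ix, z i = w i) : z = w := by
  have hd := sup_sub h
  have e1 : del F (z - w) *ᵥ bs F topv = 0 := kill_top hd fun r hr => mv_top (mem_Pz.1 hr).1
  have e2 : del F z *ᵥ bs F topv = del F w *ᵥ bs F topv := by
    rw [map_sub, Matrix.sub_mulVec, sub_eq_zero] at e1
    exact e1
  have e3 : ∀ z : chevE7.Idx → F, del F z * del F z = a • del F z + b • 1 → del F z *ᵥ (del F z *ᵥ bs F topv) =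
      a • (del F z *ᵥ bs F topv) + b • bs F topv := by
    intro z hz
    rw [Matrix.mulVec_mulVec, hz, Matrix.add_mulVec, Matrix.smul_mulVec, Matrix.smul_mulVec, Matrix.one_mulVec]
  have e4 : del F (z - w) *ᵥ (del F z *ᵥ bs F topv) = 0 := by
    rw [map_sub, Matrix.sub_mulVec, e3 z hz]
    rw [e2, e3 w hw, sub_self]
  have h5 := tri hd (b := g) (fun r hr => (mem_Pz.1 hr).2) (fun r hr a' c h6 => by rw [e4]; rfl) hg
  exact sub_eq_zero.1 h5

/-- the cubic equation, second layer not zero -/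
theorem inj_cube {a : F} {z w : chevE7.Idx → F} (hz : del F z * del F z * del F z = a • del F z)
    (hw : del F w * del F w * del F w = a • del F w) {g : D1} (hg : nn g ∈ L2)
    (h0 : (del F z *ᵥ (del F z *ᵥ bs F topv)) g ≠ 0)
    (h : ∀ i ∉ (Pu (nn g)).image ix, z i = w i)
    (hs : (del F z *ᵥ (del F z *ᵥ bs F topv)) topv = (del F w *ᵥ (del F w *ᵥ bs F topv)) topv) : z = w := by
  have hd := sup_sub h
  have hr0 : ∀ r ∈ Pu (nn g), mv r.val 238 = none := fun r hr => up_none r.2 (mem_Pu.1 hr).1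
  have e1 : del F (z - w) *ᵥ bs F topv = 0 := kill_top hd hr0
  have e2 : del F z *ᵥ bs F topv = del F w *ᵥ bs F topv := by
    rw [map_sub, Matrix.sub_mulVec, sub_eq_zero] at e1
    exact e1
  have e3 : del F (z - w) *ᵥ (del F z *ᵥ bs F topv) = 0 := by
    funext x
    by_cases hx : x = topv
    · subst hx
      rw [map_sub, Matrix.sub_mulVec, Pi.sub_apply, hs]
      rw [e2, sub_self]
      rfl
    · rw [del_sum hd.inl, Pi.zero_apply]
      refine Finset.sum_eq_zero fun s _ => ?_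
      by_cases hds : (z - w) (Sum.inr s) = 0
      · rw [hds, zero_mul]
      · have hP := hd.inr hds
        rw [NM_zero, mul_zero]
        intro b c hb
        by_cases hbt : b = topv
        · subst hbt
          rw [nn_top, hr0 _ hP] at hb
          exact absurd hb (by simp)
        · refine del_top z hbt fun hL => hx (nn_inj ?_)
          exact up_top s.2 (mem_Pu.1 hP).1 hL hb
  have e4 : del F z *ᵥ (del F z *ᵥ bs F topv) = del F w *ᵥ (del F w *ᵥ bs F topv) := by
    rw [map_sub, Matrix.sub_mulVec, sub_eq_zero] at e3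
    rw [e3, e2]
  have e5 : ∀ z : chevE7.Idx → F, del F z * del F z * del F z = a • del F z →
      del F z *ᵥ (del F z *ᵥ (del F z *ᵥ bs F topv)) = a • (del F z *ᵥ bs F topv) := by
    intro z hz
    rw [Matrix.mulVec_mulVec, Matrix.mulVec_mulVec, hz, Matrix.smul_mulVec]
  have e6 : del F (z - w) *ᵥ (del F z *ᵥ (del F z *ᵥ bs F topv)) = 0 := by
    rw [map_sub, Matrix.sub_mulVec, e5 z hz, e4, e5 w hw, e2, sub_self]
  have h5 := tri hd (b := g) (fun r hr => (mem_Pu.1 hr).2) (fun r hr a' c h6 => by rw [e6]; rfl) h0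
  exact sub_eq_zero.1 h5

/-- second layer zero, first layer not zero -/
theorem inj_two (h2 : (2 : F) ≠ 0) {z w : chevE7.Idx → F}
    (hz : ∀ a : D1, nn a ∈ L2 → (del F z *ᵥ (del F z *ᵥ bs F topv)) a = 0)
    (hw : ∀ a : D1, nn a ∈ L2 → (del F w *ᵥ (del F w *ᵥ bs F topv)) a = 0) {g : D1} (hg : nn g ∈ L1)
    (h0 : (del F z *ᵥ bs F topv) g ≠ 0)
    (h : ∀ i ∉ (Pl (nn g)).image ix, z i = w i) : z = w := by
  have hd := sup_sub h
  have hP : ∀ r ∈ Pl (nn g), (mv r.val 238).isSome = true := fun r hr => (mem_Pl.1 hr).1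
  -- the coordinate of `g`
  have e1 : (del F (z - w) *ᵥ bs F topv) g = 0 := by
    rw [del_sum hd.inl]
    refine Finset.sum_eq_zero fun s _ => ?_
    by_cases hds : (z - w) (Sum.inr s) = 0
    · rw [hds, zero_mul]
    · have hP' := mem_Pl.1 (hd.inr hds)
      rw [NM_zero, mul_zero]
      intro b c hb
      refine bs_ne fun hbt => ?_
      rcases mv_spec s.2 b with h3 | ⟨a', c', h3, -, h4, -⟩
      · rw [h3] at hb; exact absurd hb (by simp)
      · rw [hb, Option.some.injEq, Prod.mk.injEq] at h3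
        rw [← h3.1] at h4
        have h5 : (mv s.val (nn g)).isSome = true := hP'.2
        rw [h4] at h5
        exact absurd h5 (by simp)
  have e2 : (del F z *ᵥ bs F topv) g = (del F w *ᵥ bs F topv) g := by
    rw [map_sub, Matrix.sub_mulVec, Pi.sub_apply, sub_eq_zero] at e1
    exact e1
  have e3 : ∀ x : D1, nn x ∈ L2 → (del F (z - w) *ᵥ (del F z *ᵥ bs F topv + del F w *ᵥ bs F topv)) x = 0 := by
    intro x hx
    have c1 := comm2 hd hP z hx
    have c2 : (del F z *ᵥ (del F (z - w) *ᵥ bs F topv)) x + (del F (z - w) *ᵥ (del F w *ᵥ bs F topv)) x = 0 := by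
      have c3 : del F z *ᵥ (del F (z - w) *ᵥ bs F topv) + del F (z - w) *ᵥ (del F w *ᵥ bs F topv) =
          del F z *ᵥ (del F z *ᵥ bs F topv) - del F w *ᵥ (del F w *ᵥ bs F topv) := by
        rw [map_sub]
        simp only [Matrix.sub_mulVec, Matrix.mulVec_sub]
        abel
      have c4 := congrFun c3 x
      rw [Pi.add_apply, Pi.sub_apply, hz x hx, hw x hx, sub_zero] at c4
      exact c4
    rw [c1] at c2
    rw [Matrix.mulVec_add, Pi.add_apply]
    exact c2
  have h5 := tri hd (b := g) (fun r hr => (mem_Pl.1 hr).2) (fun r hr a' c h6 => e3 a' (low_L2 r.2 (hP r hr) hg h6))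
    (by
      rw [Pi.add_apply, ← e2, ← two_mul]
      exact mul_ne_zero h2 h0)
  exact sub_eq_zero.1 h5

end

/-! ### counting -/

/-- weights of a layer -/
def WL (L : List ℕ) : Finset D1 := Finset.univ.filter fun b => nn b ∈ L

theorem mem_WL {L : List ℕ} {b : D1} : b ∈ WL L ↔ nn b ∈ L := by simp only [WL, _root_.Finset.mem_filter, _root_.Finset.mem_univ, _root_.true_and]

theorem card_WL (L : List ℕ) : (WL L).card ≤ L.length := by
  refine le_trans (Finset.card_le_card_of_injOn (t := L.toFinset) nn (fun b hb => ?_) ?_) (List.toFinset_card_le L)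
  · exact List.mem_toFinset.2 (mem_WL.1 hb)
  · intro a _ b _ h
    exact nn_inj h

theorem card_idx : Fintype.card chevE7.Idx = 133 := by
  rw [Fintype.card_sum, Fintype.card_fin, Fintype.card_fin]
  rfl

theorem card_im (P : Finset (Fin 126)) : (P.image ix).card = P.card := Finset.card_image_of_injective _ ix_inj

section
variable {F : Type u} [Field F] [Finite F]

/-- **the cubic equation** -/
theorem card_cube (h2 : (2 : F) ≠ 0) (a : F) :
    Nat.card {z : chevE7.Idx → F // del F z * del F z * del F z = a • del F z} ≤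
      27 * Nat.card F ^ 124 + 27 * Nat.card F ^ 123 + Nat.card F ^ 106 := by
  classical
  have : Fintype F := Fintype.ofFinite F
  rw [Nat.card_eq_fintype_card (α := F), Nat.card_eq_fintype_card, Fintype.card_subtype]
  set q := Fintype.card F with hq
  set T : Finset (chevE7.Idx → F) := Finset.univ.filter fun z => del F z * del F z * del F z = a • del F z with hT
  let A : D1 → Finset (chevE7.Idx → F) := fun g => T.filter fun z => (del F z *ᵥ (del F z *ᵥ bs F topv)) g ≠ 0
  let B : D1 → Finset (chevE7.Idx → F) := fun g => Finset.univ.filter fun z =>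
    (∀ x : D1, nn x ∈ L2 → (del F z *ᵥ (del F z *ᵥ bs F topv)) x = 0) ∧ (del F z *ᵥ bs F topv) g ≠ 0
  let C : Finset (chevE7.Idx → F) := Finset.univ.filter fun z => ∀ x : D1, nn x ∈ L1 → (del F z *ᵥ bs F topv) x = 0
  have hsub : T ⊆ ((WL L2).biUnion A ∪ (WL L1).biUnion B) ∪ C := by
    intro z hz
    rw [Finset.mem_union, Finset.mem_union, Finset.mem_biUnion, Finset.mem_biUnion]
    by_cases h1 : ∀ x : D1, nn x ∈ L2 → (del F z *ᵥ (del F z *ᵥ bs F topv)) x = 0
    · by_cases h3 : ∀ x : D1, nn x ∈ L1 → (del F z *ᵥ bs F topv) x = 0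
      · exact Or.inr (Finset.mem_filter.2 ⟨Finset.mem_univ _, h3⟩)
      · push Not at h3
        obtain ⟨x, hx, hx'⟩ := h3
        exact Or.inl (Or.inr ⟨x, mem_WL.2 hx, Finset.mem_filter.2 ⟨Finset.mem_univ _, h1, hx'⟩⟩)
    · push Not at h1
      obtain ⟨x, hx, hx'⟩ := h1
      exact Or.inl (Or.inl ⟨x, mem_WL.2 hx, Finset.mem_filter.2 ⟨hz, hx'⟩⟩)
  have hA : ∀ g ∈ WL L2, (A g).card ≤ q ^ 124 := by
    intro g hg
    rw [mem_WL] at hg
    have h3 := elim' (A g) ((Pu (nn g)).image ix) (fun z => (del F z *ᵥ (del F z *ᵥ bs F topv)) topv)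
      (fun z hz w hw h4 h5 => by
        have hz' := Finset.mem_filter.1 hz
        have hw' := Finset.mem_filter.1 hw
        exact inj_cube (Finset.mem_filter.1 hz'.1).2 (Finset.mem_filter.1 hw'.1).2 hg hz'.2 h4 h5)
    rw [card_im, card_Pu _ hg, card_idx, ← pow_succ] at h3
    exact h3
  have hB : ∀ g ∈ WL L1, (B g).card ≤ q ^ 123 := by
    intro g hg
    rw [mem_WL] at hg
    have h3 := elim (B g) ((Pl (nn g)).image ix)
      (fun z hz w hw h4 => by
        have hz' := (Finset.mem_filter.1 hz).2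
        have hw' := (Finset.mem_filter.1 hw).2
        exact inj_two h2 hz'.1 hw'.1 hg hz'.2 h4)
    rw [card_im, card_Pl _ hg, card_idx] at h3
    exact h3
  have hC : C.card ≤ q ^ 106 := by
    have h3 := elim C (Pt.image ix)
      (fun z hz w hw h4 => inj0 (Finset.mem_filter.1 hz).2 (Finset.mem_filter.1 hw).2 h4)
    rw [card_im, card_Pt, card_idx] at h3
    exact h3
  have c2 : (WL L2).card ≤ 27 := card_WL L2
  have c1 : (WL L1).card ≤ 27 := card_WL L1
  calc T.card ≤ (((WL L2).biUnion A ∪ (WL L1).biUnion B) ∪ C).card := Finset.card_le_card hsub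
    _ ≤ ((WL L2).biUnion A ∪ (WL L1).biUnion B).card + C.card := Finset.card_union_le _ _
    _ ≤ ((WL L2).biUnion A).card + ((WL L1).biUnion B).card + C.card :=
        Nat.add_le_add_right (Finset.card_union_le _ _) _
    _ ≤ (WL L2).card * q ^ 124 + (WL L1).card * q ^ 123 + q ^ 106 :=
        Nat.add_le_add (Nat.add_le_add (Finset.card_biUnion_le_card_mul _ _ _ hA)
          (Finset.card_biUnion_le_card_mul _ _ _ hB)) hC
    _ ≤ 27 * q ^ 124 + 27 * q ^ 123 + q ^ 106 :=
        Nat.add_le_add_right (Nat.add_le_add (Nat.mul_le_mul_right _ c2) (Nat.mul_le_mul_right _ c1)) _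

/-- **the quadratic equation** -/
theorem card_sq (a b : F) :
    Nat.card {z : chevE7.Idx → F // del F z * del F z = a • del F z + b • (1 : Matrix D1 D1 F)} ≤
      27 * Nat.card F ^ 116 + Nat.card F ^ 106 := by
  classical
  have : Fintype F := Fintype.ofFinite F
  rw [Nat.card_eq_fintype_card (α := F), Nat.card_eq_fintype_card, Fintype.card_subtype]
  set q := Fintype.card F with hq
  set T : Finset (chevE7.Idx → F) := Finset.univ.filter fun z => del F z * del F z = a • del F z + b • (1 : Matrix D1 D1 F)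
    with hT
  let A : D1 → Finset (chevE7.Idx → F) := fun g => T.filter fun z => (del F z *ᵥ bs F topv) g ≠ 0
  let C : Finset (chevE7.Idx → F) := Finset.univ.filter fun z => ∀ x : D1, nn x ∈ L1 → (del F z *ᵥ bs F topv) x = 0
  have hsub : T ⊆ (WL L1).biUnion A ∪ C := by
    intro z hz
    rw [Finset.mem_union, Finset.mem_biUnion]
    by_cases h3 : ∀ x : D1, nn x ∈ L1 → (del F z *ᵥ bs F topv) x = 0
    · exact Or.inr (Finset.mem_filter.2 ⟨Finset.mem_univ _, h3⟩)
    · push Not at h3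
      obtain ⟨x, hx, hx'⟩ := h3
      exact Or.inl ⟨x, mem_WL.2 hx, Finset.mem_filter.2 ⟨hz, hx'⟩⟩
  have hA : ∀ g ∈ WL L1, (A g).card ≤ q ^ 116 := by
    intro g hg
    rw [mem_WL] at hg
    have h3 := elim (A g) ((Pz (nn g)).image ix)
      (fun z hz w hw h4 => by
        have hz' := Finset.mem_filter.1 hz
        have hw' := Finset.mem_filter.1 hw
        exact inj_sq (Finset.mem_filter.1 hz'.1).2 (Finset.mem_filter.1 hw'.1).2 hz'.2 h4)
    rw [card_im, card_Pz _ hg, card_idx] at h3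
    exact h3
  have hC : C.card ≤ q ^ 106 := by
    have h3 := elim C (Pt.image ix)
      (fun z hz w hw h4 => inj0 (Finset.mem_filter.1 hz).2 (Finset.mem_filter.1 hw).2 h4)
    rw [card_im, card_Pt, card_idx] at h3
    exact h3
  have c1 : (WL L1).card ≤ 27 := card_WL L1
  calc T.card ≤ ((WL L1).biUnion A ∪ C).card := Finset.card_le_card hsub
    _ ≤ ((WL L1).biUnion A).card + C.card := Finset.card_union_le _ _
    _ ≤ (WL L1).card * q ^ 116 + q ^ 106 := Nat.add_le_add (Finset.card_biUnion_le_card_mul _ _ _ hA) hC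
    _ ≤ 27 * q ^ 116 + q ^ 106 := Nat.add_le_add_right (Nat.mul_le_mul_right _ c1) _

end

end Cfsg.Agent.R2.T2.N6K
end

-- part: R2/T2/Alg/Ann
section
/-!
# S5929: annihilators of vectors in the Lie algebra of type `E₇` (helper4)

* `tri` : lowest terms; `card_ann` : the annihilator of a non-zero vector has at most `q ^ 105` elements;
* `card_ker` : the number of elements of the Lie algebra with a kernel of dimension at least 32.
-/

set_option autoImplicit false
set_option maxRecDepth 100000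

namespace Cfsg.Agent.R2.T2.Alg

open Cfsg Cfsg.Lie Matrix Module
open Cfsg.Agent.ChevalleyStructure.RootVec
open Cfsg.Agent.R2.T1 Cfsg.Agent.R2.PX Cfsg.Agent.R2.T1.Mu
open Cfsg.Agent.H943.E7V.Block (D1 rho)

universe u

private noncomputable def _root_.Cfsg.Agent.KOf8acae6.k40.{ku0} : type_of% @List.get?Internal.{ku0} := @(fun x0 x1 x2 => @List.rec.{(ku0+1), ku0} @x0 @(fun x3 => ℕ → @Option.{ku0} @x0) @(fun x3 => @Option.none.{ku0} _) @(fun x3 x4 x5 x6 => @Nat.rec.{(ku0+1)} @(fun x7 => @Option.{ku0} @x0) (@Option.some.{ku0} _ @x3) @(fun x7 x8 => @x5 @x7) @x6) @x1 @x2)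
private theorem _root_.Cfsg.Agent.KOf8acae6.e40.{ku0} : @List.get?Internal.{ku0} = @_root_.Cfsg.Agent.KOf8acae6.k40.{ku0} := by delta _root_.Cfsg.Agent.KOf8acae6.k40; funext a0 a1 a2; refine (congrFun (_root_.Cfsg.Agent.KOf8acae6.e3 (fun a1 a2 => @List.get?Internal.{ku0} a0 a1 a2) ?_ (fun c0 c1 => ?_) a1) a2 :) <;> [(funext b0; (rfl')); (funext b0; (cases b0 with | @zero  => (rfl') | @succ b0_0 => (rfl')))]
private noncomputable def _root_.Cfsg.Agent.KOf8acae6.k41.{ku0} : type_of% @List.getD.{ku0} := @(fun x0 x1 x2 x3 => @Option.rec.{(ku0+1), ku0} @x0 @(fun x4 => @x0) @x3 @(fun x4 => @x4) (@Cfsg.Agent.KOf8acae6.k40.{ku0} _ @x1 @x2))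
private theorem _root_.Cfsg.Agent.KOf8acae6.e41.{ku0} : @List.getD.{ku0} = @_root_.Cfsg.Agent.KOf8acae6.k41.{ku0} := by delta _root_.Cfsg.Agent.KOf8acae6.k41; rewrite [← Cfsg.Agent.KOf8acae6.e40.{ku0}]; rfl'

/-- the root vectors preserve the order of the weights -/
theorem chkMono : ((List.range 126).all fun r => let l := T56.getD r []
    l.all fun x => l.all fun y => !(Nat.blt x.1 y.1) || Nat.blt x.2.1 y.2.1) = true := by (first | (rewrite [Cfsg.Agent.KOf8acae6.e17.{0}, Cfsg.Agent.KOf8acae6.e20, Cfsg.Agent.KOf8acae6.e41.{0}, Cfsg.Agent.KOf8acae6.e21, Cfsg.Agent.KOf8acae6.e22]; decide +kernel) | decide +kernel)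

theorem mono {r : ℕ} (hr : r < 126) {a b a' b' : D1} {c c' : ℤ} (h : mv r (nn b) = some (nn a, c))
    (h' : mv r (nn b') = some (nn a', c')) (hlt : nn b < nn b') : nn a < nn a' := by
  have h1 := List.all_eq_true.1 (List.all_eq_true.1 (List.all_eq_true.1 chkMono r (List.mem_range.2 hr)) _
    (Comb.row_mem h)) _ (Comb.row_mem h')
  rw [Bool.or_eq_true, Bool.not_eq_true'] at h1
  rcases h1 with h1 | h1
  · have h2 : Nat.blt (nn b) (nn b') = true := by rwa [Nat.blt_eq]
    rw [h2] at h1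
    exact absurd h1 (by simp)
  · rwa [Nat.blt_eq] at h1

private noncomputable def _root_.Cfsg.Agent.KOf8acae6.k4.{ku0} : type_of% @List.length.{ku0} := @(fun x0 x1 => @List.rec.{1, ku0} @x0 @(fun x2 => ℕ) (nat_lit 0) @(fun x2 x3 x4 => @Nat.add @x4 (nat_lit 1)) @x1)
private theorem _root_.Cfsg.Agent.KOf8acae6.e4.{ku0} : @List.length.{ku0} = @_root_.Cfsg.Agent.KOf8acae6.k4.{ku0} := by delta _root_.Cfsg.Agent.KOf8acae6.k4; funext a0 a1; refine (_root_.Cfsg.Agent.KOf8acae6.e3 (fun a1 => @List.length.{ku0} a0 a1) ?_ (fun c0 c1 => ?_) a1 :) <;> (rfl')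

theorem chk27 : (W56.all fun b => Nat.beq ((List.range 126).filter fun r => (mv r b).isSome).length 27) = true := by
  rw [N6K.mv_fast]
  (first | (rewrite [Cfsg.Agent.KOf8acae6.e17.{0}, Cfsg.Agent.KOf8acae6.e4.{0}, Cfsg.Agent.KOf8acae6.e6.{0}, Cfsg.Agent.KOf8acae6.e10.{0}, Cfsg.Agent.KOf8acae6.e13, Cfsg.Agent.KOf8acae6.e20]; decide +kernel) | decide +kernel)

theorem chkI : (W56.all fun b => (List.range 7).any fun i =>
    decide (chevE8.cartan i b = 1) || decide (chevE8.cartan i b = -1)) = true := by decide +kernel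

theorem exists_i (b : D1) : ∃ i : Fin chevE7.rank, chevE8.cartan i (nn b) = 1 ∨ chevE8.cartan i (nn b) = -1 := by
  obtain ⟨i, hi, h⟩ := List.any_eq_true.1 (List.all_eq_true.1 chkI (nn b) (nn_mem b))
  exact ⟨⟨i, List.mem_range.1 hi⟩, by simpa using h⟩

section
variable {F : Type u} [Field F]

theorem del_diag (z : chevE7.Idx → F) (b : D1) : del F z b b =
    ∑ i : Fin chevE7.rank, z (Sum.inl i) * ((chevE8.cartan i (nn b) : ℤ) : F) := by
  rw [del_apply, Matrix.add_apply, Matrix.sum_apply, Matrix.sum_apply]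
  have e : ∑ c : Fin chevE7.nroots, (z (Sum.inr c) • NM F (c : ℕ)) b b = 0 := by
    refine Finset.sum_eq_zero fun s _ => ?_
    rw [Matrix.smul_apply, smul_eq_mul]
    show _ * ((nz s b b : ℤ) : F) = 0
    rw [nz_diag s.2, Int.cast_zero, mul_zero]
  rw [e, add_zero]
  refine Finset.sum_congr rfl fun i _ => ?_
  rw [Matrix.smul_apply, Hi, Matrix.diagonal_apply_eq, smul_eq_mul]

theorem del_off {z : chevE7.Idx → F} {a b : D1} (hab : a ≠ b) (h : del F z a b ≠ 0) :
    ∃ (s : Fin chevE7.nroots) (c : ℤ), mv s (nn b) = some (nn a, c) ∧ z (Sum.inr s) ≠ 0 := by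
  by_contra hno
  push Not at hno
  apply h
  rw [del_apply, Matrix.add_apply, Matrix.sum_apply, Matrix.sum_apply, Finset.sum_eq_zero, zero_add]
  · refine Finset.sum_eq_zero fun s _ => ?_
    rw [Matrix.smul_apply, smul_eq_mul]
    show _ * ((nz s a b : ℤ) : F) = 0
    by_cases h0 : nz s a b = 0
    · rw [h0, Int.cast_zero, mul_zero]
    · obtain ⟨c, h1, -⟩ := nz_ne h0
      rw [hno s c h1, zero_mul]
  · intro i _
    rw [Matrix.smul_apply, Hi, Matrix.diagonal_apply_ne _ hab, smul_zero]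

/-- **lowest terms** -/
theorem tri {z : chevE7.Idx → F} {u : D1 → F} {b0 : D1} (hb0 : u b0 ≠ 0) (hlow : ∀ b, nn b < nn b0 → u b = 0)
    {i0 : Fin chevE7.rank} (hi0 : chevE8.cartan i0 (nn b0) = 1 ∨ chevE8.cartan i0 (nn b0) = -1)
    (hz1 : ∀ i, i ≠ i0 → z (Sum.inl i) = 0)
    (hz2 : ∀ r : Fin chevE7.nroots, mv r (nn b0) = none → z (Sum.inr r) = 0) (h : del F z *ᵥ u = 0) : z = 0 := by
  classical
  have hci : ((chevE8.cartan i0 (nn b0) : ℤ) : F) ≠ 0 := by
    rcases hi0 with h | h <;> rw [h] <;> simp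
  by_contra hz0
  set T : Finset D1 := Finset.univ.filter fun a =>
    (∃ (r : Fin chevE7.nroots) (c : ℤ), mv r (nn b0) = some (nn a, c) ∧ z (Sum.inr r) ≠ 0) ∨ (a = b0 ∧ z (Sum.inl i0) ≠ 0)
    with hT
  have hTne : T.Nonempty := by
    obtain ⟨j, hj⟩ : ∃ j, z j ≠ 0 := by
      by_contra hno
      push Not at hno
      exact hz0 (funext hno)
    rcases j with i | s
    · have hi : i = i0 := by
        by_contra hne
        exact hj (hz1 i hne)
      subst hi
      exact ⟨b0, Finset.mem_filter.2 ⟨Finset.mem_univ _, Or.inr ⟨rfl, hj⟩⟩⟩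
    · rcases mv_spec (r := s) s.2 b0 with h1 | ⟨a, c, h1, -, -, -⟩
      · exact absurd (hz2 s h1) hj
      · exact ⟨a, Finset.mem_filter.2 ⟨Finset.mem_univ _, Or.inl ⟨s, c, h1, hj⟩⟩⟩
  obtain ⟨a0, ha0, hmin⟩ := Finset.exists_min_image T (fun a => nn a) hTne
  have hcoord := congrFun h a0
  rw [Matrix.mulVec, dotProduct, Finset.sum_eq_single b0] at hcoord
  · have hcoord' : del F z a0 b0 * u b0 = 0 := hcoord
    have h1 := (mul_eq_zero.1 hcoord').resolve_right hb0
    rcases (Finset.mem_filter.1 ha0).2 with ⟨r, c, h3, h4⟩ | ⟨h3, h4⟩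
    · have hc : c * c = 1 := by
        rcases mv_spec (r := r) r.2 b0 with h5 | ⟨a', c', h5, h6, -⟩
        · rw [h5] at h3; exact absurd h3 (by simp)
        · rw [h5, Option.some.injEq, Prod.mk.injEq] at h3
          rw [← h3.2]
          exact h6
      rw [del_entry z r.2 h3] at h1
      exact (mul_ne_zero h4 (cast_ne hc)) h1
    · subst h3
      rw [del_diag, Finset.sum_eq_single i0] at h1
      · exact (mul_ne_zero h4 hci) h1
      · intro i _ hi
        rw [hz1 i hi, zero_mul]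
      · intro h5; exact absurd (Finset.mem_univ _) h5
  · intro b _ hb
    by_contra hne
    have hu : u b ≠ 0 := right_ne_zero_of_mul hne
    have hd : del F z a0 b ≠ 0 := left_ne_zero_of_mul hne
    have hlt : nn b0 < nn b := by
      by_contra hle
      rcases lt_or_eq_of_le (not_lt.1 hle) with h5 | h5
      · exact hu (hlow b h5)
      · exact hb (nn_inj h5)
    by_cases hab : a0 = b
    · subst hab
      rw [del_diag] at hd
      have h5 : z (Sum.inl i0) ≠ 0 := by
        intro h6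
        apply hd
        refine Finset.sum_eq_zero fun i _ => ?_
        by_cases hi : i = i0
        · rw [hi, h6, zero_mul]
        · rw [hz1 i hi, zero_mul]
      have h6 := hmin b0 (Finset.mem_filter.2 ⟨Finset.mem_univ _, Or.inr ⟨rfl, h5⟩⟩)
      exact absurd (lt_of_lt_of_le hlt h6) (lt_irrefl _)
    · obtain ⟨s, c, h5, h6⟩ := del_off hab hd
      rcases mv_spec (r := s) s.2 b0 with h7 | ⟨a', c', h7, -, -, -⟩
      · exact h6 (hz2 s h7)
      · have h8 := mono s.2 h7 h5 hlt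
        have h9 := hmin a' (Finset.mem_filter.2 ⟨Finset.mem_univ _, Or.inl ⟨s, c', h7, h6⟩⟩)
        exact absurd (lt_of_lt_of_le h8 h9) (lt_irrefl _)
  · intro h5; exact absurd (Finset.mem_univ _) h5

end

/-! ### counting -/

theorem card_forget {ι F : Type*} [Fintype ι] [DecidableEq ι] [Finite F] (P : Finset ι) (S : Set (ι → F))
    (hinj : ∀ x ∈ S, ∀ y ∈ S, (∀ j, j ∉ P → x j = y j) → x = y) :
    Nat.card S ≤ Nat.card F ^ (Fintype.card ι - P.card) := by
  have h1 : Nat.card ({j : ι // j ∉ P} → F) = Nat.card F ^ (Fintype.card ι - P.card) := by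
    rw [Nat.card_fun, Nat.card_eq_fintype_card (α := {j : ι // j ∉ P})]
    congr 1
    rw [Fintype.card_subtype_compl, Fintype.card_coe]
  rw [← h1]
  refine Nat.card_le_card_of_injective (fun (x : S) (j : {j : ι // j ∉ P}) => (x : ι → F) j) ?_
  intro x y hxy
  exact Subtype.ext (hinj x x.2 y y.2 fun j hj => congrFun hxy ⟨j, hj⟩)

theorem card_Idx : Fintype.card chevE7.Idx = 133 := by
  rw [Fintype.card_sum, Fintype.card_fin, Fintype.card_fin]
  rfl

/-- the 27 roots moving the weight, and one coroot -/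
noncomputable def PA (b : D1) (i : Fin chevE7.rank) : Finset chevE7.Idx :=
  (Finset.univ.filter fun r : Fin chevE7.nroots => (mv r (nn b)).isSome).map ⟨Sum.inr, Sum.inr_injective⟩ ∪ {Sum.inl i}

theorem card_PA (b : D1) (i : Fin chevE7.rank) : (PA b i).card = 28 := by
  unfold PA
  rw [Finset.card_union_of_disjoint, Finset.card_map, Finset.card_singleton]
  · have h1 := Nat.eq_of_beq_eq_true (List.all_eq_true.1 chk27 (nn b) (nn_mem b))
    have h2 : ∀ (n : ℕ) (f : ℕ → Bool), (Finset.univ.filter fun r : Fin n => f r).card = ((List.range n).filter f).length := by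
      intro n f
      have e1 : (Finset.univ.filter fun r : Fin n => f r = true) =
          (Finset.univ.filter fun r : Fin n => f r = true) := rfl
      rw [← Finset.card_map ⟨fun r : Fin n => (r : ℕ), Fin.val_injective⟩]
      have e2 : (Finset.univ.filter fun r : Fin n => f r).map ⟨fun r : Fin n => (r : ℕ), Fin.val_injective⟩ =
          ((List.range n).filter f).toFinset := by
        ext k
        simp only [Finset.mem_map, Finset.mem_filter, Finset.mem_univ, true_and, Function.Embedding.coeFn_mk,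
          List.mem_toFinset, List.mem_filter, List.mem_range]
        constructor
        · rintro ⟨r, h, rfl⟩
          exact ⟨r.2, h⟩
        · rintro ⟨h, h'⟩
          exact ⟨⟨k, h⟩, h', rfl⟩
      rw [e2, List.toFinset_card_of_nodup (List.Nodup.filter _ List.nodup_range)]
    have h3 := h2 126 (fun r => (mv r (nn b)).isSome)
    rw [h1] at h3
    have h4 : (Finset.univ.filter fun r : Fin chevE7.nroots => (mv r (nn b)).isSome = true).card = 27 := h3
    rw [h4]
  · rw [Finset.disjoint_singleton_right, Finset.mem_map]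
    rintro ⟨r, -, h⟩
    exact absurd h (by simp)

section
variable {F : Type u} [Field F] [Finite F]

/-- **the annihilator of a non-zero vector** -/
theorem card_ann {u : D1 → F} (hu : u ≠ 0) :
    Nat.card {z : chevE7.Idx → F | del F z *ᵥ u = 0} ≤ Nat.card F ^ 105 := by
  classical
  have hTne : (Finset.univ.filter fun b => u b ≠ 0).Nonempty := by
    by_contra hno
    rw [Finset.not_nonempty_iff_eq_empty, Finset.filter_eq_empty_iff] at hno
    exact hu (funext fun b => not_not.1 (hno (Finset.mem_univ b)))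
  obtain ⟨b0, hb0, hmin⟩ := Finset.exists_min_image _ (fun b => nn b) hTne
  obtain ⟨i0, hi0⟩ := exists_i b0
  have h1 := card_forget (PA b0 i0) {z : chevE7.Idx → F | del F z *ᵥ u = 0} (by
    intro x hx y hy hxy
    have hx' : del F x *ᵥ u = 0 := hx
    have hy' : del F y *ᵥ u = 0 := hy
    rw [← sub_eq_zero]
    refine tri (b0 := b0) (i0 := i0) (u := u) (Finset.mem_filter.1 hb0).2 ?_ hi0 ?_ ?_ ?_
    · intro b hb
      by_contra hne
      exact absurd (lt_of_lt_of_le hb (hmin b (Finset.mem_filter.2 ⟨Finset.mem_univ _, hne⟩))) (lt_irrefl _)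
    · intro i hi
      rw [Pi.sub_apply, hxy, sub_self]
      unfold PA
      rw [Finset.mem_union, Finset.mem_map, Finset.mem_singleton, not_or]
      refine ⟨?_, fun h => hi (Sum.inl_injective h)⟩
      rintro ⟨r, -, h⟩
      exact absurd h (by simp)
    · intro r hr
      rw [Pi.sub_apply, hxy, sub_self]
      unfold PA
      rw [Finset.mem_union, Finset.mem_map, Finset.mem_singleton, not_or]
      refine ⟨?_, by simp⟩
      rintro ⟨r', h3, h⟩
      have h4 : r' = r := Sum.inr_injective h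
      rw [h4, Finset.mem_filter, hr] at h3
      exact absurd h3.2 (by simp)
    · rw [map_sub, Matrix.sub_mulVec, hx', hy', sub_zero])
  rwa [card_PA, card_Idx] at h1

theorem card_D1 : Fintype.card D1 = 56 := by
  have h := sumD1 (fun _ => 1)
  rw [Finset.sum_const, Finset.card_univ, smul_eq_mul, mul_one] at h
  rw [h]
  decide

/-- the double count -/
theorem sum_ker : (∑ᶠ z : chevE7.Idx → F, Nat.card {u : D1 → F // del F z *ᵥ u = 0}) ≤
    Nat.card F ^ 133 + Nat.card F ^ 161 := by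
  classical
  haveI := Fintype.ofFinite F
  rw [finsum_eq_sum_of_fintype]
  have e1 : ∑ z : chevE7.Idx → F, Nat.card {u : D1 → F // del F z *ᵥ u = 0} =
      ∑ u : D1 → F, Nat.card {z : chevE7.Idx → F // del F z *ᵥ u = 0} := by
    simp only [Nat.card_eq_fintype_card, Fintype.card_subtype, Finset.card_eq_sum_ones, Finset.sum_filter]
    exact Finset.sum_comm
  rw [e1, ← Finset.add_sum_erase _ _ (Finset.mem_univ (0 : D1 → F))]
  refine Nat.add_le_add ?_ ?_
  · have e2 : Nat.card {z : chevE7.Idx → F // del F z *ᵥ (0 : D1 → F) = 0} ≤ Nat.card (chevE7.Idx → F) :=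
      Nat.card_le_card_of_injective _ Subtype.val_injective
    have e3 : Nat.card (chevE7.Idx → F) = Nat.card F ^ 133 := by
      rw [Nat.card_fun, Nat.card_eq_fintype_card (α := chevE7.Idx), card_Idx]
    rw [← e3]
    exact e2
  · have e3 : Nat.card (D1 → F) = Nat.card F ^ 56 := by
      rw [Nat.card_fun, Nat.card_eq_fintype_card (α := D1), card_D1]
    calc ∑ u ∈ Finset.univ.erase (0 : D1 → F), Nat.card {z : chevE7.Idx → F // del F z *ᵥ u = 0}
        ≤ ∑ u ∈ Finset.univ.erase (0 : D1 → F), Nat.card F ^ 105 :=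
          Finset.sum_le_sum fun u hu => card_ann (Finset.ne_of_mem_erase hu)
      _ ≤ Nat.card F ^ 56 * Nat.card F ^ 105 := by
          rw [Finset.sum_const, smul_eq_mul]
          refine Nat.mul_le_mul_right _ ?_
          rw [← e3, Nat.card_eq_fintype_card, ← Finset.card_univ]
          exact Finset.card_le_card (Finset.erase_subset _ _)
      _ = _ := by rw [← pow_add]

/-- **elements with a large kernel** -/
theorem card_ker : Nat.card {z : chevE7.Idx → F // 32 ≤ finrank F (LinearMap.ker (Matrix.toLin' (del F z)))} *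
    Nat.card F ^ 32 ≤ Nat.card F ^ 133 + Nat.card F ^ 161 := by
  classical
  haveI := Fintype.ofFinite F
  refine le_trans ?_ (sum_ker (F := F))
  rw [finsum_eq_sum_of_fintype, Nat.card_eq_fintype_card, Fintype.card_subtype]
  calc (Finset.univ.filter fun z : chevE7.Idx → F => 32 ≤ finrank F (LinearMap.ker (Matrix.toLin' (del F z)))).card *
        Nat.card F ^ 32 = ∑ z ∈ Finset.univ.filter fun z : chevE7.Idx → F =>
          32 ≤ finrank F (LinearMap.ker (Matrix.toLin' (del F z))), Nat.card F ^ 32 := by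
        rw [Finset.sum_const, smul_eq_mul]
    _ ≤ ∑ z ∈ Finset.univ.filter fun z : chevE7.Idx → F =>
          32 ≤ finrank F (LinearMap.ker (Matrix.toLin' (del F z))), Nat.card {u : D1 → F // del F z *ᵥ u = 0} := by
        refine Finset.sum_le_sum fun z hz => ?_
        have h1 := (Finset.mem_filter.1 hz).2
        have h2 : Nat.card {u : D1 → F // del F z *ᵥ u = 0} =
            Nat.card F ^ finrank F (LinearMap.ker (Matrix.toLin' (del F z))) := by
          rw [← Module.natCard_eq_pow_finrank (K := F)]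
          refine Nat.card_congr (Equiv.subtypeEquivRight fun u => ?_)
          rw [LinearMap.mem_ker, Matrix.toLin'_apply]
        rw [h2]
        exact Nat.pow_le_pow_right Nat.card_pos h1
    _ ≤ _ := Finset.sum_le_sum_of_subset (Finset.filter_subset _ _)

end

end Cfsg.Agent.R2.T2.Alg
end

private theorem dce_0deac1c59ccf : _root_.True := by
  try have : _root_.True := by simp only [_root_.Cfsg.Agent.R2.T2.N6K.Pl.eq_1]
  try have : _root_.True := by simp only [_root_.Cfsg.Agent.R2.T2.N6K.Pu.eq_1]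
  try have : _root_.True := by simp only [_root_.Cfsg.Agent.R2.T2.N6K.Pz.eq_1]
  try have : _root_.True := by simp only [_root_.Cfsg.Agent.R2.T2.N6K.WL.eq_1]
  try have : _root_.True := by simp only [_root_.Cfsg.Agent.R2.T2.N6K.Pt.eq_1]
  try have : _root_.True := by simp only [_root_.Cfsg.Agent.R2.T2.N6K.ix.eq_1]
  exact _root_.True.intro
end

-- part: R2/T1/N6L/Sc
section
set_option linter.all false
open scoped Cfsg.Agent.FastGrp

/-!
# S5929, `n = 6`: Scott's lemma for the triple `(2, 4, 5)` of `A₆` (helper7)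

* `gen6c` : `A₆` is generated by elements of order 2 and 4 whose product has order 5;
* `scott245` : on the module of degree 56; `scott245L` : on the adjoint module.
-/

set_option autoImplicit false
set_option maxRecDepth 100000

namespace Cfsg.Agent.R2.T1.N6L

open Cfsg Cfsg.Lie Module Equiv Equiv.Perm
open Cfsg.Agent.H943.E7V.Block (D1 rho)
open Cfsg.Agent.H952.F4 (ev es MaxAlt GenT)
open Cfsg.Agent.R2.T1

universe u

theorem gen6c : GenT 6 {2, 2} {4, 2} {5} :=
  Cfsg.Agent.H952.F4.Gen.genT_of (n := 4) (c[1, 2] * c[4, 5]) (c[0, 1] * c[2, 3, 4, 5]) (by decide +kernel)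
    (by decide +kernel)
    ![[],
    [],
    [2, 0, 2, 2, 0, 3, 0],
    [0, 3, 0, 3, 0, 2, 0, 2, 2],
    [3, 0, 2, 2, 0, 3, 0, 2, 2],
    [3, 0, 2, 0, 2, 2, 0]]
    (by decide +kernel) (by decide +kernel) (by decide +kernel) (by decide +kernel)

/-- the generating triple -/
theorem triple : ∃ x y : ↥(alternatingGroup (Fin 6)), Subgroup.closure {x, y} = ⊤ ∧ orderOf x = 2 ∧ orderOf y = 4 ∧
    orderOf (x * y) = 5 := by
  obtain ⟨x, y, h, hx, hy, hxy⟩ := gen6c
  refine ⟨x, y, h, ?_, ?_, ?_⟩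
  · rw [N6R.ord6, hx]; decide
  · rw [N6R.ord6, hy]; decide
  · rw [N6R.ord6, hxy]; decide

variable {F : Type u} [Field F] {H : Subgroup ↥(chevE7.group F)}
  {φ : ↥(alternatingGroup (Fin 6)) →* ↥(chevE7.group F)} {ψ : ↥(alternatingGroup (Fin 6)) →* Gh F}

/-- **Scott's lemma on the module of degree 56** -/
theorem scott245 [Finite F] (hM : MaxAlt H 6 φ) (hL : Lift φ ψ) : ∃ x y z : ↥(alternatingGroup (Fin 6)),
    orderOf x = 2 ∧ orderOf y = 4 ∧ orderOf z = 5 ∧
      ev (V F (ψ x)) 1 + ev (V F (ψ y)) 1 + ev (V F (ψ z)) 1 ≤ 56 := by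
  obtain ⟨x, y, h, hx, hy, hxy⟩ := triple
  refine ⟨x, y, x * y, hx, hy, hxy, ?_⟩
  have h := Cfsg.Agent.H952.F4.Scott.scott_form (MonoidHom.comp (V F) ψ) (x := x) (y := y) h (sf F)
    (fun v hv => sf_nondeg' hv) (fun g v w => sf_V _ v w)
  rw [finrank_V, no_fixed hM (by norm_num) (by norm_num) hL, finrank_bot, mul_zero, add_zero] at h
  exact h

/-- **Scott's lemma on the adjoint module** -/
theorem scott245L (h2 : (2 : F) ≠ 0) (hinv : Representation.invariants (MonoidHom.comp (L F) ψ) = ⊥) :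
    ∃ x y z : ↥(alternatingGroup (Fin 6)), orderOf x = 2 ∧ orderOf y = 4 ∧ orderOf z = 5 ∧
      ev (L F (ψ x)) 1 + ev (L F (ψ y)) 1 + ev (L F (ψ z)) 1 ≤ 133 := by
  obtain ⟨x, y, h, hx, hy, hxy⟩ := triple
  refine ⟨x, y, x * y, hx, hy, hxy, ?_⟩
  have h := Cfsg.Agent.H952.F4.Scott.scott_form (MonoidHom.comp (L F) ψ) (x := x) (y := y) h (kf F)
    (fun v hv => kf_nondeg h2 fun w => by rw [kf_comm]; exact hv w) (fun g v w => kf_L _ v w)
  rw [finrank_L, hinv, finrank_bot, mul_zero, add_zero] at h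
  exact h

end Cfsg.Agent.R2.T1.N6L
end

-- part: R2/T1/N6L/Pats
section
prune_inst 0x151065047162020000008590332020205c0004b00020080188c00c420109a102808201401eb0150292cea60160090048115c0110420000000a000400001d000000804604b248a10c660098800084000000000000300000000000000000000000000000000
set_option linter.all false
open scoped Cfsg.Agent.FastGrp

-- part: R2/T1/N6L/MuI
section
/-!
# S5929, n = 6, p = 3: multiplicities of the irreducible modules (helper11)

`mu_any`, `mu_isV`.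
-/

set_option autoImplicit false
set_option linter.unusedSectionVars false

namespace Cfsg.Agent.R2.T1.N6L

open Matrix Cfsg.Agent.H943.SL2Rel Cfsg.Agent.H943.SL2Mod Cfsg.Agent.H943.RepAdd Cfsg.Agent.R2.H28.SL2
open Cfsg.Agent.H179.SLC (IsSS fx mem_fx)
open Cfsg.Agent.H952.F4 (ev es)
open Cfsg.Agent.R2.T1

universe u v w

variable {K : Type u} [Field K] [DecidableEq K] [IsAlgClosed K] [CharP K 3]
  {π : _root_.Matrix.SpecialLinearGroup (Fin 2) F9 →* ↥(alternatingGroup (Fin 6))} (hs : Function.Surjective π)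
  (hk : ∀ g, π g = 1 ↔ g = 1 ∨ g = -1) (ι : F9 →+* K) {M : Type v} [AddCommGroup M] [Module K M]
  [FiniteDimensional K M] (ρ : Representation K ↥(alternatingGroup (Fin 6)) M)

include hs hk in
/-- the multiplicities, for any embedding -/
theorem mu_any {n : ℕ → ℕ} (H : IsMult ι 3 2 (MonoidHom.comp ρ π : Representation K _ M) n) {τ : K}
    (hτ : τ * τ + τ - 1 = 0) {a : ↥(alternatingGroup (Fin 6))} (ha : orderOf a = 5) :
    Mu ρ τ a (n 0) (n 2) (n 6) (n 4) (n 8) ∨ Mu ρ τ a (n 0) (n 6) (n 2) (n 4) (n 8) := by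
  obtain ⟨g, ζ, rfl, hss, hζ⟩ := lift5 ι card_F9 hs hk ha
  have h1 := mu_of ι ρ card_F9 hs hk H hss hζ
  rcases tau_cases hζ hτ with rfl | rfl
  · exact Or.inr h1.2
  · exact Or.inl h1.1

end Cfsg.Agent.R2.T1.N6L
end

-- part: R2/T1/N6L/Pats
section
/-!
# S5929, n = 6, p = 3, lift: the patterns (helper11)

* `vk_data` : the multiplicities of the module of degree 56 are even;
* `pats` : from Scott's lemma, the patterns `1² 3a⁴ 3b⁶ 4⁶` and `1¹⁰ 3a² 4¹⁰`.
-/

set_option autoImplicit false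
set_option linter.unusedSectionVars false

namespace Cfsg.Agent.R2.T1.N6L

open Cfsg Cfsg.Lie Module
open Matrix Cfsg.Agent.H943.SL2Rel Cfsg.Agent.H943.SL2Mod Cfsg.Agent.H943.RepAdd Cfsg.Agent.R2.H28.SL2
open Cfsg.Agent.H179.SLC (IsSS fx mem_fx)
open Cfsg.Agent.H943.E7V.Block (D1 rho)
open Cfsg.Agent.H952.F4 (ev es MaxAlt)
open Cfsg.Agent.R2.T1

universe u

section
variable {F : Type u} [Field F] (ψ : ↥(alternatingGroup (Fin 6)) →* Gh F)

/-- the module over the algebraic closure -/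
noncomputable def VK : Representation (AlgebraicClosure F) ↥(alternatingGroup (Fin 6)) (D1 → AlgebraicClosure F) :=
  MonoidHom.comp (V (AlgebraicClosure F)) ((emb (algebraMap F (AlgebraicClosure F))).comp ψ)

theorem VK_apply (x : ↥(alternatingGroup (Fin 6))) :
    VK ψ x = V (AlgebraicClosure F) (emb (algebraMap F (AlgebraicClosure F)) (ψ x)) := rfl

variable {π : _root_.Matrix.SpecialLinearGroup (Fin 2) F9 →* ↥(alternatingGroup (Fin 6))} (hs : Function.Surjective π)
  (hk : ∀ g, π g = 1 ↔ g = 1 ∨ g = -1)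

theorem dulVK : Dul (MonoidHom.comp (VK ψ) π : Representation (AlgebraicClosure F) _ _)
    (MonoidHom.comp (VK ψ) π : Representation (AlgebraicClosure F) _ _) (sf (AlgebraicClosure F)) where
  inv g x y := sf_V _ x y
  left x h := sf_nondeg' h
  right y h := sf_nondeg h

include hk in
theorem cenVK : (MonoidHom.comp (VK ψ) π : Representation (AlgebraicClosure F) _ _) (Cfsg.Agent.H943.SL2Rel.h (-1)) = 1 := by
  have h2 : π (Cfsg.Agent.H943.SL2Rel.h (-1)) = 1 := by
    rw [hk]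
    right
    apply Subtype.ext
    rw [Matrix.SpecialLinearGroup.coe_neg, Matrix.SpecialLinearGroup.coe_one]
    show !![((-1 : F9ˣ) : F9), 0; 0, ((-1 : F9ˣ) : F9)⁻¹] = -1
    ext i j
    (revert i j; simp only [_root_.Fin.forall_fin_succ, _root_.Units.val_neg, _root_.Units.val_one, _root_.inv_neg, _root_.inv_one, _root_.Matrix.of_apply, _root_.Matrix.cons_val', _root_.Matrix.cons_val_fin_one, _root_.Matrix.neg_apply, Fin.isValue, _root_.Matrix.cons_val_zero, _root_.Matrix.cons_val_succ, _root_.IsEmpty.forall_iff, _root_.and_true, _root_.Matrix.one_apply_eq, Nat.reduceAdd, _root_.Fin.succ_zero_eq_one, _root_.ne_eq, _root_.zero_ne_one, _root_.not_false_eq_true, _root_.Matrix.one_apply_ne, _root_.neg_zero, _root_.and_self, _root_.Fin.succ_ne_zero, _root_.neg_inj, _root_.true_and])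
  show VK ψ (π _) = 1
  rw [h2, map_one]

include hs hk in
/-- the multiplicities are even -/
theorem vk_data [CharP (AlgebraicClosure F) 3] [DecidableEq (AlgebraicClosure F)] (ι : F9 →+* AlgebraicClosure F)
    {τ : AlgebraicClosure F} (hτ : τ * τ + τ - 1 = 0)
    {a : ↥(alternatingGroup (Fin 6))} (ha : orderOf a = 5) : ∃ n na nb m l : ℕ,
    Mu (VK ψ) τ a (2 * n) (2 * na) (2 * nb) (2 * m) (2 * l) ∧
    (∀ x : ↥(alternatingGroup (Fin 6)), orderOf x = 4 → ev (VK ψ x) (-1) = 4 * m + 4 * l) := by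
  have h2 : (2 : AlgebraicClosure F) ≠ 0 := by
    have h1 : ((2 : ℕ) : AlgebraicClosure F) ≠ 0 := cast_ne (by norm_num)
    exact_mod_cast h1
  obtain ⟨s, hs2⟩ := even_cf ι 3 h2 (cenVK ψ hk) (dulVK ψ (π := π)) sf_self
  have H := isMult_cf ι 3 card_F9' (MonoidHom.comp (VK ψ) π : Representation (AlgebraicClosure F) _ _)
  have hev : ∀ b, (Cfsg.Agent.R2.H28.SL2.cf (Sy.{u, u, 0} ι 3) (MonoidHom.comp (VK ψ) π : Representation (AlgebraicClosure F) _ _)).count b =
      2 * s.count b := by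
    intro b
    rw [hs2, Multiset.count_add, two_mul]
  simp only [hev] at H
  have hneg : ∀ x : ↥(alternatingGroup (Fin 6)), orderOf x = 4 → ev (VK ψ x) (-1) = 4 * s.count 4 + 4 * s.count 8 := by
    intro x hx
    obtain ⟨g', ζ', rfl, hg', hζ'⟩ := lift4 ι card_F9 hs hk hx
    have h1 := ev_sum ι (VK ψ) hk H hg' hζ' (cast_ne (by norm_num)) 4
    have h4 : ζ' ^ 4 = -1 := by
      have h5 : (ζ' ^ 4 - 1) * (ζ' ^ 4 + 1) = 0 := by
        have h6 := hζ'.pow_eq_one
        linear_combination h6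
      rcases mul_eq_zero.1 h5 with h6 | h6
      · exfalso
        have h7 := hζ'.pow_ne_one_of_pos_of_lt (l := 4) (by norm_num) (by norm_num)
        exact h7 (sub_eq_zero.1 h6)
      · exact eq_neg_of_add_eq_zero_left h6
    rw [h4] at h1
    rw [h1, show mN 8 0 4 = 0 by decide, show mN 8 2 4 = 0 by decide, show mN 8 4 4 = 2 by decide,
      show mN 8 6 4 = 0 by decide, show mN 8 8 4 = 2 by decide]
    ring
  rcases mu_any hs hk ι (VK ψ) H hτ ha with h | h
  · exact ⟨_, _, _, _, _, h, hneg⟩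
  · exact ⟨_, _, _, _, _, h, hneg⟩

end

/-- the numbers -/
theorem nums {n na nb m l d2 d4 c4 d5 : ℕ} {P : List ℕ × List ℕ} (hP : P ∈ T4) {Q : List ℕ × List ℕ} (hQ : Q ∈ T5)
    (hdim : 56 = 2 * n + 3 * (2 * na) + 3 * (2 * nb) + 4 * (2 * m) + 9 * (2 * l))
    (h2 : d2 = 2 * n + 2 * na + 2 * nb + 2 * (2 * m) + 5 * (2 * l)) (h4 : d4 = 2 * n + 2 * na + 2 * nb + 3 * (2 * l))
    (hc : c4 = 4 * m + 4 * l) (h5 : d5 = 2 * n + 2 * na + 2 * nb + 2 * l)
    (hP0 : d4 = P.1.getD 0 0) (hP2 : c4 = P.1.getD 2 0) (hQ0 : d5 = Q.1.getD 0 0) (hS : d2 + d4 + d5 ≤ 56)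
    (hu : Q.1.getD 1 0 = 2 * na + 2 * m + 2 * (2 * l)) (hv : Q.1.getD 2 0 = 2 * nb + 2 * m + 2 * (2 * l)) :
    d4 = 12 ∧ d5 = 12 ∧ ((d2 = 24 ∧ ((Q.1.getD 1 0 = 10 ∧ Q.1.getD 2 0 = 12) ∨ (Q.1.getD 1 0 = 12 ∧ Q.1.getD 2 0 = 10))) ∨
      (d2 = 32 ∧ ((Q.1.getD 1 0 = 12 ∧ Q.1.getD 2 0 = 10) ∨ (Q.1.getD 1 0 = 10 ∧ Q.1.getD 2 0 = 12)))) := by
  have key4 : ∀ P ∈ T4, (P.1.getD 0 0, P.1.getD 2 0) ∈
      [(56, 0), (0, 56), (0, 0), (32, 24), (24, 32), (32, 0), (0, 32), (20, 4), (4, 20), (20, 12), (12, 20), (12, 12),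
        (16, 16)] := by decide
  have key5 : ∀ Q ∈ T5, (Q.1.getD 0 0 = 56 ∨ Q.1.getD 0 0 = 0 ∨ Q.1.getD 0 0 = 32 ∨ Q.1.getD 0 0 = 20 ∨ Q.1.getD 0 0 = 2 ∨
      Q.1.getD 0 0 = 16 ∨ Q.1.getD 0 0 = 6 ∨ Q.1.getD 0 0 = 10 ∨
      (Q.1.getD 0 0 = 12 ∧ Q.1.getD 1 0 = 7) ∨ (Q.1.getD 0 0 = 12 ∧ Q.1.getD 1 0 = 15) ∨
      (Q.1.getD 0 0 = 12 ∧ Q.1.getD 1 0 = 10) ∨ (Q.1.getD 0 0 = 12 ∧ Q.1.getD 1 0 = 12)) := by decide
  have k4 := key4 P hP
  have k5 := key5 Q hQ
  rw [← hP0, ← hP2] at k4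
  rw [← hQ0] at k5
  simp only [List.mem_cons, Prod.mk.injEq, List.not_mem_nil, or_false] at k4
  clear key4 key5 hP hQ hP0 hP2 hQ0
  generalize Q.1.getD 1 0 = x at *
  generalize Q.1.getD 2 0 = y at *
  have h12 : d4 = 12 ∧ (c4 = 20 ∨ c4 = 12) := by
    have k6 : d5 = 56 ∨ d5 = 0 ∨ d5 = 32 ∨ d5 = 20 ∨ d5 = 2 ∨ d5 = 16 ∨ d5 = 6 ∨ d5 = 10 ∨ d5 = 12 := by
      rcases k5 with h | h | h | h | h | h | h | h | ⟨h, -⟩ | ⟨h, -⟩ | ⟨h, -⟩ | ⟨h, -⟩ <;>
        simp only [h, true_or, or_true]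
    clear hu hv k5
    rcases k4 with ⟨rfl, rfl⟩ | ⟨rfl, rfl⟩ | ⟨rfl, rfl⟩ | ⟨rfl, rfl⟩ | ⟨rfl, rfl⟩ | ⟨rfl, rfl⟩ | ⟨rfl, rfl⟩ | ⟨rfl, rfl⟩ |
      ⟨rfl, rfl⟩ | ⟨rfl, rfl⟩ | ⟨rfl, rfl⟩ | ⟨rfl, rfl⟩ | ⟨rfl, rfl⟩
    iterate 10 exfalso; (solve | lia | omega)
    · exact ⟨rfl, .inl rfl⟩
    · exact ⟨rfl, .inr rfl⟩
    · exfalso; (solve | lia | omega)
  clear k4
  obtain ⟨rfl, rfl | rfl⟩ := h12
  · have h0 : l = 0 := by (clear * - h5 k5 h4; omega)
    clear k5
    exact ⟨rfl, by (clear * - h5 h4 h0; omega), .inr ⟨by (solve | lia | omega), by (clear * - hdim hu hv h4 hc h0; solve | lia | omega)⟩⟩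
  · have h0 : d5 = 12 := by clear k5; (solve | lia | omega)
    have h1 : x = 10 ∨ x = 12 := by (solve | lia | omega)
    clear k5
    exact ⟨rfl, h0, .inl ⟨by (clear * - h2 h4 hc; solve | lia | omega), by (solve | lia | omega)⟩⟩

/-- the numbers, rational class -/
theorem nums' {n na nb m l d2 d4 c4 d5 : ℕ} {P : List ℕ × List ℕ} (hP : P ∈ T4) {Q : List ℕ × List ℕ} (hQ : Q ∈ T5)
    (hQ1 : Q.1.getD 1 0 = Q.1.getD 2 0)
    (hdim : 56 = 2 * n + 3 * (2 * na) + 3 * (2 * nb) + 4 * (2 * m) + 9 * (2 * l))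
    (h2 : d2 = 2 * n + 2 * na + 2 * nb + 2 * (2 * m) + 5 * (2 * l)) (h4 : d4 = 2 * n + 2 * na + 2 * nb + 3 * (2 * l))
    (hc : c4 = 4 * m + 4 * l) (h5 : d5 = 2 * n + 2 * na + 2 * nb + 2 * l)
    (hP0 : d4 = P.1.getD 0 0) (hP2 : c4 = P.1.getD 2 0) (hQ0 : d5 = Q.1.getD 0 0) (hS : d2 + d4 + d5 ≤ 56) : False := by
  have key4 : ∀ P ∈ T4, (P.1.getD 0 0, P.1.getD 2 0) ∈
      [(56, 0), (0, 56), (0, 0), (32, 24), (24, 32), (32, 0), (0, 32), (20, 4), (4, 20), (20, 12), (12, 20), (12, 12),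
        (16, 16)] := by decide
  have key5 : ∀ Q ∈ T5, Q.1.getD 1 0 = Q.1.getD 2 0 → Q.1.getD 0 0 = 56 ∨ Q.1.getD 0 0 = 16 := by decide
  have k4 := key4 P hP
  have k5 := key5 Q hQ hQ1
  rw [← hP0, ← hP2] at k4
  rw [← hQ0] at k5
  simp only [List.mem_cons, Prod.mk.injEq, List.not_mem_nil, or_false] at k4
  clear key4 key5 hP hQ hP0 hP2 hQ0 hQ1
  rcases k4 with ⟨rfl, rfl⟩ | ⟨rfl, rfl⟩ | ⟨rfl, rfl⟩ | ⟨rfl, rfl⟩ | ⟨rfl, rfl⟩ | ⟨rfl, rfl⟩ | ⟨rfl, rfl⟩ | ⟨rfl, rfl⟩ |
    ⟨rfl, rfl⟩ | ⟨rfl, rfl⟩ | ⟨rfl, rfl⟩ | ⟨rfl, rfl⟩ | ⟨rfl, rfl⟩ <;> (clear * - h5 h4 hS hdim hc h2 k5; (solve | lia | omega))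

section
variable {F : Type u} [Field F] [Finite F] {ψ : ↥(alternatingGroup (Fin 6)) →* Gh F}

/-- **the patterns** -/
theorem pats (h3 : (3 : F) = 0) {x b a : ↥(alternatingGroup (Fin 6))} (hx : orderOf x = 2) (hb : orderOf b = 4)
    (ha : orderOf a = 5) (hS : ev (V F (ψ x)) 1 + ev (V F (ψ b)) 1 + ev (V F (ψ a)) 1 ≤ 56) :
    ∃ τ : F, Dat ψ τ a b 24 12 12 10 12 ∨ Dat ψ τ a b 32 12 12 12 10 := by
  classical
  have hF3 : CharP F 3 := by
    have hr := CharP.exists F
    obtain ⟨p, hp⟩ := hr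
    have h1 : p ∣ 3 := (CharP.cast_eq_zero_iff F p 3).1 (by exact_mod_cast h3)
    have h2 : p ≠ 1 := CharP.char_ne_one F p
    have h4 : p = 3 := (Nat.dvd_prime Nat.prime_three).1 h1 |>.resolve_left h2
    rw [← h4]
    exact hp
  have hK3 : CharP (AlgebraicClosure F) 3 :=
    charP_of_injective_algebraMap (algebraMap F (AlgebraicClosure F)).injective 3
  have h5F : (5 : F) ≠ 0 := by
    intro h
    have h1 : (1 : F) = 0 := by linear_combination 2 * h3 - h
    exact one_ne_zero h1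
  obtain ⟨π, hs, hk⟩ := exists_pi card_F9
  obtain ⟨ι⟩ := exists_iota (AlgebraicClosure F)
  -- order 5
  have ha5 : ψ a ^ 5 = 1 := by
    have h0 := pow_orderOf_eq_one a
    rw [ha] at h0
    rw [← map_pow, h0, map_one]
  have hb4 : ψ b ^ 4 = 1 := by
    have h0 := pow_orderOf_eq_one b
    rw [hb] at h0
    rw [← map_pow, h0, map_one]
  obtain ⟨Q, hQ, hQ0, -, hQ12⟩ := patF5 h5F ha5
  obtain ⟨ζ4, hζ4, P, hP, hP4⟩ := pat chk4 (by norm_num) 3 (by norm_num) hb4
  have e40 := (hP4 0 (by norm_num)).1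
  have e42 := (hP4 2 (by norm_num)).1
  have hζ42 : ζ4 ^ 2 = -1 := by
    have h5 : (ζ4 ^ 2 - 1) * (ζ4 ^ 2 + 1) = 0 := by
      have h6 := hζ4.pow_eq_one
      linear_combination h6
    rcases mul_eq_zero.1 h5 with h6 | h6
    · exfalso
      have h7 := hζ4.pow_ne_one_of_pos_of_lt (l := 2) (by norm_num) (by norm_num)
      exact h7 (sub_eq_zero.1 h6)
    · exact eq_neg_of_add_eq_zero_left h6
  rw [pow_zero] at e40
  rw [hζ42] at e42
  -- the square
  have hbb : orderOf (b * b) = 2 := by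
    rw [← pow_two, orderOf_pow, hb]
    decide
  rcases hQ12 with ⟨hQ1, -⟩ | ⟨τ, hτ, hq1, -, hq2, -⟩
  · -- the rational class
    exfalso
    obtain ⟨-, ζ5, -, -, hζ5⟩ := lift5 ι card_F9 hs hk ha
    obtain ⟨n, na, nb, m, l, hMu, hneg⟩ := vk_data ψ hs hk ι (golden hζ5) ha
    have h2 := hMu.two x hx
    have h4 := hMu.four b hb
    have h5 := hMu.five a ha
    have hc := hneg b hb
    have hdim := hMu.dim
    rw [VK_apply, ev_V_one] at h2 h4 h5
    rw [VK_apply] at hc
    rw [e42] at hc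
    rw [ev_V_one] at e40
    have hd56 : finrank (AlgebraicClosure F) (D1 → AlgebraicClosure F) = 56 := by
      rw [Module.finrank_fintype_fun_eq_card]
      decide +kernel
    rw [hd56] at hdim
    exact nums' hP hQ hQ1 hdim h2 h4 hc h5 e40 rfl hQ0 hS
  · have hτK : algebraMap F (AlgebraicClosure F) τ * algebraMap F (AlgebraicClosure F) τ +
        algebraMap F (AlgebraicClosure F) τ - 1 = 0 := by
      rw [← map_mul, ← map_add, ← map_one (algebraMap F (AlgebraicClosure F)), ← map_sub, hτ, map_zero]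
    obtain ⟨n, na, nb, m, l, hMu, hneg⟩ := vk_data ψ hs hk ι hτK ha
    have h2 := hMu.two x hx
    have h2b := hMu.two _ hbb
    have h4 := hMu.four b hb
    have h5 := hMu.five a ha
    have hc := hneg b hb
    have hqu := hMu.qu
    have hqv := hMu.qv
    have hdim := hMu.dim
    rw [VK_apply, ev_V_one] at h2 h2b h4 h5
    rw [VK_apply] at hc
    rw [VK_apply, ker_qd_V, hq1] at hqu
    have hτ' : (-1 - algebraMap F (AlgebraicClosure F) τ) = algebraMap F (AlgebraicClosure F) (-1 - τ) := by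
      rw [map_sub, map_neg, map_one]
    rw [VK_apply, hτ', ker_qd_V, hq2] at hqv
    rw [e42] at hc
    rw [ev_V_one] at e40
    have hd56 : finrank (AlgebraicClosure F) (D1 → AlgebraicClosure F) = 56 := by
      rw [Module.finrank_fintype_fun_eq_card]
      decide +kernel
    rw [hd56] at hdim
    obtain ⟨r1, r2, r3⟩ := nums hP hQ hdim h2 h4 hc h5 e40 rfl hQ0 hS (by (clear * - hqu; solve | lia | omega)) (by (clear * - hqv; solve | lia | omega))
    rw [h2, ← h2b] at r3
    rcases r3 with ⟨r3, ⟨r4, r5⟩ | ⟨r4, r5⟩⟩ | ⟨r3, ⟨r4, r5⟩ | ⟨r4, r5⟩⟩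
    · exact ⟨τ, Or.inl ⟨ha, hb, hτ, r3, r1, r2, by rw [hq1, r4], by rw [hq2, r5]⟩⟩
    · exact ⟨-1 - τ, Or.inl ⟨ha, hb, by linear_combination hτ, r3, r1, r2, by rw [hq2, r5],
        by rw [show (-1 : F) - (-1 - τ) = τ by ring, hq1, r4]⟩⟩
    · exact ⟨τ, Or.inr ⟨ha, hb, hτ, r3, r1, r2, by rw [hq1, r4], by rw [hq2, r5]⟩⟩
    · exact ⟨-1 - τ, Or.inr ⟨ha, hb, by linear_combination hτ, r3, r1, r2, by rw [hq2, r5],
        by rw [show (-1 : F) - (-1 - τ) = τ by ring, hq1, r4]⟩⟩

end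

end Cfsg.Agent.R2.T1.N6L
end

private theorem dce_0ed39dcc661d : _root_.True := by
  try have : _root_.True := by simp only [_root_.Cfsg.Agent.R2.H28.SL2.IsMult.congr_simp]
  exact _root_.True.intro
end

-- part: R2/T1/N6L/Bc2
section
prune_inst 0x143065447522020008188590232020607c0004220003480000c00d020909a00229c306011ef00512929090c170088048115c0110420000000a003c00001f002080835606b258ad0c760099000000000000000000000000000000000000000000000000000
set_option linter.all false
open scoped Cfsg.Agent.FastGrp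

-- part: R2/T1/N6L/Bc
section
/-!
# S5929, n = 6, p = 3: base change of representations (helper14)

* `bcRep K ρ` : the representation `g ↦ (ρ g).baseChange K` on `K ⊗[F] M`;
* `finrank_ker_bc`, `finrank_iInf_ker_bc` : kernels;
* `ev_bc`, `qd_bc`, `inv_bc` : eigenspaces, `ker qd`, invariants;
* `Mu.of_bc` : `Mu` descends.
-/

set_option autoImplicit false
set_option linter.unusedSectionVars false

namespace Cfsg.Agent.R2.T1.N6L

open Module TensorProduct
open Cfsg.Agent.H952.F4 (ev es)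
open Cfsg.Agent.R2.T1

universe u v w

section lin

variable {F : Type u} [Field F] (K : Type w) [Field K] [Algebra F K]
variable {M : Type v} [AddCommGroup M] [Module F M] {N : Type*} [AddCommGroup N] [Module F N]

/-- kernels -/
theorem finrank_ker_bc (f : M →ₗ[F] N) :
    finrank K ↥(LinearMap.ker (f.baseChange K)) = finrank F ↥(LinearMap.ker f) := by
  have e := LinearMap.tensorKerEquiv K K f
  have h : finrank K ↥(LinearMap.ker (f.baseChange K)) = finrank K (K ⊗[F] LinearMap.ker f) := (e.finrank_eq).symm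
  rw [h, Module.finrank_baseChange]

/-- intersections of kernels -/
theorem finrank_iInf_ker_bc {ι : Type*} [Finite ι] {N : ι → Type*} [∀ i, AddCommGroup (N i)] [∀ i, Module F (N i)]
    (f : ∀ i, M →ₗ[F] N i) :
    finrank K ↥(⨅ i, LinearMap.ker ((f i).baseChange K)) = finrank F ↥(⨅ i, LinearMap.ker (f i)) := by
  classical
  have := Fintype.ofFinite ι
  rw [← LinearMap.ker_pi, ← LinearMap.ker_pi, ← finrank_ker_bc K (LinearMap.pi f)]
  have h : LinearMap.pi (fun i => (f i).baseChange K) =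
      (TensorProduct.piRight F K K N).toLinearMap ∘ₗ (LinearMap.pi f).baseChange K := by
    ext x i
    simp [LinearMap.baseChange_tmul]
  rw [h, LinearEquiv.ker_comp]

variable {K}

theorem iInf_ne_bot_of_bc {ι : Type*} [Finite ι] {N : ι → Type*} [∀ i, AddCommGroup (N i)] [∀ i, Module F (N i)]
    [FiniteDimensional F M] {f : ∀ i, M →ₗ[F] N i} (h : (⨅ i, LinearMap.ker ((f i).baseChange K)) ≠ ⊥) :
    (⨅ i, LinearMap.ker (f i)) ≠ ⊥ := by
  intro h0
  apply h
  have h1 := finrank_iInf_ker_bc K f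
  rw [h0, finrank_bot] at h1
  exact Submodule.finrank_eq_zero.1 h1

variable (K)

/-- eigenspaces -/
theorem ev_bc (T : Module.End F M) (μ : F) : ev (T.baseChange K : Module.End K (K ⊗[F] M)) (algebraMap F K μ) = ev T μ := by
  have h : (T - μ • (1 : Module.End F M)).baseChange K =
      (T.baseChange K : Module.End K (K ⊗[F] M)) - algebraMap F K μ • 1 := by
    rw [LinearMap.baseChange_sub, LinearMap.baseChange_smul, LinearMap.baseChange_one F M, algebraMap_smul]
  rw [ev, ev, Module.End.eigenspace_def, Module.End.eigenspace_def, ← finrank_ker_bc K (T - μ • (1 : Module.End F M)), h]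

theorem ev_bc_one (T : Module.End F M) : ev (T.baseChange K : Module.End K (K ⊗[F] M)) 1 = ev T 1 := by
  have h := ev_bc K T 1
  rwa [map_one] at h

theorem qd_bc (T : Module.End F M) (t : F) :
    finrank K ↥(LinearMap.ker (Five.qd (algebraMap F K t) (T.baseChange K : Module.End K (K ⊗[F] M)))) =
      finrank F ↥(LinearMap.ker (Five.qd t T)) := by
  have h : (Five.qd t T).baseChange K = Five.qd (algebraMap F K t) (T.baseChange K : Module.End K (K ⊗[F] M)) := by
    rw [Five.qd, Five.qd, LinearMap.baseChange_add, LinearMap.baseChange_sub, LinearMap.baseChange_smul,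
      LinearMap.baseChange_one F M, LinearMap.baseChange_mul, algebraMap_smul]
  rw [← finrank_ker_bc K (Five.qd t T), h]

end lin

section rep

variable {F : Type u} [Field F] (K : Type w) [Field K] [Algebra F K] {G : Type*} [Group G]
variable {M : Type v} [AddCommGroup M] [Module F M]

/-- base change of a representation -/
noncomputable def bcRep (ρ : Representation F G M) : Representation K G (K ⊗[F] M) where
  toFun g := (ρ g).baseChange K
  map_one' := by
    rw [map_one]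
    exact LinearMap.baseChange_one F M
  map_mul' g h := by
    rw [map_mul]
    exact LinearMap.baseChange_mul (ρ g) (ρ h)

theorem bcRep_apply (ρ : Representation F G M) (g : G) : bcRep K ρ g = (ρ g).baseChange K := rfl

theorem bcRep_tmul (ρ : Representation F G M) (g : G) (a : K) (x : M) : bcRep K ρ g (a ⊗ₜ x) = a ⊗ₜ ρ g x := rfl

theorem finrank_inv_bc [Finite G] (ρ : Representation F G M) :
    finrank K ↥(bcRep K ρ).invariants = finrank F ↥ρ.invariants := by
  have h1 : ρ.invariants = ⨅ g, LinearMap.ker (ρ g - 1) := by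
    ext x
    rw [Submodule.mem_iInf, Representation.mem_invariants]
    refine forall_congr' fun g => ?_
    rw [LinearMap.mem_ker, LinearMap.sub_apply, sub_eq_zero]
    rfl
  have h2 : (bcRep K ρ).invariants = ⨅ g, LinearMap.ker ((ρ g - 1).baseChange K) := by
    ext x
    rw [Submodule.mem_iInf, Representation.mem_invariants]
    refine forall_congr' fun g => ?_
    rw [LinearMap.mem_ker, LinearMap.baseChange_sub, LinearMap.sub_apply, sub_eq_zero, LinearMap.baseChange_one F M]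
    rfl
  rw [h1, h2, finrank_iInf_ker_bc]

end rep

/-- **descent of the multiplicities** -/
theorem Mu.of_bc {F : Type u} [Field F] {K : Type w} [Field K] [Algebra F K] {M : Type v} [AddCommGroup M] [Module F M]
    {ρ : Representation F ↥(alternatingGroup (Fin 6)) M} {τ : F} {a : ↥(alternatingGroup (Fin 6))}
    {n na nb m l : ℕ} (h : Mu (bcRep K ρ) (algebraMap F K τ) a n na nb m l) : Mu ρ τ a n na nb m l where
  dim := by
    have h1 := h.dim
    rwa [Module.finrank_baseChange] at h1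
  two x hx := by
    have h1 := h.two x hx
    rwa [bcRep_apply, ev_bc_one] at h1
  four x hx := by
    have h1 := h.four x hx
    rwa [bcRep_apply, ev_bc_one] at h1
  five x hx := by
    have h1 := h.five x hx
    rwa [bcRep_apply, ev_bc_one] at h1
  qu := by
    have h1 := h.qu
    rwa [bcRep_apply, qd_bc] at h1
  qv := by
    have h1 := h.qv
    have h2 : -1 - algebraMap F K τ = algebraMap F K (-1 - τ) := by
      rw [map_sub, map_neg, map_one]
    rwa [h2, bcRep_apply, qd_bc] at h1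
  press := by
    have h1 := h.press
    rwa [finrank_inv_bc] at h1

end Cfsg.Agent.R2.T1.N6L
end

-- part: R2/T1/N6L/Bc2
section
/-!
# S5929, n = 6, p = 3: descent of the irreducible modules of `SL(2, q)` (helper14)

* `Dm_bc`, `SS_bc` : the operators on the base change;
* `isV_bc` : the base change of `V_b` is `V_b`;
* `exists_sub_isV` : a nonzero module over a field containing `F_q` has a submodule `V_b`.
-/

set_option autoImplicit false
set_option linter.unusedSectionVars false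

namespace Cfsg.Agent.R2.T1.N6L

open Matrix Module TensorProduct Cfsg.Agent.H943.SL2Rel Cfsg.Agent.H943.SL2Mod Cfsg.Agent.H943.RepAdd
open Cfsg.Agent.R2.H28.SL2

universe u v w x

variable {k : Type u} [Field k] {R : Type w} [Field R] [Fintype R] [DecidableEq R] (ι : R →+* k)
variable (K : Type x) [Field K] [Algebra k K]
variable {V : Type v} [AddCommGroup V] [Module k V] (σ : Representation k (SpecialLinearGroup (Fin 2) R) V)

theorem Dm_bc (m : ℕ) : Dm ((algebraMap k K).comp ι) (bcRep K σ) m = (Dm ι σ m).baseChange K := by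
  refine LinearMap.ext fun y => ?_
  induction y using TensorProduct.induction_on with
  | zero => rw [map_zero, map_zero]
  | add y z hy hz => rw [map_add, map_add, hy, hz]
  | tmul a y =>
    rw [Dm_apply, LinearMap.baseChange_tmul, Dm_apply, TensorProduct.tmul_neg, TensorProduct.tmul_sum]
    congr 1
    refine Finset.sum_congr rfl fun t _ => ?_
    rw [bcRep_tmul, TensorProduct.tmul_smul, RingHom.comp_apply, ← map_pow, algebraMap_smul]

theorem SS_bc : SS (bcRep K σ) = (SS σ).baseChange K := by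
  refine LinearMap.ext fun y => ?_
  induction y using TensorProduct.induction_on with
  | zero => rw [map_zero, map_zero]
  | add y z hy hz => rw [map_add, map_add, hy, hz]
  | tmul a y =>
    rw [SS_apply, LinearMap.baseChange_tmul, SS_apply, TensorProduct.tmul_sum]
    refine Finset.sum_congr rfl fun t _ => ?_
    rw [bcRep_tmul, bcRep_tmul]

theorem cb_map (b : ℕ) : algebraMap k K (cb k R b) = cb K R b := by
  unfold cb
  split_ifs
  · exact map_zero _
  · rw [map_neg, map_one]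

theorem Bf_eq (p : ℕ) [Fact p.Prime] [DecidableEq k] [DecidableEq K] [CharP k p] [CharP K p] (b : ℕ) : Bf K b = Bf k b := by
  unfold Bf
  refine Finset.filter_congr fun m _ => ?_
  rw [Ne, Ne, CharP.cast_eq_zero_iff K p, CharP.cast_eq_zero_iff k p]

variable [DecidableEq k] [DecidableEq K] (p : ℕ) [Fact p.Prime] [CharP k p] [CharP R p] [CharP K p]

/-- **the base change of `V_b`** -/
theorem isV_bc {a : ℕ} (hF : Fintype.card R = p ^ a) {b : ℕ} (h : IsV ι p σ b) :
    IsV ((algebraMap k K).comp ι) p (bcRep K σ) b := by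
  have hfin := h.finite
  have hb : b ≤ Fintype.card R - 1 := h.choose
  obtain ⟨m, hm0, hmu, hmh, hmS, hmD, hfr, hmuniq⟩ := h.hw2
  -- the model over `K`
  have h1 : IsV ((algebraMap k K).comp ι) p (RB ((algebraMap k K).comp ι) p hb) b :=
    ⟨hb, LinearEquiv.refl K _, fun g y => rfl⟩
  obtain ⟨m', hm'0, hm'u, -, -, -, hfr', -⟩ := h1.hw2
  have hirr := h1.irr
  have hfin1 := h1.finite
  obtain ⟨f, hf, hfm⟩ := gen_hw ((algebraMap k K).comp ι) p (bcRep K σ) hF h1 hm'0 hm'u (x := (1 : K) ⊗ₜ[k] m)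
    (fun t => by rw [bcRep_tmul, hmu])
    (fun t => by
      rw [bcRep_tmul, hmh, TensorProduct.tmul_smul, RingHom.comp_apply, ← map_pow (algebraMap k K), algebraMap_smul])
    (by
      rw [SS_bc, LinearMap.baseChange_tmul, hmS, TensorProduct.tmul_smul, ← cb_map (k := k) (R := R) K b,
        algebraMap_smul])
    (fun i hi hlt => by
      have hp : p.Prime := Fact.out
      rw [Dm_bc, bcRep_tmul, LinearMap.baseChange_tmul, hmD (en p b i) (en_pos hp.pos)
        (by rw [hF]; exact en_le hp.pos hi hlt) (dvd_choose_en hp hlt), TensorProduct.tmul_zero])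
  have hm10 : (1 : K) ⊗ₜ[k] m ≠ 0 := fun h0 => hm0 (by
    have h3 := Module.Flat.tensorProduct_mk_injective k V K
    exact h3 (by rw [map_zero]; exact h0))
  have hf0 : f ≠ 0 := by
    rintro rfl
    rw [LinearMap.zero_apply] at hfm
    exact hm10 hfm.symm
  have hker : LinearMap.ker f = ⊥ := by
    rcases hirr.2 (LinearMap.ker f) (fun g y hy => by
      rw [LinearMap.mem_ker] at hy ⊢
      rw [hf, hy, map_zero]) with h3 | h3
    · exact h3
    · exact absurd (LinearMap.ker_eq_top.1 h3) hf0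
  have hinj := LinearMap.ker_eq_bot.1 hker
  have hdim : finrank K (Vb ((algebraMap k K).comp ι) b) = finrank K (K ⊗[k] V) := by
    rw [hfr', Module.finrank_baseChange, hfr, Bf_eq (k := k) K p]
  exact IsV.iso _ p (LinearEquiv.ofBijective f ⟨hinj, (LinearMap.injective_iff_surjective_of_finrank_eq_finrank hdim).1 hinj⟩)
    (fun g y => hf g y) h1

omit [DecidableEq K] [CharP K p] [Algebra k K] [Field K] in
/-- **a submodule `V_b`** -/
theorem exists_sub_isV {a : ℕ} (hF : Fintype.card R = p ^ a) [FiniteDimensional k V] [Nontrivial V] :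
    ∃ (b : ℕ) (S : Submodule k V) (hS : ∀ g, ∀ y ∈ S, σ g y ∈ S), S ≠ ⊥ ∧ IsV ι p (subRep σ S hS) b := by
  classical
  let K := AlgebraicClosure k
  have hK : CharP K p := charP_of_injective_algebraMap (algebraMap k K).injective p
  have hnt : Nontrivial (K ⊗[k] V) := inferInstance
  obtain ⟨b, X, hX, hb⟩ := exists_inSoc ((algebraMap k K).comp ι) p (bcRep K σ)
  have hbq : b ≤ Fintype.card R - 1 := hb.choose
  obtain ⟨m, hm0, hmu, hmh, hmS, hmD, -, -⟩ := hb.hw2
  have hp : p.Prime := Fact.out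
  -- the linear conditions
  let f : R ⊕ (Rˣ ⊕ (Unit ⊕ {i : Fin a // b / p ^ i.1 % p + 1 < p})) → V →ₗ[k] V :=
    Sum.elim (fun t => σ (u t) - 1) (Sum.elim (fun s => σ (h s) - ι s ^ b • (1 : Module.End k V))
      (Sum.elim (fun _ => SS σ - cb k R b • (1 : Module.End k V)) (fun i => Dm ι σ (en p b i.1) ∘ₗ σ w)))
  have hne : (⨅ j, LinearMap.ker ((f j).baseChange K)) ≠ ⊥ := by
    intro h0
    apply hm0
    have h1 : (m : K ⊗[k] V) ∈ ⨅ j, LinearMap.ker ((f j).baseChange K) := by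
      rw [Submodule.mem_iInf]
      intro j
      rw [LinearMap.mem_ker]
      rcases j with t | s | _ | i
      · show (LinearMap.baseChange K (σ (u t) - 1)) (m : K ⊗[k] V) = 0
        rw [LinearMap.baseChange_sub, LinearMap.baseChange_one k V, LinearMap.sub_apply, sub_eq_zero]
        exact congrArg Subtype.val (hmu t)
      · show (LinearMap.baseChange K (σ (h s) - ι s ^ b • (1 : Module.End k V))) (m : K ⊗[k] V) = 0
        rw [LinearMap.baseChange_sub, LinearMap.baseChange_smul, LinearMap.baseChange_one k V, LinearMap.sub_apply,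
          sub_eq_zero, LinearMap.smul_apply, Module.End.one_apply]
        have h2 := congrArg Subtype.val (hmh s)
        rw [RingHom.comp_apply, ← map_pow (algebraMap k K)] at h2
        exact h2.trans (algebraMap_smul K _ _)
      · show (LinearMap.baseChange K (SS σ - cb k R b • (1 : Module.End k V))) (m : K ⊗[k] V) = 0
        rw [LinearMap.baseChange_sub, LinearMap.baseChange_smul, LinearMap.baseChange_one k V, LinearMap.sub_apply,
          sub_eq_zero, LinearMap.smul_apply, Module.End.one_apply, ← SS_bc]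
        have h2 := congrArg Subtype.val hmS
        rw [SS_apply] at h2
        rw [SS_apply]
        push_cast at h2
        rw [← cb_map (k := k) (R := R) K b] at h2
        exact h2.trans (algebraMap_smul K _ _)
      · show (LinearMap.baseChange K (Dm ι σ (en p b i.1) ∘ₗ σ w)) (m : K ⊗[k] V) = 0
        rw [LinearMap.baseChange_comp, ← Dm_bc, LinearMap.comp_apply]
        have h2 := congrArg Subtype.val (hmD (en p b i.1) (en_pos hp.pos)
          (by rw [hF]; exact en_le hp.pos i.1.2 i.2) (dvd_choose_en hp i.2))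
        rw [Dm_apply] at h2
        rw [Dm_apply]
        push_cast at h2
        exact h2
    rw [h0, Submodule.mem_bot] at h1
    exact Subtype.ext h1
  have hne' := iInf_ne_bot_of_bc hne
  obtain ⟨y, hy, hy0⟩ := Submodule.exists_mem_ne_zero_of_ne_bot hne'
  rw [Submodule.mem_iInf] at hy
  -- the model
  have h1 : IsV ι p (RB ι p hbq) b := ⟨hbq, LinearEquiv.refl k _, fun g y => rfl⟩
  obtain ⟨m', hm'0, hm'u, -⟩ := h1.hw2
  have hirr := h1.irr
  obtain ⟨φ, hφ, hφm⟩ := gen_hw ι p σ hF h1 hm'0 hm'u (x := y)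
    (fun t => by
      have h2 : (σ (u t) - 1) y = 0 := hy (Sum.inl t)
      rw [LinearMap.sub_apply, sub_eq_zero] at h2
      exact h2)
    (fun s => by
      have h2 : (σ (h s) - ι s ^ b • (1 : Module.End k V)) y = 0 := hy (Sum.inr (Sum.inl s))
      rw [LinearMap.sub_apply, sub_eq_zero] at h2
      exact h2)
    (by
      have h2 : (SS σ - cb k R b • (1 : Module.End k V)) y = 0 := hy (Sum.inr (Sum.inr (Sum.inl ())))
      rw [LinearMap.sub_apply, sub_eq_zero] at h2
      exact h2)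
    (fun i hi hlt => hy (Sum.inr (Sum.inr (Sum.inr ⟨⟨i, hi⟩, hlt⟩))))
  have hφ0 : φ ≠ 0 := by
    rintro rfl
    exact hy0 hφm.symm
  have hker : LinearMap.ker φ = ⊥ := by
    rcases hirr.2 (LinearMap.ker φ) (fun g z hz => by
      rw [LinearMap.mem_ker] at hz ⊢
      rw [hφ, hz, map_zero]) with h3 | h3
    · exact h3
    · exact absurd (LinearMap.ker_eq_top.1 h3) hφ0
  have hinj := LinearMap.ker_eq_bot.1 hker
  have hS : ∀ g, ∀ z ∈ LinearMap.range φ, σ g z ∈ LinearMap.range φ := by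
    rintro g _ ⟨z, rfl⟩
    exact ⟨_, hφ g z⟩
  refine ⟨b, LinearMap.range φ, hS, fun h0 => hφ0 (LinearMap.range_eq_bot.1 h0), ?_⟩
  exact IsV.iso ι p (LinearEquiv.ofInjective φ hinj) (fun g z => Subtype.ext (hφ g z)) h1

end Cfsg.Agent.R2.T1.N6L
end

private theorem dce_c68c077b3e7c : _root_.True := by
  try have : _root_.True := by simp only [_root_.Cfsg.Agent.H943.RepAdd.subRep.congr_simp]
  exact _root_.True.intro
end

-- part: R2/T1/N6L/Bc3
section
prune_inst 0x300000000000000000000000000000000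
set_option linter.all false
open scoped Cfsg.Agent.FastGrp

/-!
# S5929, n = 6, p = 3: the multiplicities over a finite field (helper14)

* `exists_mu` : the multiplicities of the composition factors of a representation of `A₆` over a finite field of
  characteristic 3 containing `F_9`;
* `exists_simple` : a simple submodule.
-/

set_option autoImplicit false
set_option linter.unusedSectionVars false

namespace Cfsg.Agent.R2.T1.N6L

open Matrix Module TensorProduct Cfsg.Agent.H943.SL2Rel Cfsg.Agent.H943.SL2Mod Cfsg.Agent.H943.RepAdd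
open Cfsg.Agent.R2.H28.SL2
open Cfsg.Agent.H179.SLC (IsSS fx mem_fx)
open Cfsg.Agent.H952.F4 (ev es)
open Cfsg.Agent.R2.T1

universe u v w

section
variable {F : Type u} [Field F]

theorem charP_three (h3 : (3 : F) = 0) : CharP F 3 := by
  have : Fact (Nat.Prime 3) := ⟨by norm_num⟩
  obtain ⟨p, hp⟩ := CharP.exists F
  have h1 : p ∣ 3 := (CharP.cast_eq_zero_iff F p 3).1 (by exact_mod_cast h3)
  rcases (Nat.dvd_prime (by norm_num)).1 h1 with h2 | h2
  · subst h2
    exact absurd ((CharP.cast_eq_zero_iff F 1 1).2 (one_dvd _)) (by rw [Nat.cast_one]; exact one_ne_zero)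
  · subst h2
    exact hp

/-- **the multiplicities** -/
theorem exists_mu (h3 : (3 : F) = 0) {τ : F} (hτ : τ * τ + τ - 1 = 0) {a : ↥(alternatingGroup (Fin 6))} (ha : orderOf a = 5)
    {M : Type v} [AddCommGroup M] [Module F M] [FiniteDimensional F M]
    (ρ : Representation F ↥(alternatingGroup (Fin 6)) M) : ∃ n na nb m l, Mu ρ τ a n na nb m l := by
  have hF3 := charP_three h3
  have hK : CharP (AlgebraicClosure F) 3 :=
    charP_of_injective_algebraMap (algebraMap F (AlgebraicClosure F)).injective 3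
  obtain ⟨n, na, nb, m, l, h⟩ := exists_muK (K := AlgebraicClosure F) (τ := algebraMap F (AlgebraicClosure F) τ)
    (by rw [← map_mul, ← map_add, ← map_one (algebraMap F (AlgebraicClosure F)), ← map_sub, hτ, map_zero]) ha
    (bcRep (AlgebraicClosure F) ρ)
  exact ⟨n, na, nb, m, l, h.of_bc⟩

/-- powers of `τ` -/
theorem tau_pow (h3 : (3 : F) = 0) {τ : F} (hτ : τ * τ + τ - 1 = 0) (n : ℕ) :
    (n % 2 = 0 → τ ^ 3 ^ n = τ) ∧ (n % 2 = 1 → τ ^ 3 ^ n = -1 - τ) := by
  have key : ∀ t : F, t * t + t - 1 = 0 → t ^ 3 = -1 - t := by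
    intro t ht
    linear_combination (t - 1) * ht + t * h3
  have hτ' : (-1 - τ) * (-1 - τ) + (-1 - τ) - 1 = 0 := by
    linear_combination hτ
  induction n with
  | zero => exact ⟨fun _ => by rw [pow_zero, pow_one], fun h => by omega⟩
  | succ n ih =>
    rw [pow_succ, pow_mul]
    refine ⟨fun h => ?_, fun h => ?_⟩
    · rw [ih.2 (by omega), key _ hτ']
      ring
    · rw [ih.1 (by omega), key _ hτ]

/-- the field contains `F_9` -/
theorem exists_iota_F [Finite F] (h3 : (3 : F) = 0) {τ : F} (hτ : τ * τ + τ - 1 = 0) : Nonempty (F9 →+* F) := by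
  have hF3 := charP_three h3
  have hK : CharP (AlgebraicClosure F) 3 :=
    charP_of_injective_algebraMap (algebraMap F (AlgebraicClosure F)).injective 3
  obtain ⟨ι⟩ := exists_iota (AlgebraicClosure F)
  -- the cardinality
  have hFt := Fintype.ofFinite F
  obtain ⟨n, -, hn⟩ := FiniteField.card F 3
  have hn2 : (n : ℕ) % 2 = 0 := by
    by_contra h
    have h1 := (tau_pow h3 hτ (n : ℕ)).2 (by omega)
    rw [← hn, FiniteField.pow_card] at h1
    have h4 : τ = 1 := by linear_combination (2 : F) * h1 - (τ + 1) * h3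
    rw [h4] at hτ
    exact one_ne_zero (α := F) (by linear_combination hτ)
  have hpow : ∀ y : F9, y ^ Nat.card F = y := by
    intro y
    obtain ⟨m, hm⟩ := Nat.dvd_of_mod_eq_zero hn2
    rw [Nat.card_eq_fintype_card, hn, hm, pow_mul, show (3 : ℕ) ^ 2 = Fintype.card F9 from card_F9'.symm]
    exact FiniteField.pow_card_pow m y
  have hex : ∀ y : F9, ∃ x : F, algebraMap F (AlgebraicClosure F) x = ι y := by
    intro y
    exact exists_of_pow_eq (algebraMap F (AlgebraicClosure F)) (by rw [← map_pow, hpow])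
  choose g hg using hex
  have hinj := (algebraMap F (AlgebraicClosure F)).injective
  exact ⟨{ toFun := g
           map_one' := hinj (by rw [hg, map_one, map_one])
           map_zero' := hinj (by rw [hg, map_zero, map_zero])
           map_mul' := fun x y => hinj (by rw [hg, map_mul, map_mul, hg, hg])
           map_add' := fun x y => hinj (by rw [hg, map_add, map_add, hg, hg]) }⟩

/-- **simple submodules** -/
theorem exists_simple [Finite F] (h3 : (3 : F) = 0) {τ : F} (hτ : τ * τ + τ - 1 = 0) {a : ↥(alternatingGroup (Fin 6))}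
    (ha : orderOf a = 5) {M : Type v} [AddCommGroup M] [Module F M] [FiniteDimensional F M] [Nontrivial M]
    (ρ : Representation F ↥(alternatingGroup (Fin 6)) M) :
    ∃ (W : Submodule F M) (hW : ∀ g, ∀ x ∈ W, ρ g x ∈ W), W ≠ ⊥ ∧
      (Mu (subRep ρ W hW) τ a 1 0 0 0 0 ∨ Mu (subRep ρ W hW) τ a 0 1 0 0 0 ∨ Mu (subRep ρ W hW) τ a 0 0 1 0 0 ∨
        Mu (subRep ρ W hW) τ a 0 0 0 1 0 ∨ Mu (subRep ρ W hW) τ a 0 0 0 0 1) := by
  classical
  have hF3 := charP_three h3
  have hK : CharP (AlgebraicClosure F) 3 :=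
    charP_of_injective_algebraMap (algebraMap F (AlgebraicClosure F)).injective 3
  obtain ⟨ι⟩ := exists_iota_F h3 hτ
  obtain ⟨π, hs, hk⟩ := exists_pi card_F9
  obtain ⟨b, W, hW, hW0, hb⟩ := exists_sub_isV ι (MonoidHom.comp ρ π : Representation F _ M) 3 card_F9'
  have hW' : ∀ g, ∀ x ∈ W, ρ g x ∈ W := by
    intro g x hx
    obtain ⟨y, rfl⟩ := hs g
    exact hW y x hx
  refine ⟨W, hW', hW0, ?_⟩
  have hbK := isV_bc ι (AlgebraicClosure F) (subRep (MonoidHom.comp ρ π : Representation F _ M) W hW) 3 card_F9' hb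
  have hbK' : IsV ((algebraMap F (AlgebraicClosure F)).comp ι) 3
      (MonoidHom.comp (bcRep (AlgebraicClosure F) (subRep ρ W hW')) π : Representation (AlgebraicClosure F) _ _) b := hbK
  obtain ⟨hb', φ, hφ⟩ := hbK'
  have hmult := isMult_rb ((algebraMap F (AlgebraicClosure F)).comp ι) 3 card_F9' hb'
    (MonoidHom.comp (bcRep (AlgebraicClosure F) (subRep ρ W hW')) π : Representation (AlgebraicClosure F) _ _) φ hφ
  obtain ⟨g, ζ, hg, hss, hζ⟩ := lift5 ((algebraMap F (AlgebraicClosure F)).comp ι) card_F9 hs hk ha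
  obtain ⟨m1, m2⟩ := mu_of _ (bcRep (AlgebraicClosure F) (subRep ρ W hW')) card_F9 hs hk hmult hss hζ
  rw [hg] at m1 m2
  have hτK : algebraMap F (AlgebraicClosure F) τ * algebraMap F (AlgebraicClosure F) τ +
      algebraMap F (AlgebraicClosure F) τ - 1 = 0 := by
    rw [← map_mul, ← map_add, ← map_one (algebraMap F (AlgebraicClosure F)), ← map_sub, hτ, map_zero]
  have hpar : b % 2 = 0 := by
    by_contra h
    have h1 := odd_zero ((algebraMap F (AlgebraicClosure F)).comp ι) (bcRep (AlgebraicClosure F) (subRep ρ W hW')) hk hmult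
      (b := b) (by omega)
    rw [Pi.single_eq_same] at h1
    exact one_ne_zero h1
  rw [card_F9] at hb'
  have hcases : b = 0 ∨ b = 2 ∨ b = 4 ∨ b = 6 ∨ b = 8 := by omega
  have key : Mu (bcRep (AlgebraicClosure F) (subRep ρ W hW')) (algebraMap F (AlgebraicClosure F) τ) a
      ((Pi.single b 1 : ℕ → ℕ) 0) ((Pi.single b 1 : ℕ → ℕ) 2) ((Pi.single b 1 : ℕ → ℕ) 6) ((Pi.single b 1 : ℕ → ℕ) 4)
      ((Pi.single b 1 : ℕ → ℕ) 8) ∨
      Mu (bcRep (AlgebraicClosure F) (subRep ρ W hW')) (algebraMap F (AlgebraicClosure F) τ) a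
      ((Pi.single b 1 : ℕ → ℕ) 0) ((Pi.single b 1 : ℕ → ℕ) 6) ((Pi.single b 1 : ℕ → ℕ) 2) ((Pi.single b 1 : ℕ → ℕ) 4)
      ((Pi.single b 1 : ℕ → ℕ) 8) := by
    rcases tau_cases hζ hτK with h | h
    · right
      rw [h]
      exact m2
    · left
      rw [h]
      exact m1
  rcases key with h | h
  · have h' := h.of_bc
    rcases hcases with rfl | rfl | rfl | rfl | rfl
    · exact Or.inl h'
    · exact Or.inr (Or.inl h')
    · exact Or.inr (Or.inr (Or.inr (Or.inl h')))
    · exact Or.inr (Or.inr (Or.inl h'))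
    · exact Or.inr (Or.inr (Or.inr (Or.inr h')))
  · have h' := h.of_bc
    rcases hcases with rfl | rfl | rfl | rfl | rfl
    · exact Or.inl h'
    · exact Or.inr (Or.inr (Or.inl h'))
    · exact Or.inr (Or.inr (Or.inr (Or.inl h')))
    · exact Or.inr (Or.inl h')
    · exact Or.inr (Or.inr (Or.inr (Or.inr h')))

end

end Cfsg.Agent.R2.T1.N6L
end

-- part: R2/T1/N6L/C3
section
prune_inst 0x153065047122020000008510322020201800042000030800a08009020909a002808206001e3001029286908160080048115c0110420000000a000400001f000000835604a258a90c660098800880000000000000300000000000000000000000000000000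
set_option linter.all false
open scoped Cfsg.Agent.FastGrp

/-!
# S5929, n = 6, p = 3: C3 over a finite field (helper11)

* `aw_of_bc` : descent of highest weight vectors;
* `exists_goodF` : a good embedding of the field of order 9 into `F`;
* `no_q1` : the pattern `1² 3a⁴ 3b⁶ 4⁶` does not occur.
-/

set_option autoImplicit false
set_option linter.unusedSectionVars false

namespace Cfsg.Agent.R2.T1.N6L

open Cfsg Cfsg.Lie Module TensorProduct
open Matrix Cfsg.Agent.H943.SL2Rel Cfsg.Agent.H943.SL2Mod Cfsg.Agent.H943.RepAdd Cfsg.Agent.R2.H28.SL2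
open Cfsg.Agent.H179.SLC (IsSS fx mem_fx)
open Cfsg.Agent.H943.E7V.Block (D1 rho)
open Cfsg.Agent.H952.F4 (ev es MaxAlt)
open Cfsg.Agent.R2.T1

universe u v w x

section des
variable {k : Type u} [Field k] {R : Type w} [Field R] [Fintype R] [DecidableEq R] (ι : R →+* k)
variable {K : Type x} [Field K] [Algebra k K]
variable {V : Type v} [AddCommGroup V] [Module k V] (σ : Representation k (SpecialLinearGroup (Fin 2) R) V)

/-- **descent of highest weight vectors** -/
theorem aw_of_bc [FiniteDimensional k V] {c e : ℕ} {z : K ⊗[k] V}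
    (hz : z ∈ Aw ((algebraMap k K).comp ι) (bcRep K σ) c e) (hz0 : z ≠ 0) : ∃ y ∈ Aw ι σ c e, y ≠ 0 := by
  classical
  let f : R ⊕ (Rˣ ⊕ Unit) → V →ₗ[k] V :=
    Sum.elim (fun t => σ (u t) - 1) (Sum.elim (fun s => σ (h s) - ι s ^ c • (1 : Module.End k V))
      (fun _ => Dm ι σ e ∘ₗ σ w))
  have hne : (⨅ j, LinearMap.ker ((f j).baseChange K)) ≠ ⊥ := by
    intro h0
    apply hz0
    have h1 : z ∈ ⨅ j, LinearMap.ker ((f j).baseChange K) := by
      rw [Submodule.mem_iInf]
      intro j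
      rw [LinearMap.mem_ker]
      rcases j with t | s | _
      · show (LinearMap.baseChange K (σ (u t) - 1)) z = 0
        rw [LinearMap.baseChange_sub, LinearMap.baseChange_one k V, LinearMap.sub_apply, sub_eq_zero]
        exact hz.1.1 t
      · show (LinearMap.baseChange K (σ (h s) - ι s ^ c • (1 : Module.End k V))) z = 0
        rw [LinearMap.baseChange_sub, LinearMap.baseChange_smul, LinearMap.baseChange_one k V, LinearMap.sub_apply,
          sub_eq_zero, LinearMap.smul_apply, Module.End.one_apply]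
        have h2 := hz.1.2 s
        rw [RingHom.comp_apply, ← map_pow (algebraMap k K)] at h2
        exact h2.trans (algebraMap_smul K _ _)
      · show (LinearMap.baseChange K (Dm ι σ e ∘ₗ σ w)) z = 0
        rw [LinearMap.baseChange_comp, ← Dm_bc, LinearMap.comp_apply]
        exact hz.2
    rw [h0, Submodule.mem_bot] at h1
    exact h1
  obtain ⟨y, hy, hy0⟩ := Submodule.exists_mem_ne_zero_of_ne_bot (iInf_ne_bot_of_bc hne)
  rw [Submodule.mem_iInf] at hy
  refine ⟨y, ⟨⟨fun t => ?_, fun s => ?_⟩, ?_⟩, hy0⟩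
  · have h2 : (σ (u t) - 1) y = 0 := hy (Sum.inl t)
    rw [LinearMap.sub_apply, sub_eq_zero] at h2
    exact h2
  · have h2 : (σ (h s) - ι s ^ c • (1 : Module.End k V)) y = 0 := hy (Sum.inr (Sum.inl s))
    rw [LinearMap.sub_apply, sub_eq_zero] at h2
    exact h2
  · exact hy (Sum.inr (Sum.inr ()))

end des

section
variable {F : Type u} [Field F] (ψ : ↥(alternatingGroup (Fin 6)) →* Gh F)

/-- the module over the closure is the base change -/
theorem vk_bc (g : ↥(alternatingGroup (Fin 6))) (z : AlgebraicClosure F ⊗[F] (D1 → F)) :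
    TensorProduct.piScalarRight F (AlgebraicClosure F) (AlgebraicClosure F) D1
        (bcRep (AlgebraicClosure F) (MonoidHom.comp (V F) ψ : Representation F _ _) g z) =
      VK ψ g (TensorProduct.piScalarRight F (AlgebraicClosure F) (AlgebraicClosure F) D1 z) := by
  induction z using TensorProduct.induction_on with
  | zero => rw [map_zero, map_zero, map_zero]
  | add y z hy hz => rw [map_add, map_add, hy, hz, map_add, map_add]
  | tmul a x =>
    have key : ∀ y : D1 → F, TensorProduct.piScalarRight F (AlgebraicClosure F) (AlgebraicClosure F) D1 (a ⊗ₜ y) =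
        a • fun i => algebraMap F (AlgebraicClosure F) (y i) := by
      intro y
      rw [TensorProduct.piScalarRight_apply, TensorProduct.piScalarRightHom_tmul]
      funext i
      rw [Pi.smul_apply, Algebra.smul_def, smul_eq_mul, mul_comm]
    rw [bcRep_tmul, key, key, map_smul, VK_apply, V_emb]
    rfl

variable {π : SpecialLinearGroup (Fin 2) F9 →* ↥(alternatingGroup (Fin 6))}

/-- highest weight vectors over `F` -/
theorem aw_vk (ι : F9 →+* F) {c e : ℕ} {y : D1 → AlgebraicClosure F}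
    (hy : y ∈ Aw ((algebraMap F (AlgebraicClosure F)).comp ι)
      (MonoidHom.comp (VK ψ) π : Representation (AlgebraicClosure F) _ _) c e) (hy0 : y ≠ 0) :
    ∃ z ∈ Aw ι (MonoidHom.comp (MonoidHom.comp (V F) ψ : Representation F _ _) π : Representation F _ _) c e, z ≠ 0 := by
  refine aw_of_bc (K := AlgebraicClosure F) ι
    (MonoidHom.comp (MonoidHom.comp (V F) ψ : Representation F _ _) π : Representation F _ _)
    (z := (TensorProduct.piScalarRight F (AlgebraicClosure F) (AlgebraicClosure F) D1).symm y) ?_ ?_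
  · refine Aw_map _ _ _ (TensorProduct.piScalarRight F (AlgebraicClosure F) (AlgebraicClosure F) D1).symm.toLinearMap
      (fun g x => ?_) hy
    rw [LinearEquiv.coe_coe, LinearEquiv.symm_apply_eq]
    show VK ψ (π g) x = _
    conv_lhs => rw [← LinearEquiv.apply_symm_apply (TensorProduct.piScalarRight F (AlgebraicClosure F)
      (AlgebraicClosure F) D1) x]
    rw [← vk_bc]
    rfl
  · intro h0
    apply hy0
    rw [← LinearEquiv.apply_symm_apply (TensorProduct.piScalarRight F (AlgebraicClosure F)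
      (AlgebraicClosure F) D1) y, h0, map_zero]

/-- fixed vectors over `F` -/
theorem inv_vk : finrank (AlgebraicClosure F) ↥(Representation.invariants (VK ψ)) =
    finrank F ↥(Representation.invariants (MonoidHom.comp (V F) ψ : Representation F _ _)) := by
  rw [← finrank_inv_bc (AlgebraicClosure F) (MonoidHom.comp (V F) ψ : Representation F _ _)]
  refine (LinearEquiv.finrank_eq (LinearEquiv.ofSubmodules
    (TensorProduct.piScalarRight F (AlgebraicClosure F) (AlgebraicClosure F) D1)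
    (Representation.invariants (bcRep (AlgebraicClosure F) (MonoidHom.comp (V F) ψ : Representation F _ _)))
    (Representation.invariants (VK ψ)) ?_)).symm
  ext y
  rw [Submodule.mem_map, Representation.mem_invariants]
  constructor
  · rintro ⟨z, hz, rfl⟩ g
    rw [Representation.mem_invariants] at hz
    show VK ψ g (TensorProduct.piScalarRight F (AlgebraicClosure F) (AlgebraicClosure F) D1 z) = _
    rw [← vk_bc, hz g]
    rfl
  · intro hy
    refine ⟨(TensorProduct.piScalarRight F (AlgebraicClosure F) (AlgebraicClosure F) D1).symm y, ?_,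
      LinearEquiv.apply_symm_apply _ _⟩
    rw [Representation.mem_invariants]
    intro g
    apply (TensorProduct.piScalarRight F (AlgebraicClosure F) (AlgebraicClosure F) D1).injective
    rw [vk_bc, LinearEquiv.apply_symm_apply, hy g]

end

/-- a good embedding into `F` -/
theorem exists_goodF {F : Type u} [Field F] [Finite F] (h3 : (3 : F) = 0)
    {π : SpecialLinearGroup (Fin 2) F9 →* ↥(alternatingGroup (Fin 6))} (hs : Function.Surjective π)
    (hk : ∀ g, π g = 1 ↔ g = 1 ∨ g = -1) {τ : F} (hτ : τ * τ + τ - 1 = 0)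
    {a : ↥(alternatingGroup (Fin 6))} (ha : orderOf a = 5) :
    ∃ (ι : F9 →+* F) (g : SpecialLinearGroup (Fin 2) F9) (ζ : AlgebraicClosure F), π g = a ∧
      IsSS ((algebraMap F (AlgebraicClosure F)).comp ι) g ζ ∧ IsPrimitiveRoot ζ 5 ∧
      ζ ^ 2 + (ζ ^ 2)⁻¹ = algebraMap F (AlgebraicClosure F) τ := by
  have hF3 := charP_three h3
  have hK3 : CharP (AlgebraicClosure F) 3 :=
    charP_of_injective_algebraMap (algebraMap F (AlgebraicClosure F)).injective 3
  obtain ⟨ι⟩ := exists_iota_F h3 hτ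
  have hτK : algebraMap F (AlgebraicClosure F) τ * algebraMap F (AlgebraicClosure F) τ +
      algebraMap F (AlgebraicClosure F) τ - 1 = 0 := by
    rw [← map_mul, ← map_add, ← map_one (algebraMap F (AlgebraicClosure F)), ← map_sub, hτ, map_zero]
  obtain ⟨g, ζ, hg, hss, hζ⟩ := lift5 ((algebraMap F (AlgebraicClosure F)).comp ι) card_F9 hs hk ha
  rcases tau_cases hζ hτK with h | h
  · refine ⟨(frobenius F 3).comp ι, g, ζ ^ 3, hg, ?_, hζ.pow_of_coprime 3 (by norm_num), ?_⟩
    · have h1 := ss_frob _ hss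
      have h2 : (frobenius (AlgebraicClosure F) 3).comp ((algebraMap F (AlgebraicClosure F)).comp ι) =
          (algebraMap F (AlgebraicClosure F)).comp ((frobenius F 3).comp ι) := by
        refine RingHom.ext fun x => ?_
        simp only [RingHom.comp_apply, frobenius_def, map_pow]
      rw [h2] at h1
      exact h1
    · have hz5 := hζ.pow_eq_one
      have h6 : (ζ ^ 3) ^ 2 = ζ := by
        rw [← pow_mul, show 3 * 2 = 5 + 1 by norm_num, pow_succ, hz5, one_mul]
      rw [h6, h]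
  · exact ⟨ι, g, ζ, hg, hss, hζ, h.symm⟩

section
variable {F : Type u} [Field F] [Finite F] {H : Subgroup ↥(chevE7.group F)}
  {φ : ↥(alternatingGroup (Fin 6)) →* ↥(chevE7.group F)} {ψ : ↥(alternatingGroup (Fin 6)) →* Gh F}

/-- stable subspaces of dimension 3 -/
theorem three_of_aw (h3 : (3 : F) = 0) {π : SpecialLinearGroup (Fin 2) F9 →* ↥(alternatingGroup (Fin 6))}
    (hs : Function.Surjective π) (ι : F9 →+* F) {c e : ℕ} (hce : Ce c e)
    (hc3 : ((Finset.range (c + 1)).filter fun m => ¬ 3 ∣ c.choose m).card = 3)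
    {z : D1 → F} (hz : z ∈ Aw ι (MonoidHom.comp (MonoidHom.comp (V F) ψ : Representation F _ _) π :
      Representation F _ _) c e) (hz0 : z ≠ 0) :
    ∃ U : Submodule F (D1 → F), (∀ g, ∀ x ∈ U, V F (ψ g) x ∈ U) ∧ finrank F U = 3 := by
  classical
  have hF3 := charP_three h3
  obtain ⟨Z, hZ, hV, -⟩ := inSoc_of_Aw ι card_F9' _ hce hz hz0
  refine ⟨Z, fun g x hx => ?_, ?_⟩
  · obtain ⟨y, rfl⟩ := hs g
    exact hZ y x hx
  · obtain ⟨m, -, -, -, -, -, hmf, -⟩ := hV.hw2
    rw [hmf]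
    have hB : Bf F c = (Finset.range (c + 1)).filter fun m => ¬ 3 ∣ c.choose m := by
      unfold Bf
      refine Finset.filter_congr fun m _ => ?_
      rw [Ne, CharP.cast_eq_zero_iff F 3]
    rw [hB, hc3]

/-- **C3** : the pattern `1² 3a⁴ 3b⁶ 4⁶` does not occur -/
theorem no_q1 (h3 : (3 : F) = 0) (hM : MaxAlt H 6 φ) (hL : Lift φ ψ) {τ : F} {a b : ↥(alternatingGroup (Fin 6))}
    (hd : Dat ψ τ a b 24 12 12 10 12)
    (hno : ∀ U : Submodule F (D1 → F), (∀ g, ∀ x ∈ U, V F (ψ g) x ∈ U) → finrank F U = 3 → False) : False := by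
  classical
  have hF3 := charP_three h3
  have hK3 : CharP (AlgebraicClosure F) 3 :=
    charP_of_injective_algebraMap (algebraMap F (AlgebraicClosure F)).injective 3
  obtain ⟨π, hs, hk⟩ := exists_pi card_F9
  obtain ⟨ι, g, ζ, hg, hss, hζ, hζτ⟩ := exists_goodF h3 hs hk hd.hτ hd.oa
  have H := isMult_cf ((algebraMap F (AlgebraicClosure F)).comp ι) 3 card_F9'
    (MonoidHom.comp (VK ψ) π : Representation (AlgebraicClosure F) _ _)
  obtain ⟨n, hn⟩ : ∃ n : ℕ → ℕ, n = fun c =>
      (Cfsg.Agent.R2.H28.SL2.cf (Sy.{u, u, 0} ((algebraMap F (AlgebraicClosure F)).comp ι) 3)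
        (MonoidHom.comp (VK ψ) π : Representation (AlgebraicClosure F) _ _)).count c := ⟨_, rfl⟩
  rw [← hn] at H
  have hMu := (mu_of ((algebraMap F (AlgebraicClosure F)).comp ι) (VK ψ) card_F9 hs hk H hss hζ).1
  rw [hg, hζτ] at hMu
  have hbb : orderOf (b * b) = 2 := by
    rw [← pow_two, orderOf_pow, hd.ob]
    decide
  have h2 := hMu.two _ hbb
  have h4 := hMu.four b hd.ob
  have h5 := hMu.five a hd.oa
  have hqu := hMu.qu
  have hqv := hMu.qv
  have hdim := hMu.dim
  rw [VK_apply, ev_V_one] at h2 h4 h5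
  rw [hd.two] at h2
  rw [hd.four] at h4
  rw [hd.five] at h5
  rw [VK_apply, ker_qd_V, hd.qu] at hqu
  have hτ' : (-1 - algebraMap F (AlgebraicClosure F) τ) = algebraMap F (AlgebraicClosure F) (-1 - τ) := by
    rw [map_sub, map_neg, map_one]
  rw [VK_apply, hτ', ker_qd_V, hd.qv] at hqv
  have hd56 : finrank (AlgebraicClosure F) (D1 → AlgebraicClosure F) = 56 := by
    rw [Module.finrank_fintype_fun_eq_card]
    decide +kernel
  rw [hd56] at hdim
  have hnt : Nontrivial (D1 → AlgebraicClosure F) :=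
    Module.nontrivial_of_finrank_pos (R := AlgebraicClosure F) (by rw [hd56]; norm_num)
  refine no_self ((algebraMap F (AlgebraicClosure F)).comp ι) card_F9' (dulVK ψ (π := π)) (fun c hc => ?_) ?_ ?_ ?_ ?_
  · have h0 : n c ≠ 0 := by
      rw [hn]
      exact Multiset.count_ne_zero.2 hc
    have h9 := H.supp c h0
    have hodd : c % 2 = 0 := by
      by_contra hne
      exact h0 (odd_zero _ (VK ψ) hk H (b := c) (by omega))
    have h8 : c ≠ 8 := by
      rintro rfl
      omega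
    norm_num at h9
    omega
  · rintro ⟨X, hX, hq, θ, hθ⟩
    have hnt : Nontrivial X := (show IsV _ 3 (subRep _ X hX) 0 from ⟨hq, θ, hθ⟩).irr.1
    obtain ⟨x, hx⟩ := exists_ne (0 : X)
    apply hx
    apply Subtype.ext
    have hfix : ∀ g, VK ψ g (x : D1 → AlgebraicClosure F) = x := by
      intro g
      obtain ⟨y, rfl⟩ := hs g
      have h1 := hθ y (θ.symm x)
      rw [rb_zero _ 3 rfl, θ.apply_symm_apply] at h1
      exact (congrArg Subtype.val h1).symm
    have h6 : finrank (AlgebraicClosure F) ↥(Representation.invariants (VK ψ)) = 0 := by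
      rw [inv_vk, no_fixed hM (by norm_num) (by norm_num) hL, finrank_bot]
    have h7 := Submodule.finrank_eq_zero.1 h6
    have h8 : (x : D1 → AlgebraicClosure F) ∈ Representation.invariants (VK ψ) := by
      rw [Representation.mem_invariants]
      exact hfix
    rw [h7, Submodule.mem_bot] at h8
    exact h8
  · rintro ⟨X, hX, hb⟩
    obtain ⟨m, hm0, hm⟩ := hw_Aw _ card_F9' (subRep _ X hX) ce2 hb
    obtain ⟨z, hz, hz0⟩ := aw_vk ψ ι (Aw_map _ (subRep _ X hX) _ X.subtype (fun g x => rfl) hm)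
      (fun h0 => hm0 (Subtype.ext h0))
    obtain ⟨U, hU, hU3⟩ := three_of_aw h3 hs ι ce2 (by decide) hz hz0
    exact hno U hU hU3
  · intro x hx
    by_contra hx0
    obtain ⟨z, hz, hz0⟩ := aw_vk ψ ι hx hx0
    obtain ⟨U, hU, hU3⟩ := three_of_aw h3 hs ι ce6 (by decide) hz hz0
    exact hno U hU hU3
  · have h6 : n 4 ≤ n 6 := by omega
    rw [hn] at h6
    exact h6

end

end Cfsg.Agent.R2.T1.N6L
end

-- part: R2/T2/Orb/Three
section
prune_inst 0x140021044122020000000000000000400800000000000800000000000108800200020000081001020000000000000008101000000000000000000000000000000000040000000008420008000000000000000000300000000000000000000000000000000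
set_option linter.all false
open scoped Cfsg.Agent.FastGrp

-- part: R2/T2/Orb/Dih
section
/-!
# S5929, orbit box: dihedral groups of order 8 (helper2)

* `split_of`, `split2`, `fr_le` : dimensions;
* `dih` : the relations between the dimensions of the fixed spaces for `⟨g, t⟩`, `g ^ 4 = t ^ 2 = 1`, `t g t = g⁻¹`, when
  the fixed spaces of `g ^ 2`, `t`, `t g` have the same dimension.
-/

set_option autoImplicit false

namespace Cfsg.Agent.R2.T2.Orb

open Module

universe u v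

variable {F : Type u} [Field F] {E : Type v} [AddCommGroup E] [Module F E]

/-- eigenspaces -/
abbrev eg (f : Module.End F E) (c : F) : Submodule F E := f.eigenspace c

theorem mem_eg {f : Module.End F E} {c : F} {x : E} : x ∈ eg f c ↔ f x = c • x := Module.End.mem_eigenspace_iff

theorem mem_eg1 {f : Module.End F E} {x : E} : x ∈ eg f 1 ↔ f x = x := by rw [mem_eg, one_smul]

theorem mem_egn {f : Module.End F E} {x : E} : x ∈ eg f (-1) ↔ f x = -x := by rw [mem_eg, neg_smul, one_smul]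

variable [FiniteDimensional F E]

omit [FiniteDimensional F E] in
theorem fr_congr {A B : Submodule F E} (h : ∀ w, w ∈ A ↔ w ∈ B) : finrank F A = finrank F B := by
  rw [Submodule.ext h]

omit [FiniteDimensional F E] in
theorem cube_eg {g : Module.End F E} {w : E} {j : F} (h : g w = j • w) : g (g (g w)) = (j * j * j) • w := by
  rw [h, map_smul, h, map_smul, map_smul, h, smul_smul, smul_smul]

theorem split_of {W A B : Submodule F E} (hA : A ≤ W) (hB : B ≤ W) (h : ∀ w ∈ W, ∃ a ∈ A, ∃ b ∈ B, w = a + b)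
    (hd : ∀ x, x ∈ A → x ∈ B → x = 0) : finrank F W = finrank F A + finrank F B := by
  have h1 := Submodule.finrank_sup_add_finrank_inf_eq A B
  have h2 : A ⊓ B = ⊥ := by
    rw [eq_bot_iff]
    rintro x ⟨ha, hb⟩
    exact (Submodule.mem_bot F).2 (hd x ha hb)
  have h3 : A ⊔ B = W := by
    refine le_antisymm (sup_le hA hB) fun w hw => ?_
    obtain ⟨a, ha, b, hb, rfl⟩ := h w hw
    exact Submodule.add_mem_sup ha hb
  rw [h2, h3, finrank_bot, add_zero] at h1
  exact h1

theorem fr_le {A B : Submodule F E} {f : Module.End F E} (h : ∀ a ∈ A, f a ∈ B) (hi : ∀ a ∈ A, f a = 0 → a = 0) :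
    finrank F A ≤ finrank F B := by
  refine LinearMap.finrank_le_finrank_of_injective (f := f.restrict h) ?_
  rw [← LinearMap.ker_eq_bot, eq_bot_iff]
  intro x hx
  rw [LinearMap.mem_ker] at hx
  have h1 : f x = 0 := congrArg Subtype.val hx
  exact (Submodule.mem_bot F).2 (Subtype.ext (hi x x.2 h1))

theorem split2 (h2 : (2 : F) ≠ 0) {W : Submodule F E} {t : Module.End F E} (hW : ∀ w ∈ W, t w ∈ W)
    (ht : ∀ w ∈ W, t (t w) = w) : finrank F W = finrank F ↥(W ⊓ eg t 1) + finrank F ↥(W ⊓ eg t (-1)) := by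
  refine split_of inf_le_left inf_le_left ?_ ?_
  · intro w hw
    refine ⟨(2 : F)⁻¹ • (w + t w), ⟨W.smul_mem _ (W.add_mem hw (hW w hw)), ?_⟩, (2 : F)⁻¹ • (w - t w),
      ⟨W.smul_mem _ (W.sub_mem hw (hW w hw)), ?_⟩, ?_⟩
    · rw [SetLike.mem_coe, mem_eg1, map_smul, map_add, ht w hw, add_comm]
    · rw [SetLike.mem_coe, mem_egn, map_smul, map_sub, ht w hw, ← smul_neg, neg_sub]
    · rw [← smul_add, add_add_sub_cancel, ← two_smul F w, smul_smul, inv_mul_cancel₀ h2, one_smul]
  · rintro x ⟨-, h1⟩ ⟨-, h3⟩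
    rw [SetLike.mem_coe, mem_eg1] at h1
    rw [SetLike.mem_coe, mem_egn, h1] at h3
    have h4 : (2 : F) • x = 0 := by rw [two_smul]; nth_rewrite 1 [h3]; exact neg_add_cancel x
    exact (smul_eq_zero.1 h4).resolve_left h2

/-- the basic relation: `dim W^t = c₊ + e₊ + s` -/
theorem dih_aux (h2 : (2 : F) ≠ 0) {i : F} (hi : i * i = -1) {W : Submodule F E} {g t : Module.End F E}
    (hg : ∀ w ∈ W, g w ∈ W) (ht : ∀ w ∈ W, t w ∈ W) (hg4 : ∀ w ∈ W, g (g (g (g w))) = w) (ht2 : ∀ w ∈ W, t (t w) = w)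
    (htg : ∀ w ∈ W, t (g w) = g (g (g (t w)))) :
    finrank F ↥(W ⊓ eg t 1) = finrank F ↥(W ⊓ eg g 1 ⊓ eg t 1) + finrank F ↥(W ⊓ eg g (-1) ⊓ eg t 1) +
      finrank F ↥(W ⊓ eg g i) := by
  have htgg : ∀ w ∈ W, t (g (g w)) = g (g (t w)) := by
    intro w hw
    rw [htg _ (hg w hw), htg w hw, hg4 _ (hg _ (hg _ (ht w hw)))]
  -- `g t = t g³`
  have hgt : ∀ w ∈ W, g (t w) = t (g (g (g w))) := by
    intro w hw
    have h1 := htg (g (g w)) (hg _ (hg _ hw))
    rw [htgg w hw] at h1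
    rw [h1]
    rw [hg4 _ (hg _ (ht w hw))]
  have h3 : finrank F ↥(W ⊓ eg t 1) = finrank F ↥(W ⊓ eg t 1 ⊓ eg (g * g) 1) + finrank F ↥(W ⊓ eg t 1 ⊓ eg (g * g) (-1)) := by
    refine split2 h2 ?_ ?_
    · rintro w ⟨hw, hw1⟩
      rw [SetLike.mem_coe, mem_eg1] at hw1
      refine ⟨hg _ (hg _ hw), ?_⟩
      rw [SetLike.mem_coe, mem_eg1, Module.End.mul_apply, htgg w hw, hw1]
    · rintro w ⟨hw, -⟩
      exact hg4 w hw
  have h4 : finrank F ↥(W ⊓ eg t 1 ⊓ eg (g * g) 1) = finrank F ↥(W ⊓ eg g 1 ⊓ eg t 1) + finrank F ↥(W ⊓ eg g (-1) ⊓ eg t 1) := by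
    have h5 := split2 h2 (W := W ⊓ eg t 1 ⊓ eg (g * g) 1) (t := g) (by
      rintro w ⟨⟨hw, hw1⟩, hw2⟩
      rw [SetLike.mem_coe, mem_eg1] at hw1
      rw [SetLike.mem_coe, mem_eg1, Module.End.mul_apply] at hw2
      refine ⟨⟨hg w hw, ?_⟩, ?_⟩
      · rw [SetLike.mem_coe, mem_eg1, htg w hw, hw1, hw2]
      · rw [SetLike.mem_coe, mem_eg1, Module.End.mul_apply, hw2]) (by
      rintro w ⟨-, hw2⟩
      rw [SetLike.mem_coe, mem_eg1, Module.End.mul_apply] at hw2
      exact hw2)
    rw [h5]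
    congr 1
    · refine fr_congr fun w => ?_
      constructor
      · rintro ⟨⟨⟨a, b⟩, c⟩, d⟩
        exact ⟨⟨a, d⟩, b⟩
      · rintro ⟨⟨a, d⟩, b⟩
        refine ⟨⟨⟨a, b⟩, ?_⟩, d⟩
        rw [SetLike.mem_coe, mem_eg1] at d ⊢
        rw [Module.End.mul_apply, d, d]
    · refine fr_congr fun w => ?_
      constructor
      · rintro ⟨⟨⟨a, b⟩, c⟩, d⟩
        exact ⟨⟨a, d⟩, b⟩
      · rintro ⟨⟨a, d⟩, b⟩
        refine ⟨⟨⟨a, b⟩, ?_⟩, d⟩
        rw [SetLike.mem_coe, mem_egn] at d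
        rw [SetLike.mem_coe, mem_eg1, Module.End.mul_apply, d, map_neg, d, neg_neg]
  have hii : ∀ x : E, x ∈ W → g x = i • x → g x = (-i) • x → x = 0 := by
    intro x _ ha hb
    rw [ha] at hb
    have h6 : (2 * i) • x = 0 := by
      rw [two_mul, add_smul]
      nth_rewrite 1 [hb]
      rw [neg_smul, neg_add_cancel]
    have hi0 : i ≠ 0 := by
      rintro rfl
      rw [mul_zero] at hi
      exact one_ne_zero (neg_eq_zero.1 hi.symm)
    exact (smul_eq_zero.1 h6).resolve_left (mul_ne_zero h2 hi0)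
  have hcube : ∀ w ∈ W, g w = i • w → g (g (g w)) = (-i) • w := by
    intro w hw h
    rw [cube_eg h]
    congr 1
    rw [hi]; ring
  have h7 : finrank F ↥(W ⊓ eg t 1 ⊓ eg (g * g) (-1)) = finrank F ↥(W ⊓ eg g i) := by
    apply le_antisymm
    · refine fr_le (f := 1 - i • g) ?_ ?_
      · rintro w ⟨⟨hw, hw1⟩, hw2⟩
        rw [SetLike.mem_coe, mem_egn, Module.End.mul_apply] at hw2
        refine ⟨?_, ?_⟩
        · show w - i • g w ∈ W
          exact W.sub_mem hw (W.smul_mem _ (hg w hw))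
        · rw [SetLike.mem_coe, mem_eg]
          show g (w - i • g w) = i • (w - i • g w)
          rw [map_sub, map_smul, hw2, smul_sub, smul_smul, hi, neg_smul, one_smul, smul_neg]
          abel
      · rintro w ⟨⟨hw, hw1⟩, hw2⟩ h0
        rw [SetLike.mem_coe, mem_eg1] at hw1
        have h8 : w - i • g w = 0 := h0
        have h9 : g w = (-i) • w := by
          have h10 : w = i • g w := sub_eq_zero.1 h8
          calc g w = (-(i * i)) • g w := by rw [hi, neg_neg, one_smul]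
            _ = (-i) • (i • g w) := by rw [smul_smul]; congr 1; ring
            _ = (-i) • w := by rw [← h10]
        refine hii w hw ?_ h9
        -- `t w = w` gives `g w = i w`
        have h11 := hgt w hw
        rw [hw1] at h11
        rw [h11, cube_eg h9, map_smul, hw1]
        congr 1
        linear_combination (-i) * hi
    · refine fr_le (f := 1 + t) ?_ ?_
      · rintro w ⟨hw, hw1⟩
        rw [SetLike.mem_coe, mem_eg] at hw1
        have h12 : g (t w) = (-i) • t w := by rw [hgt w hw, hcube w hw hw1, map_smul]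
        refine ⟨⟨?_, ?_⟩, ?_⟩
        · show w + t w ∈ W
          exact W.add_mem hw (ht w hw)
        · rw [SetLike.mem_coe, mem_eg1]
          show t (w + t w) = w + t w
          rw [map_add, ht2 w hw, add_comm]
        · rw [SetLike.mem_coe, mem_egn, Module.End.mul_apply]
          show g (g (w + t w)) = - (w + t w)
          rw [map_add, hw1, h12, map_add, map_smul, map_smul, hw1, h12, smul_smul, smul_smul, hi, neg_mul_neg, hi,
            neg_smul, one_smul, neg_smul, one_smul]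
          abel
      · rintro w ⟨hw, hw1⟩ h0
        rw [SetLike.mem_coe, mem_eg] at hw1
        have h8 : w + t w = 0 := h0
        have h12 : g (t w) = (-i) • t w := by rw [hgt w hw, hcube w hw hw1, map_smul]
        have h13 : t w = -w := eq_neg_of_add_eq_zero_right h8
        rw [h13, map_neg, smul_neg, neg_inj] at h12
        exact hii w hw hw1 h12
  rw [h3, h4, h7]

/-- **the dihedral relations** -/
theorem dih (h2 : (2 : F) ≠ 0) {i : F} (hi : i * i = -1) {W : Submodule F E} {g t : Module.End F E}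
    (hg : ∀ w ∈ W, g w ∈ W) (ht : ∀ w ∈ W, t w ∈ W) (hg4 : ∀ w ∈ W, g (g (g (g w))) = w) (ht2 : ∀ w ∈ W, t (t w) = w)
    (htg : ∀ w ∈ W, t (g w) = g (g (g (t w))))
    (e1 : finrank F ↥(W ⊓ eg (g * g) 1) = finrank F ↥(W ⊓ eg t 1))
    (e2 : finrank F ↥(W ⊓ eg (t * g) 1) = finrank F ↥(W ⊓ eg t 1)) :
    finrank F W = finrank F ↥(W ⊓ eg g 1) + 2 * finrank F ↥(W ⊓ eg g (-1) ⊓ eg t 1) + 2 * finrank F ↥(W ⊓ eg g i) ∧
    finrank F ↥(W ⊓ eg g i) = finrank F ↥(W ⊓ eg g 1 ⊓ eg t (-1)) + finrank F ↥(W ⊓ eg g (-1) ⊓ eg t 1) ∧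
    finrank F ↥(W ⊓ eg g 1 ⊓ eg t (-1)) ≤ finrank F ↥(W ⊓ eg g 1) ∧
    finrank F ↥(W ⊓ eg (g * g) 1) = finrank F ↥(W ⊓ eg g 1) + 2 * finrank F ↥(W ⊓ eg g (-1) ⊓ eg t 1) := by
  have htgg : ∀ w ∈ W, t (g (g w)) = g (g (t w)) := by
    intro w hw
    rw [htg _ (hg w hw), htg w hw, hg4 _ (hg _ (hg _ (ht w hw)))]
  have hgt : ∀ w ∈ W, g (t w) = t (g (g (g w))) := by
    intro w hw
    have h1 := htg (g (g w)) (hg _ (hg _ hw))
    rw [htgg w hw] at h1
    rw [h1, hg4 _ (hg _ (ht w hw))]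
  have a1 := dih_aux h2 hi hg ht hg4 ht2 htg
  have a2 := dih_aux h2 hi (t := t * g) hg (fun w hw => ht _ (hg w hw)) hg4 (by
    intro w hw
    show t (g (t (g w))) = w
    rw [hgt _ (hg w hw), hg4 w hw, ht2 w hw]) (by
    intro w hw
    show t (g (g w)) = g (g (g (t (g w))))
    rw [htg w hw, hg4 _ (hg _ (hg _ (ht w hw))), htgg w hw])
  have b1 : W ⊓ eg g 1 ⊓ eg (t * g) 1 = W ⊓ eg g 1 ⊓ eg t 1 := by
    ext w
    constructor
    · rintro ⟨⟨a, b⟩, c⟩
      refine ⟨⟨a, b⟩, ?_⟩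
      rw [SetLike.mem_coe, mem_eg1] at b c ⊢
      rwa [Module.End.mul_apply, b] at c
    · rintro ⟨⟨a, b⟩, c⟩
      refine ⟨⟨a, b⟩, ?_⟩
      rw [SetLike.mem_coe, mem_eg1] at b c ⊢
      rwa [Module.End.mul_apply, b]
  have b2 : W ⊓ eg g (-1) ⊓ eg (t * g) 1 = W ⊓ eg g (-1) ⊓ eg t (-1) := by
    ext w
    constructor
    · rintro ⟨⟨a, b⟩, c⟩
      refine ⟨⟨a, b⟩, ?_⟩
      rw [SetLike.mem_coe, mem_egn] at b
      rw [SetLike.mem_coe, mem_eg1, Module.End.mul_apply, b, map_neg] at c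
      rw [SetLike.mem_coe, mem_egn]
      nth_rewrite 2 [← c]
      rw [neg_neg]
    · rintro ⟨⟨a, b⟩, c⟩
      refine ⟨⟨a, b⟩, ?_⟩
      rw [SetLike.mem_coe, mem_egn] at b c
      rw [SetLike.mem_coe, mem_eg1, Module.End.mul_apply, b, map_neg, c, neg_neg]
  rw [b1, b2] at a2
  -- splitting
  have s1 := split2 h2 (W := W) (t := g * g) (fun w hw => hg _ (hg w hw)) (fun w hw => hg4 w hw)
  have s2 : finrank F ↥(W ⊓ eg (g * g) 1) = finrank F ↥(W ⊓ eg g 1) + finrank F ↥(W ⊓ eg g (-1)) := by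
    have h5 := split2 h2 (W := W ⊓ eg (g * g) 1) (t := g) (by
      rintro w ⟨hw, hw2⟩
      rw [SetLike.mem_coe, mem_eg1, Module.End.mul_apply] at hw2
      refine ⟨hg w hw, ?_⟩
      rw [SetLike.mem_coe, mem_eg1, Module.End.mul_apply, hw2]) (by
      rintro w ⟨-, hw2⟩
      rw [SetLike.mem_coe, mem_eg1, Module.End.mul_apply] at hw2
      exact hw2)
    rw [h5]
    congr 1
    · refine fr_congr fun w => ?_
      constructor
      · rintro ⟨⟨a, c⟩, d⟩
        exact ⟨a, d⟩
      · rintro ⟨a, d⟩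
        refine ⟨⟨a, ?_⟩, d⟩
        rw [SetLike.mem_coe, mem_eg1] at d ⊢
        rw [Module.End.mul_apply, d, d]
    · refine fr_congr fun w => ?_
      constructor
      · rintro ⟨⟨a, c⟩, d⟩
        exact ⟨a, d⟩
      · rintro ⟨a, d⟩
        refine ⟨⟨a, ?_⟩, d⟩
        rw [SetLike.mem_coe, mem_egn] at d
        rw [SetLike.mem_coe, mem_eg1, Module.End.mul_apply, d, map_neg, d, neg_neg]
  have s3 : finrank F ↥(W ⊓ eg (g * g) (-1)) = finrank F ↥(W ⊓ eg g i) + finrank F ↥(W ⊓ eg g (-i)) := by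
    refine split_of ?_ ?_ ?_ ?_
    · rintro w ⟨hw, hw1⟩
      rw [SetLike.mem_coe, mem_eg] at hw1
      refine ⟨hw, ?_⟩
      rw [SetLike.mem_coe, mem_egn, Module.End.mul_apply, hw1, map_smul, hw1, smul_smul, hi, neg_smul, one_smul]
    · rintro w ⟨hw, hw1⟩
      rw [SetLike.mem_coe, mem_eg] at hw1
      refine ⟨hw, ?_⟩
      rw [SetLike.mem_coe, mem_egn, Module.End.mul_apply, hw1, map_smul, hw1, smul_smul, neg_mul_neg, hi, neg_smul,
        one_smul]
    · rintro w ⟨hw, hw1⟩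
      rw [SetLike.mem_coe, mem_egn, Module.End.mul_apply] at hw1
      refine ⟨(2 : F)⁻¹ • (w - i • g w), ⟨W.smul_mem _ (W.sub_mem hw (W.smul_mem _ (hg w hw))), ?_⟩,
        (2 : F)⁻¹ • (w + i • g w), ⟨W.smul_mem _ (W.add_mem hw (W.smul_mem _ (hg w hw))), ?_⟩, ?_⟩
      · rw [SetLike.mem_coe, mem_eg, map_smul, map_sub, map_smul, hw1, smul_comm]
        congr 1
        rw [smul_sub, smul_smul, hi, neg_smul, one_smul, smul_neg]
        abel
      · rw [SetLike.mem_coe, mem_eg, map_smul, map_add, map_smul, hw1, smul_comm]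
        congr 1
        rw [smul_add, smul_smul, neg_mul, hi, neg_neg, one_smul, smul_neg, neg_smul]
        abel
      · rw [← smul_add, sub_add_add_cancel, ← two_smul F w, smul_smul, inv_mul_cancel₀ h2, one_smul]
    · rintro x ⟨-, h1⟩ ⟨-, h3⟩
      rw [SetLike.mem_coe, mem_eg] at h1 h3
      rw [h1] at h3
      have h6 : (2 * i) • x = 0 := by
        rw [two_mul, add_smul]
        nth_rewrite 1 [h3]
        rw [neg_smul, neg_add_cancel]
      have hi0 : i ≠ 0 := by
        rintro rfl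
        rw [mul_zero] at hi
        exact one_ne_zero (neg_eq_zero.1 hi.symm)
      exact (smul_eq_zero.1 h6).resolve_left (mul_ne_zero h2 hi0)
  have hinj : ∀ (A : Submodule F E), A ≤ W → ∀ a ∈ A, t a = 0 → a = 0 := by
    intro A hA a ha h0
    rw [← ht2 a (hA ha), h0, map_zero]
  have s4 : finrank F ↥(W ⊓ eg g i) = finrank F ↥(W ⊓ eg g (-i)) := by
    apply le_antisymm
    · refine fr_le (f := t) ?_ (hinj _ inf_le_left)
      rintro w ⟨hw, hw1⟩
      rw [SetLike.mem_coe, mem_eg] at hw1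
      refine ⟨ht w hw, ?_⟩
      rw [SetLike.mem_coe, mem_eg, hgt w hw, cube_eg hw1, map_smul]
      congr 1
      linear_combination i * hi
    · refine fr_le (f := t) ?_ (hinj _ inf_le_left)
      rintro w ⟨hw, hw1⟩
      rw [SetLike.mem_coe, mem_eg] at hw1
      refine ⟨ht w hw, ?_⟩
      rw [SetLike.mem_coe, mem_eg, hgt w hw, cube_eg hw1, map_smul]
      congr 1
      linear_combination (-i) * hi
  have s5 := split2 h2 (W := W ⊓ eg g 1) (t := t) (by
    rintro w ⟨hw, hw1⟩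
    rw [SetLike.mem_coe, mem_eg1] at hw1
    refine ⟨ht w hw, ?_⟩
    rw [SetLike.mem_coe, mem_eg1, hgt w hw, hw1, hw1, hw1]) (fun w hw => ht2 w hw.1)
  have s6 := split2 h2 (W := W ⊓ eg g (-1)) (t := t) (by
    rintro w ⟨hw, hw1⟩
    rw [SetLike.mem_coe, mem_egn] at hw1
    refine ⟨ht w hw, ?_⟩
    rw [SetLike.mem_coe, mem_egn, hgt w hw, hw1, map_neg, hw1, neg_neg, hw1, map_neg]) (fun w hw => ht2 w hw.1)
  refine ⟨?_, ?_, ?_, ?_⟩ <;> (clear * - e2 a1 a2 s1 s2 s3 s4 s6 e1 s5; omega)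

end Cfsg.Agent.R2.T2.Orb
end

-- part: R2/T2/Orb/Skew
section
/-!
# S5929, orbit box: subspaces closed under the cube (helper2)

`skew` : a subspace `R ≠ 0` of dimension at most 3 (over the field with nine elements) of an algebra, closed under
`A ↦ A ^ 3`, without elements `A ≠ 0` with `A ^ 3 = a A`, contains `U ≠ 0` with `U ^ 9 = l U`, `l` of order 4 or 8, or with
`U ^ 729 + a U ^ 81 + b U ^ 9 + c U = 0`, `a, b, c ∈ 𝔽₃`, `x ^ 3 + a x ^ 2 + b x + c` irreducible over `𝔽₃`.
-/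

set_option autoImplicit false

namespace Cfsg.Agent.R2.T2.Orb

open Module

universe u v

section skew

set_option linter.unusedSectionVars false

variable {F : Type u} [Field F] [CharP F 3] {A : Type v} [Ring A] [Algebra F A] [CharP A 3]

omit [CharP F 3] in
theorem cube_two (U : A) (c d : F) (m n : ℕ) : (c • U ^ m + d • U ^ n) ^ 3 = c ^ 3 • U ^ (3 * m) + d ^ 3 • U ^ (3 * n) := by
  have : Fact (Nat.Prime 3) := ⟨by norm_num⟩
  rw [add_pow_char_of_commute _ ((((Commute.refl U).pow_pow m n).smul_left c).smul_right d), smul_pow, smul_pow, ← pow_mul,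
    ← pow_mul, mul_comm m, mul_comm n]

omit [CharP F 3] in
theorem cube_three (U : A) (c d e : F) (m n k : ℕ) : (c • U ^ m + d • U ^ n + e • U ^ k) ^ 3 =
    c ^ 3 • U ^ (3 * m) + d ^ 3 • U ^ (3 * n) + e ^ 3 • U ^ (3 * k) := by
  have : Fact (Nat.Prime 3) := ⟨by norm_num⟩
  rw [add_pow_char_of_commute _ (((((Commute.refl U).pow_pow m k).smul_left c).add_left
    (((Commute.refl U).pow_pow n k).smul_left d)).smul_right e), cube_two, smul_pow, ← pow_mul, mul_comm k]

omit [CharP F 3] in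
theorem nine_two (U : A) (c d : F) (m n : ℕ) : (c • U ^ m + d • U ^ n) ^ 9 = c ^ 9 • U ^ (9 * m) + d ^ 9 • U ^ (9 * n) := by
  rw [show 9 = 3 * 3 from rfl, pow_mul, cube_two, cube_two, ← pow_mul, ← pow_mul, mul_assoc, mul_assoc]

omit [CharP F 3] in
theorem nine_three (U : A) (c d e : F) (m n k : ℕ) : (c • U ^ m + d • U ^ n + e • U ^ k) ^ 9 =
    c ^ 9 • U ^ (9 * m) + d ^ 9 • U ^ (9 * n) + e ^ 9 • U ^ (9 * k) := by
  rw [show 9 = 3 * 3 from rfl, pow_mul, cube_three, cube_three, ← pow_mul, ← pow_mul, ← pow_mul, mul_assoc, mul_assoc,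
    mul_assoc]

variable {R : Submodule F A}

theorem pow_three_mem (hcl : ∀ B ∈ R, B ^ 3 ∈ R) {U : A} (hU : U ∈ R) : ∀ n : ℕ, U ^ 3 ^ n ∈ R
  | 0 => by rw [pow_zero, pow_one]; exact hU
  | n + 1 => by rw [pow_succ, pow_mul]; exact hcl _ (pow_three_mem hcl hU n)

theorem cube_cases {x : F} (h : x ^ 3 = x) : x = 0 ∨ x = 1 ∨ x = -1 := by
  have h1 : x * ((x - 1) * (x + 1)) = 0 := by linear_combination h
  rcases mul_eq_zero.1 h1 with h2 | h2
  · exact Or.inl h2
  · rcases mul_eq_zero.1 h2 with h3 | h3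
    · exact Or.inr (Or.inl (sub_eq_zero.1 h3))
    · exact Or.inr (Or.inr (eq_neg_of_add_eq_zero_left h3))

/-- the eigenvalues of `w ↦ w ^ 9` -/
theorem eigen_cases (h9 : ∀ x : F, x ^ 9 = x) {i : F} (hi : i * i = -1) (hcl : ∀ B ∈ R, B ^ 3 ∈ R)
    (h3 : ∀ B ∈ R, ∀ a : F, B ^ 3 = a • B → B = 0) {w : A} (hw : w ∈ R) (hw0 : w ≠ 0) {l : F} (h : w ^ 9 = l • w) :
    l ^ 2 = -1 ∨ l ^ 4 = -1 := by
  have hF3 : (3 : F) = 0 := by
    have := CharP.cast_eq_zero F 3
    exact_mod_cast this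
  have key : ∀ a : F, a ^ 4 ≠ l := by
    intro a ha
    have h4 : w ^ 3 + a • w ∈ R := R.add_mem (hcl w hw) (R.smul_mem _ hw)
    have h5 : (w ^ 3 + a • w) ^ 3 = a ^ 3 • (w ^ 3 + a • w) := by
      have h6 := cube_two w 1 a 3 1
      rw [one_smul, pow_one, one_pow, one_smul, show 3 * 3 = 9 from rfl, h] at h6
      rw [h6, smul_add, smul_smul, ← ha, add_comm, show 3 * 1 = 3 from rfl, ← pow_succ]
    have h7 := h3 _ h4 _ h5
    exact hw0 (h3 w hw (-a) (by rw [neg_smul]; exact eq_neg_of_add_eq_zero_left h7))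
  have h0 : l ≠ 0 := fun h0 => key 0 (by rw [h0]; norm_num)
  have h8 : l ^ 8 = 1 := by
    have h10 : l * l ^ 8 = l * 1 := by rw [← pow_succ', h9, mul_one]
    exact mul_left_cancel₀ h0 h10
  have e1 : (l ^ 4 - 1) * (l ^ 4 + 1) = 0 := by linear_combination h8
  rcases mul_eq_zero.1 e1 with e2 | e2
  · have e3 : (l ^ 2 - 1) * (l ^ 2 + 1) = 0 := by linear_combination e2
    rcases mul_eq_zero.1 e3 with e4 | e4
    · exfalso
      have e5 : (l - 1) * (l + 1) = 0 := by linear_combination e4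
      rcases mul_eq_zero.1 e5 with e6 | e6
      · exact key 1 (by linear_combination -e6)
      · exact key (1 + i) (by linear_combination (i ^ 2 + 4 * i + 5 ) * hi - e6 - hF3)
    · exact Or.inl (by linear_combination e4)
  · exact Or.inr (by linear_combination e2)

/-- a quadratic relation for `w ↦ w ^ 9` gives an eigenvector -/
theorem exists_eigen (h9 : ∀ x : F, x ^ 9 = x) {i : F} (hi : i * i = -1) (hcl : ∀ B ∈ R, B ^ 3 ∈ R) {U : A} (hU : U ∈ R)
    (hU0 : U ≠ 0) {t d : F} (ht : t ^ 3 = t) (hd : d ^ 3 = d) (h : U ^ 81 = t • U ^ 9 - d • U) :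
    ∃ w ∈ R, w ≠ 0 ∧ ∃ l : F, w ^ 9 = l • w := by
  have hF3 : (3 : F) = 0 := by
    have := CharP.cast_eq_zero F 3
    exact_mod_cast this
  obtain ⟨s, hs⟩ : ∃ s : F, s ^ 2 = t ^ 2 - d := by
    have h1 : (t ^ 2 - d) ^ 3 = t ^ 2 - d := by
      linear_combination (t ^ 3 + t) * ht - hd + (t ^ 2 * d ^ 2 - t ^ 4 * d) * hF3
    rcases cube_cases h1 with h2 | h2 | h2
    · exact ⟨0, by rw [h2]; norm_num⟩
    · exact ⟨1, by rw [h2]; norm_num⟩
    · exact ⟨i, by rw [h2, pow_two, hi]⟩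
  have hm9 : U ^ 9 ∈ R := pow_three_mem hcl hU 2
  have hw : U ^ 9 + (t - s) • U ∈ R := R.add_mem hm9 (R.smul_mem _ hU)
  by_cases h0 : U ^ 9 + (t - s) • U = 0
  · exact ⟨U, hU, hU0, s - t, by rw [← neg_sub t s, neg_smul]; exact eq_neg_of_add_eq_zero_left h0⟩
  · refine ⟨_, hw, h0, -(t + s), ?_⟩
    have h1 := nine_two U (1 : F) (t - s) 9 1
    rw [one_smul, pow_one, one_pow, one_smul, show 9 * 9 = 81 from rfl, h, h9, show 9 * 1 = 9 from rfl] at h1
    rw [h1]
    have h2 : t • U ^ 9 - d • U + (t - s) • U ^ 9 - -(t + s) • (U ^ 9 + (t - s) • U) =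
        (3 * t) • U ^ 9 + (-(s ^ 2 - (t ^ 2 - d))) • U := by
      module
    rw [← sub_eq_zero, h2, hF3, hs, sub_self, zero_mul, neg_zero, zero_smul, zero_smul, add_zero]

theorem exists_cast {x : F} (h : x ^ 3 = x) : ∃ y : ZMod 3, (y.cast : F) = x := by
  rcases cube_cases h with rfl | rfl | rfl
  · exact ⟨0, by rw [← ZMod.castHom_apply (h := dvd_refl 3), map_zero]⟩
  · exact ⟨1, by rw [← ZMod.castHom_apply (h := dvd_refl 3), map_one]⟩
  · exact ⟨-1, by rw [← ZMod.castHom_apply (h := dvd_refl 3), map_neg, map_one]⟩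

theorem z3_cube : ∀ y : ZMod 3, y ^ 3 = y := by decide

/-- the case `k = 3` -/
theorem skew3 (h9 : ∀ x : F, x ^ 9 = x) {i : F} (hi : i * i = -1) (hcl : ∀ B ∈ R, B ^ 3 ∈ R) {U : A} (hU : U ∈ R)
    (hU0 : U ≠ 0) {α β γ : F} (h : U ^ 27 = α • U + β • U ^ 3 + γ • U ^ 9) :
    (∃ w ∈ R, w ≠ 0 ∧ ∃ l : F, w ^ 9 = l • w) ∨
    ∃ a b c : ZMod 3, (∀ x : ZMod 3, x ^ 3 + a * x ^ 2 + b * x + c ≠ 0) ∧
      U ^ 729 + (a.cast : F) • U ^ 81 + (b.cast : F) • U ^ 9 + (c.cast : F) • U = 0 := by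
  have : Fact (Nat.Prime 3) := ⟨by norm_num⟩
  by_cases hE : ∃ w ∈ R, w ≠ 0 ∧ ∃ l : F, w ^ 9 = l • w
  · exact Or.inl hE
  refine Or.inr ?_
  have h12 : ∀ x : F, x ^ 12 = x ^ 4 := by
    intro x
    rw [show 12 = 9 + 3 from rfl, pow_add, h9, ← pow_succ']
  have e81 : U ^ 81 = α ^ 3 • U ^ 3 + β ^ 3 • U ^ 9 + γ ^ 3 • U ^ 27 := by
    have h1 := cube_three U α β γ 1 3 9
    rw [pow_one, ← h, ← pow_mul] at h1
    exact h1
  have e243 : U ^ 243 = α • U ^ 9 + β • U ^ 27 + γ • U ^ 81 := by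
    have h1 := nine_three U α β γ 1 3 9
    rw [pow_one, ← h, ← pow_mul, h9, h9, h9] at h1
    exact h1
  have e729 : U ^ 729 = α ^ 3 • U ^ 27 + β ^ 3 • U ^ 81 + γ ^ 3 • U ^ 243 := by
    have h1 := cube_three U α β γ 9 27 81
    rw [← e243, ← pow_mul] at h1
    exact h1
  set! a : F := -(β + β ^ 3 + γ ^ 4) with ha
  set! b : F := β ^ 4 - α * γ ^ 3 - α ^ 3 * γ with hb
  set! c : F := -α ^ 4 with hc
  have ha3 : a ^ 3 = a := by
    have h1 : (β + β ^ 3 + γ ^ 4) ^ 3 = β + β ^ 3 + γ ^ 4 := by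
      rw [add_pow_char, add_pow_char, ← pow_mul, ← pow_mul, h9, h12]
      ring
    rw [ha, neg_pow, h1]; ring
  have hb3 : b ^ 3 = b := by
    rw [hb, sub_pow_char, sub_pow_char, mul_pow, mul_pow, ← pow_mul, ← pow_mul, ← pow_mul, h9, h9, h12]
    ring
  have hc3 : c ^ 3 = c := by
    rw [hc, neg_pow, ← pow_mul, h12]; ring
  have hrel : U ^ 729 + a • U ^ 81 + b • U ^ 9 + c • U = 0 := by
    have e2 : a • U ^ 81 = -(β + γ ^ 4) • U ^ 81 - β ^ 3 • U ^ 81 := by rw [ha]; module
    rw [e729, e243, ha, hb, hc]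
    have e3 : α ^ 3 • U ^ 27 + β ^ 3 • U ^ 81 + γ ^ 3 • (α • U ^ 9 + β • U ^ 27 + γ • U ^ 81) +
        -(β + β ^ 3 + γ ^ 4) • U ^ 81 + (β ^ 4 - α * γ ^ 3 - α ^ 3 * γ) • U ^ 9 + -α ^ 4 • U =
        (α ^ 3 + γ ^ 3 * β) • U ^ 27 + (-β) • U ^ 81 + (β ^ 4 - α ^ 3 * γ) • U ^ 9 + -α ^ 4 • U := by module
    rw [e3, e81]
    have e4 : (α ^ 3 + γ ^ 3 * β) • U ^ 27 + -β • (α ^ 3 • U ^ 3 + β ^ 3 • U ^ 9 + γ ^ 3 • U ^ 27) +
        (β ^ 4 - α ^ 3 * γ) • U ^ 9 + -α ^ 4 • U =
        α ^ 3 • U ^ 27 - (α ^ 3) • (α • U + β • U ^ 3 + γ • U ^ 9) := by module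
    rw [e4, ← h, sub_self]
  obtain ⟨a', ha'⟩ := exists_cast ha3
  obtain ⟨b', hb'⟩ := exists_cast hb3
  obtain ⟨c', hc'⟩ := exists_cast hc3
  refine ⟨a', b', c', ?_, by rw [ha', hb', hc']; exact hrel⟩
  intro x' hx'
  apply hE
  set! x : F := x'.cast with hx
  have hx3 : x ^ 3 = x := by
    have h1 : x' ^ 3 = x' := z3_cube x'
    rw [hx, ← ZMod.castHom_apply (h := dvd_refl 3), ← map_pow, h1]
  have hroot : x ^ 3 + a * x ^ 2 + b * x + c = 0 := by
    have h1 := congrArg (ZMod.castHom (dvd_refl 3) F) hx'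
    rw [map_add, map_add, map_add, map_mul, map_mul, map_pow, map_pow, map_zero, ZMod.castHom_apply, ZMod.castHom_apply,
      ZMod.castHom_apply, ZMod.castHom_apply, ha', hb', hc'] at h1
    exact h1
  have hm9 : U ^ 9 ∈ R := pow_three_mem hcl hU 2
  have hm81 : U ^ 81 ∈ R := pow_three_mem hcl hU 4
  by_cases h0 : U ^ 81 + (a + x) • U ^ 9 + (b + x * (a + x)) • U = 0
  · refine exists_eigen h9 hi hcl hU hU0 (t := -(a + x)) (d := b + x * (a + x)) ?_ ?_ ?_
    · rw [neg_pow, add_pow_char, ha3, hx3]; ring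
    · rw [add_pow_char, mul_pow, add_pow_char, ha3, hb3, hx3]
    · rw [← sub_eq_zero, ← h0]; module
  · refine ⟨_, R.add_mem (R.add_mem hm81 (R.smul_mem _ hm9)) (R.smul_mem _ hU), h0, x, ?_⟩
    have h1 := nine_three U (1 : F) (a + x) (b + x * (a + x)) 81 9 1
    rw [one_smul, pow_one, one_pow, one_smul, h9, h9] at h1
    rw [h1, ← sub_eq_zero]
    have h2 : U ^ (9 * 81) + (a + x) • U ^ (9 * 9) + (b + x * (a + x)) • U ^ (9 * 1) -
        x • (U ^ 81 + (a + x) • U ^ 9 + (b + x * (a + x)) • U) =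
        (U ^ 729 + a • U ^ 81 + b • U ^ 9 + c • U) - (x ^ 3 + a * x ^ 2 + b * x + c) • U := by
      rw [show 9 * 81 = 729 from rfl, show 9 * 9 = 81 from rfl, show 9 * 1 = 9 from rfl]
      module
    rw [h2, hrel, hroot, zero_smul, sub_zero]

/-- **skew polynomials** -/
theorem skew [FiniteDimensional F A] (h9 : ∀ x : F, x ^ 9 = x) {i : F} (hi : i * i = -1) (hR : R ≠ ⊥)
    (hk : finrank F R ≤ 3) (hcl : ∀ B ∈ R, B ^ 3 ∈ R) (h3 : ∀ B ∈ R, ∀ a : F, B ^ 3 = a • B → B = 0) :
    (∃ U ∈ R, U ≠ 0 ∧ ∃ l : F, U ^ 9 = l • U ∧ (l ^ 2 = -1 ∨ l ^ 4 = -1)) ∨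
    (∃ U ∈ R, U ≠ 0 ∧ ∃ a b c : ZMod 3, (∀ x : ZMod 3, x ^ 3 + a * x ^ 2 + b * x + c ≠ 0) ∧
      U ^ 729 + (a.cast : F) • U ^ 81 + (b.cast : F) • U ^ 9 + (c.cast : F) • U = 0) := by
  have : Fact (Nat.Prime 3) := ⟨by norm_num⟩
  obtain ⟨U, hU, hU0⟩ := (Submodule.ne_bot_iff R).1 hR
  suffices hs : (∃ w ∈ R, w ≠ 0 ∧ ∃ l : F, w ^ 9 = l • w) ∨
      ∃ a b c : ZMod 3, (∀ x : ZMod 3, x ^ 3 + a * x ^ 2 + b * x + c ≠ 0) ∧
        U ^ 729 + (a.cast : F) • U ^ 81 + (b.cast : F) • U ^ 9 + (c.cast : F) • U = 0 by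
    rcases hs with ⟨w, hw, hw0, l, hl⟩ | hs
    · exact Or.inl ⟨w, hw, hw0, l, hl, eigen_cases h9 hi hcl h3 hw hw0 hl⟩
    · exact Or.inr ⟨U, hU, hU0, hs⟩
  let v : Fin 4 → R := fun j => ⟨U ^ 3 ^ j.val, pow_three_mem hcl hU j⟩
  have hdep : ¬ LinearIndependent F v := by
    intro hli
    have h1 := hli.fintype_card_le_finrank
    rw [Fintype.card_fin] at h1
    omega
  rw [Fintype.not_linearIndependent_iff] at hdep
  obtain ⟨g, hg, j, hj⟩ := hdep
  have hg' : g 0 • U + g 1 • U ^ 3 + g 2 • U ^ 9 + g 3 • U ^ 27 = 0 := by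
    have h1 := congrArg Subtype.val hg
    rw [Fin.sum_univ_four] at h1
    simpa only [v, _root_.Fin.isValue, _root_.Fin.coe_ofNat_eq_mod, _root_.Nat.zero_mod, _root_.pow_zero, _root_.pow_one, _root_.SetLike.mk_smul_mk, _root_.Nat.one_mod, _root_.AddMemClass.mk_add_mk, _root_.Nat.reduceMod, _root_.Nat.reducePow, _root_.Nat.mod_succ, _root_.ZeroMemClass.coe_zero] using h1
  by_cases c3 : g 3 = 0
  · rw [c3, zero_smul, add_zero] at hg'
    by_cases c2 : g 2 = 0
    · rw [c2, zero_smul, add_zero] at hg'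
      exfalso
      by_cases c1 : g 1 = 0
      · rw [c1, zero_smul, add_zero] at hg'
        have c0 : g 0 = 0 := (smul_eq_zero.1 hg').resolve_right hU0
        apply hj
        fin_cases j
        · exact c0
        · exact c1
        · exact c2
        · exact c3
      · apply hU0
        refine h3 U hU (-(g 1)⁻¹ * g 0) ?_
        have h1 : U ^ 3 - (-(g 1)⁻¹ * g 0) • U = (g 1)⁻¹ • (g 0 • U + g 1 • U ^ 3) := by
          rw [smul_add, smul_smul, smul_smul, inv_mul_cancel₀ c1, one_smul]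
          module
        rw [← sub_eq_zero, h1, hg', smul_zero]
    · -- `U ^ 9 = α U + β U ^ 3`
      refine Or.inl ?_
      obtain ⟨α, β, h⟩ : ∃ α β : F, U ^ 9 = α • U + β • U ^ 3 := by
        refine ⟨-(g 2)⁻¹ * g 0, -(g 2)⁻¹ * g 1, ?_⟩
        have h1 : U ^ 9 - ((-(g 2)⁻¹ * g 0) • U + (-(g 2)⁻¹ * g 1) • U ^ 3) =
            (g 2)⁻¹ • (g 0 • U + g 1 • U ^ 3 + g 2 • U ^ 9) := by
          rw [smul_add (g 2)⁻¹ _ (g 2 • U ^ 9), smul_smul _ (g 2), inv_mul_cancel₀ c2, one_smul]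
          module
        rw [← sub_eq_zero, h1, hg', smul_zero]
      have e27 : U ^ 27 = α ^ 3 • U ^ 3 + β ^ 3 • U ^ 9 := by
        have h1 := cube_two U α β 1 3
        rw [pow_one, ← h, ← pow_mul] at h1
        exact h1
      have e81 : U ^ 81 = α • U ^ 9 + β • U ^ 27 := by
        have h1 := nine_two U α β 1 3
        rw [pow_one, ← h, ← pow_mul, h9, h9] at h1
        exact h1
      have h12 : ∀ x : F, x ^ 12 = x ^ 4 := by
        intro x
        rw [show 12 = 9 + 3 from rfl, pow_add, h9, ← pow_succ']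
      refine exists_eigen h9 hi hcl hU hU0 (t := α + α ^ 3 + β ^ 4) (d := α ^ 4) ?_ ?_ ?_
      · rw [add_pow_char, add_pow_char, ← pow_mul, ← pow_mul, h9, h12]; ring
      · rw [← pow_mul, h12]
      · have h1 : (α + α ^ 3 + β ^ 4) • U ^ 9 - α ^ 4 • U - U ^ 81 = α ^ 3 • (U ^ 9 - (α • U + β • U ^ 3)) := by
          rw [e81, e27]; module
        rw [← h, sub_self, smul_zero, sub_eq_zero] at h1
        exact h1.symm
  · obtain ⟨α, β, γ, h⟩ : ∃ α β γ : F, U ^ 27 = α • U + β • U ^ 3 + γ • U ^ 9 := by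
      refine ⟨-(g 3)⁻¹ * g 0, -(g 3)⁻¹ * g 1, -(g 3)⁻¹ * g 2, ?_⟩
      have h1 : U ^ 27 - ((-(g 3)⁻¹ * g 0) • U + (-(g 3)⁻¹ * g 1) • U ^ 3 + (-(g 3)⁻¹ * g 2) • U ^ 9) =
          (g 3)⁻¹ • (g 0 • U + g 1 • U ^ 3 + g 2 • U ^ 9 + g 3 • U ^ 27) := by
        rw [smul_add (g 3)⁻¹ _ (g 3 • U ^ 27), smul_smul _ (g 3), inv_mul_cancel₀ c3, one_smul]
        module
      rw [← sub_eq_zero, h1, hg', smul_zero]
    exact skew3 h9 hi hcl hU hU0 h

end skew

end Cfsg.Agent.R2.T2.Orb
end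

-- part: R2/T2/Orb/Sub
section
/-!
# S5929, orbit box: the subspace `R` for `n = 6`, `p = 3` (helper2)

If the lift `ψ` has fixed vectors on the adjoint module, there is a subspace `R ≠ 0` of the Lie algebra (as a space of
matrices of degree 56) of dimension at most 3, closed under the cube, commuting with `ψ`, without `A ≠ 0`, `A ^ 3 = a A`,
and all kernels of `A ≠ 0` have dimension less than 32; `|F| = 9`.
-/

set_option autoImplicit false
set_option linter.unusedSectionVars false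
set_option maxRecDepth 100000

namespace Cfsg.Agent.R2.T2.Orb

open Cfsg Cfsg.Lie Module Matrix
open Cfsg.Agent.R2.T1 Cfsg.Agent.R2.PX Cfsg.Agent.R2.T1.Mu Cfsg.Agent.R2.T2.Alg
open Cfsg.Agent.H943.E7V.Block (D1 rho)
open Cfsg.Agent.H952.F4 (ev es MaxAlt)
open Cfsg.Agent.H952.F4.MaxA (rmul rone rinv)

universe u

variable {F : Type u} [Field F] {H : Subgroup ↥(chevE7.group F)}
variable {φ : ↥(alternatingGroup (Fin 6)) →* ↥(chevE7.group F)} {ψ : ↥(alternatingGroup (Fin 6)) →* Gh F}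

theorem card_range (hM : MaxAlt H 6 φ) : Nat.card φ.range = 360 := by
  rw [Nat.card_congr (φ.ofInjective hM.inj).toEquiv.symm]
  have h1 := card_alt (n := 6) (by norm_num)
  have h2 : Nat.factorial 6 = 720 := rfl
  omega

theorem two_cosets (hM : MaxAlt H 6 φ) (hc : Nat.card ↥H ≤ 720) [Finite F] :
    ∃ h0 ∈ H, ∀ h ∈ H, h ∈ φ.range ∨ h0⁻¹ * h ∈ φ.range := by
  have hfin : Finite ↥H := inferInstance
  by_cases hle : H ≤ φ.range
  · exact ⟨1, H.one_mem, fun h hh => Or.inl (hle hh)⟩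
  obtain ⟨h0, hh0, hn0⟩ := SetLike.not_le_iff_exists.1 hle
  refine ⟨h0, hh0, fun h hh => ?_⟩
  by_cases hr : h ∈ φ.range
  · exact Or.inl hr
  refine Or.inr ?_
  have h1 := Subgroup.card_mul_index (φ.range.subgroupOf H)
  have h2 : Nat.card ↥(φ.range.subgroupOf H) = 360 := by
    rw [Nat.card_congr (Subgroup.subgroupOfEquivOfLe hM.le).toEquiv, card_range hM]
  rw [h2] at h1
  have h3 : (φ.range.subgroupOf H).index ≠ 1 := by
    intro h4
    apply hle
    intro x hx
    have h5 := Subgroup.index_eq_one.1 h4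
    have h6 : (⟨x, hx⟩ : ↥H) ∈ φ.range.subgroupOf H := by rw [h5]; trivial
    exact Subgroup.mem_subgroupOf.1 h6
  have h4 : (φ.range.subgroupOf H).index ≠ 0 := by
    intro h5
    rw [h5, mul_zero] at h1
    have := Nat.card_pos (α := ↥H)
    omega
  have h5 : (φ.range.subgroupOf H).index = 2 := by omega
  have h6 := Subgroup.mul_mem_iff_of_index_two h5 (a := (⟨h0, hh0⟩ : ↥H)⁻¹) (b := ⟨h, hh⟩)
  rw [inv_mem_iff, Subgroup.mem_subgroupOf, Subgroup.mem_subgroupOf, Subgroup.mem_subgroupOf] at h6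
  exact h6.2 ⟨fun h7 => absurd h7 hn0, fun h7 => absurd h7 hr⟩

theorem mem_inv_iff (hL : Lift φ ψ) {v : chevE7.Idx → F} :
    v ∈ Representation.invariants (MonoidHom.comp (L F) ψ) ↔ ∀ a ∈ φ.range, LK F a v = v := by
  constructor
  · rintro h _ ⟨a, rfl⟩
    rw [← hL a]
    exact h a
  · intro h a
    show L F (ψ a) v = v
    rw [L_eq, hL a]
    exact h _ ⟨a, rfl⟩

theorem exists_chi [Finite F] (hM : MaxAlt H 6 φ) (hL : Lift φ ψ) (hc : Nat.card ↥H ≤ 720)
    (hne : Representation.invariants (MonoidHom.comp (L F) ψ) ≠ ⊥) : ∃ χ : ↥(chevE7.group F) → F, (∀ h, χ h ^ 3 = χ h) ∧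
      (∀ a, χ (φ a) = 1) ∧ ∃ v ≠ 0, ∀ g, ad F g ∈ H → L F g v = χ (ad F g) • v := by
  classical
  obtain ⟨v, hv, hv0⟩ := (Submodule.ne_bot_iff _).1 hne
  rw [mem_inv_iff hL] at hv
  obtain ⟨h0, hh0, hcos⟩ := two_cosets hM hc
  have hw : ∀ a ∈ φ.range, LK F a (LK F h0 v) = LK F h0 v := by
    intro a ha
    have h1 := hM.norm h0⁻¹ (H.inv_mem hh0) a ha
    rw [inv_inv] at h1
    have h3 := hv _ h1
    rw [rmul, rmul] at h3
    have h4 := congrArg (LK F h0) h3
    rw [← rmul, mul_inv_cancel, rone] at h4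
    exact h4
  have hww : LK F h0 (LK F h0 v) = v := by
    rw [← rmul]
    exact hv _ (hM.sq h0 hh0)
  have key : ∀ (e : F) (u : chevE7.Idx → F), (∀ a ∈ φ.range, LK F a u = u) → LK F h0 u = e • u → ∀ g, ad F g ∈ H →
      L F g u = (if ad F g ∈ φ.range then (1 : F) else e) • u := by
    intro e u hu he g hg
    rw [L_eq]
    by_cases hr : ad F g ∈ φ.range
    · rw [if_pos hr, one_smul, hu _ hr]
    · rw [if_neg hr]
      rcases hcos _ hg with h1 | h1
      · exact absurd h1 hr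
      · have h3 : ad F g = h0 * (h0⁻¹ * ad F g) := by group
        rw [h3, rmul, hu _ h1, he]
  by_cases hp : v + LK F h0 v = 0
  · refine ⟨fun h => if h ∈ φ.range then 1 else -1, ?_, ?_, v, hv0, key (-1) v hv ?_⟩
    · intro h
      dsimp only
      split_ifs <;> ring
    · intro a
      exact if_pos ⟨a, rfl⟩
    · rw [neg_smul, one_smul]
      exact (neg_eq_of_add_eq_zero_right hp).symm
  · refine ⟨fun h => if h ∈ φ.range then 1 else 1, ?_, ?_, v + LK F h0 v, hp, key 1 _ ?_ ?_⟩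
    · intro h
      dsimp only
      split_ifs <;> ring
    · intro a
      exact if_pos ⟨a, rfl⟩
    · intro a ha
      rw [map_add, hv a ha, hw a ha]
    · rw [map_add, hww, one_smul, add_comm]

/-- the eigenvectors -/
noncomputable def RX (H : Subgroup ↥(chevE7.group F)) (χ : ↥(chevE7.group F) → F) : Submodule F (chevE7.Idx → F) where
  carrier := {v | ∀ g, ad F g ∈ H → L F g v = χ (ad F g) • v}
  zero_mem' := fun g _ => by rw [map_zero, smul_zero]
  add_mem' := fun {a b} ha hb g hg => by rw [map_add, ha g hg, hb g hg, smul_add]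
  smul_mem' := fun c a ha g hg => by rw [map_smul, ha g hg, smul_comm]

theorem conj_pow3 (g : Gh F) (A : Matrix D1 D1 F) : (rho F g * A * rho F g⁻¹) * (rho F g * A * rho F g⁻¹) *
    (rho F g * A * rho F g⁻¹) = rho F g * (A * A * A) * rho F g⁻¹ := by
  have h := rho_inv_mul'' g
  calc _ = rho F g * A * (rho F g⁻¹ * rho F g) * A * (rho F g⁻¹ * rho F g) * A * rho F g⁻¹ := by
        simp only [Matrix.mul_assoc]
    _ = _ := by rw [h]; simp only [Matrix.mul_assoc, Matrix.mul_one]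

/-- closed under the cube -/
theorem RX_cube (h3 : (3 : F) = 0) {χ : ↥(chevE7.group F) → F} (hχ : ∀ h, χ h ^ 3 = χ h) {v : chevE7.Idx → F}
    (hv : v ∈ RX H χ) : ∃ w ∈ RX H χ, del F w = del F v * del F v * del F v := by
  obtain ⟨w, hw⟩ := exists_cube h3 v
  refine ⟨w, fun g hg => ?_, hw⟩
  apply Mu.del_injective
  rw [del_L', hw, ← conj_pow3, ← del_L', hv g hg, map_smul, map_smul, hw]
  simp only [Matrix.smul_mul, Matrix.mul_smul, smul_smul]
  rw [← pow_two, ← pow_succ', hχ]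

/-- commutes with `ψ` -/
theorem RX_comm {χ : ↥(chevE7.group F) → F} (hM : MaxAlt H 6 φ) (hL : Lift φ ψ) (hχ : ∀ a, χ (φ a) = 1)
    {v : chevE7.Idx → F} (hv : v ∈ RX H χ) (x : ↥(alternatingGroup (Fin 6))) :
    rho F (ψ x) * del F v = del F v * rho F (ψ x) := by
  have h1 : ad F (ψ x) ∈ H := by rw [hL x]; exact hM.le ⟨x, rfl⟩
  have h2 := hv _ h1
  rw [hL x, hχ, one_smul] at h2
  have h3 := del_L' (ψ x) v
  rw [h2] at h3
  calc rho F (ψ x) * del F v = rho F (ψ x) * del F v * (rho F (ψ x)⁻¹ * rho F (ψ x)) := by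
        rw [rho_inv_mul'', Matrix.mul_one]
    _ = (rho F (ψ x) * del F v * rho F (ψ x)⁻¹) * rho F (ψ x) := by simp only [Matrix.mul_assoc]
    _ = _ := by rw [← h3]

section count

variable [Finite F]

theorem nine_pow {n k : ℕ} {q : ℕ} (hq : 9 ≤ q) (h : n = k + 4) : 6561 * q ^ k ≤ q ^ n := by
  subst h
  rw [pow_add, mul_comm]
  exact Nat.mul_le_mul_left _ (by calc 6561 = 9 ^ 4 := by norm_num
    _ ≤ q ^ 4 := Nat.pow_le_pow_left hq 4)

/-- a vector of `R` does not satisfy `A ^ 3 = a A` -/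
theorem no_cube (h2 : (2 : F) ≠ 0) (hM : MaxAlt H 6 φ) (hc : Nat.card ↥H ≤ 720) (hq : 9 ≤ Nat.card F)
    {χ : ↥(chevE7.group F) → F} {v : chevE7.Idx → F} (hv : v ∈ RX H χ) {a : F}
    (h : del F v * del F v * del F v = a • del F v) : v = 0 := by
  by_contra hv0
  have hH : H ≠ ⊥ := by
    rintro rfl
    have h1 := card_range hM
    have h4 : Nat.card φ.range ≤ 1 := by
      have h5 := hM.le
      rw [le_bot_iff] at h5
      rw [h5, Subgroup.card_bot]
    omega
  have hdim : 1 < finrank F (chevE7.Idx → F) := by rw [finrank_L]; norm_num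
  have hk := count_orb hM.coatom hH (irrL h2) hdim {v}
    {z : chevE7.Idx → F | del F z * del F z * del F z = a • del F z} (by
      rintro w rfl
      exact ⟨hv0, fun g hg => ⟨_, hv g hg⟩⟩) (by
      rintro w rfl g
      show del F (L F g w) * del F (L F g w) * del F (L F g w) = a • del F (L F g w)
      rw [del_L', conj_pow3, h, Matrix.mul_smul, Matrix.smul_mul])
  rw [Nat.card_unique, one_mul] at hk
  have hcc := N6K.card_cube h2 a
  have ho := order_ge5 (F := F) (by omega)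
  set q := Nat.card F with hqd
  have e1 : 6561 * q ^ 129 ≤ q ^ 133 := nine_pow hq rfl
  have e2 : 6561 * q ^ 125 ≤ q ^ 129 := nine_pow hq rfl
  have e3 : 9 * q ^ 124 ≤ q ^ 125 := by rw [pow_succ q 124, mul_comm]; exact Nat.mul_le_mul_left _ hq
  have e4 : q ^ 123 ≤ q ^ 124 := Nat.pow_le_pow_right (by omega) (by norm_num)
  have e5 : q ^ 106 ≤ q ^ 124 := Nat.pow_le_pow_right (by omega) (by norm_num)
  have e6 : 0 < q ^ 124 := Nat.pow_pos (by omega)
  have hk' : Nat.card ↥(chevE7.group F) ≤ 720 * (27 * q ^ 124 + 27 * q ^ 123 + q ^ 106) :=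
    hk.trans (Nat.mul_le_mul hc hcc)
  omega

/-- the kernels are small -/
theorem small_ker (h2 : (2 : F) ≠ 0) (hM : MaxAlt H 6 φ) (hc : Nat.card ↥H ≤ 720) (hq : 9 ≤ Nat.card F)
    {χ : ↥(chevE7.group F) → F} {v : chevE7.Idx → F} (hv : v ∈ RX H χ) (hv0 : v ≠ 0) :
    finrank F (LinearMap.ker (Matrix.toLin' (del F v))) < 32 := by
  by_contra hlt
  have hH : H ≠ ⊥ := by
    rintro rfl
    have h1 := card_range hM
    have h4 : Nat.card φ.range ≤ 1 := by
      have h5 := hM.le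
      rw [le_bot_iff] at h5
      rw [h5, Subgroup.card_bot]
    omega
  have hdim : 1 < finrank F (chevE7.Idx → F) := by rw [finrank_L]; norm_num
  have hk := count_orb hM.coatom hH (irrL h2) hdim {v}
    {z : chevE7.Idx → F | 32 ≤ finrank F (LinearMap.ker (Matrix.toLin' (del F z)))} (by
      rintro w rfl
      exact ⟨hv0, fun g hg => ⟨_, hv g hg⟩⟩) (by
      rintro w rfl g
      show 32 ≤ finrank F (LinearMap.ker (Matrix.toLin' (del F (L F g w))))
      refine le_trans (not_lt.1 hlt) ?_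
      refine fr_le (f := V F g) ?_ ?_
      · intro x hx
        rw [LinearMap.mem_ker, Matrix.toLin'_apply] at hx ⊢
        rw [del_L', V_apply, Matrix.mulVec_mulVec, Matrix.mul_assoc, rho_inv_mul'', Matrix.mul_one, ← Matrix.mulVec_mulVec,
          hx, Matrix.mulVec_zero]
      · intro x _ hx
        rw [← V_inv g x, hx, map_zero])
  rw [Nat.card_unique, one_mul] at hk
  have hcc := card_ker (F := F)
  have ho := order_ge5 (F := F) (by omega)
  set q := Nat.card F with hqd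
  have e1 : 6561 * q ^ 161 ≤ q ^ 165 := nine_pow hq rfl
  have e4 : 6561 * q ^ 157 ≤ q ^ 161 := nine_pow hq rfl
  have e5 : q ^ 133 ≤ q ^ 157 := Nat.pow_le_pow_right (by omega) (by norm_num)
  have e6 : 0 < q ^ 161 := Nat.pow_pos (by omega)
  have hk2 : Nat.card ↥(chevE7.group F) * q ^ 32 ≤ 720 * (q ^ 133 + q ^ 161) := by
    calc Nat.card ↥(chevE7.group F) * q ^ 32 ≤ (Nat.card ↥H *
          Nat.card {z : chevE7.Idx → F // 32 ≤ finrank F (LinearMap.ker (Matrix.toLin' (del F z)))}) * q ^ 32 :=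
          Nat.mul_le_mul_right _ hk
      _ = Nat.card ↥H * (Nat.card {z : chevE7.Idx → F // 32 ≤ finrank F (LinearMap.ker (Matrix.toLin' (del F z)))} *
          q ^ 32) := by ring
      _ ≤ _ := Nat.mul_le_mul hc hcc
  have hk3 : 479 * q ^ 165 ≤ 1000 * (Nat.card ↥(chevE7.group F) * q ^ 32) := by
    calc 479 * q ^ 165 = 479 * q ^ 133 * q ^ 32 := by rw [show 165 = 133 + 32 from rfl, pow_add]; ring
      _ ≤ 1000 * Nat.card ↥(chevE7.group F) * q ^ 32 := Nat.mul_le_mul_right _ ho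
      _ = _ := by ring
  (clear * - e1 e4 e5 e6 hk2 hk3; omega)

/-- `q ^ k ≤ 1504` -/
theorem few_RX (h2 : (2 : F) ≠ 0) (hM : MaxAlt H 6 φ) (hc : Nat.card ↥H ≤ 720) (hq : 9 ≤ Nat.card F)
    (χ : ↥(chevE7.group F) → F) : Nat.card F ^ finrank F ↥(RX H χ) ≤ 1504 := by
  have hH : H ≠ ⊥ := by
    rintro rfl
    have h1 := card_range hM
    have h4 : Nat.card φ.range ≤ 1 := by
      have h5 := hM.le
      rw [le_bot_iff] at h5
      rw [h5, Subgroup.card_bot]
    omega
  have hdim : 1 < finrank F (chevE7.Idx → F) := by rw [finrank_L]; norm_num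
  have hk := count_orb hM.coatom hH (irrL h2) hdim ((RX H χ : Set (chevE7.Idx → F)) \ {0}) Set.univ (by
      rintro w ⟨hw, hw0⟩
      exact ⟨hw0, fun g hg => ⟨_, hw g hg⟩⟩) (by
      intro w _ g
      trivial)
  have hS : Nat.card ↥((RX H χ : Set (chevE7.Idx → F)) \ {0}) = Nat.card F ^ finrank F ↥(RX H χ) - 1 := by
    rw [Nat.card_coe_set_eq, Set.ncard_sdiff_singleton_of_mem (RX H χ).zero_mem, ← Nat.card_coe_set_eq]
    congr 1
    exact Module.natCard_eq_pow_finrank (K := F) (V := ↥(RX H χ))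
  have hU : Nat.card (Set.univ : Set (chevE7.Idx → F)) = Nat.card F ^ 133 := by
    rw [Nat.card_congr (Equiv.Set.univ _), Module.natCard_eq_pow_finrank (K := F), finrank_L]
  rw [hS, hU] at hk
  have ho := order_ge5 (F := F) (by omega)
  set q := Nat.card F with hqd
  set k := finrank F ↥(RX H χ) with hkd
  have hk1 : Nat.card ↥H * q ^ 133 ≤ 720 * q ^ 133 := Nat.mul_le_mul_right _ hc
  have e6 : 0 < q ^ 133 := Nat.pow_pos (by omega)
  have hk2 : ((q ^ k - 1) * 479) * q ^ 133 ≤ 720000 * q ^ 133 := by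
    calc ((q ^ k - 1) * 479) * q ^ 133 = (q ^ k - 1) * (479 * q ^ 133) := by ring
      _ ≤ (q ^ k - 1) * (1000 * Nat.card ↥(chevE7.group F)) := Nat.mul_le_mul_left _ ho
      _ = 1000 * ((q ^ k - 1) * Nat.card ↥(chevE7.group F)) := by ring
      _ ≤ 1000 * (720 * q ^ 133) := Nat.mul_le_mul_left _ (hk.trans hk1)
      _ = _ := by ring
  have hk3 := Nat.le_of_mul_le_mul_right hk2 e6
  omega

end count

/-- the cardinality of `F` -/
theorem card_cases [Finite F] (h3 : (3 : F) = 0) {i : F} (hi : i * i = -1) :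
    Nat.card F = 9 ∨ 81 ≤ Nat.card F := by
  have : Fintype F := Fintype.ofFinite F
  have hp : CharP F 3 := by
    obtain ⟨p, hp⟩ := CharP.exists F
    have h1 : ((3 : ℕ) : F) = 0 := by exact_mod_cast h3
    have h2 := (CharP.cast_eq_zero_iff F p 3).1 h1
    rcases (Nat.dvd_prime Nat.prime_three).1 h2 with rfl | rfl
    · exact absurd (CharP.cast_eq_zero F 1) (by rw [Nat.cast_one]; exact one_ne_zero)
    · exact hp
  have : Fact (Nat.Prime 3) := ⟨by norm_num⟩
  obtain ⟨n, hn, hcard⟩ := FiniteField.card F 3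
  rw [Nat.card_eq_fintype_card]
  have h4 : Fintype.card F % 4 ≠ 3 := FiniteField.isSquare_neg_one_iff.1 ⟨i, hi.symm⟩
  rw [hcard] at h4 ⊢
  have h5 : (n : ℕ) ≠ 1 := by intro h; rw [h] at h4; norm_num at h4
  have h6 : (n : ℕ) ≠ 3 := by intro h; rw [h] at h4; norm_num at h4
  have h7 := n.pos
  by_cases h8 : (n : ℕ) = 2
  · left; rw [h8]; norm_num
  · right
    calc 81 = 3 ^ 4 := by norm_num
      _ ≤ 3 ^ (n : ℕ) := Nat.pow_le_pow_right (by norm_num) (by omega)

theorem charP_three (h3 : (3 : F) = 0) : CharP F 3 := by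
  obtain ⟨p, hp⟩ := CharP.exists F
  have h1 : ((3 : ℕ) : F) = 0 := by exact_mod_cast h3
  have h2 := (CharP.cast_eq_zero_iff F p 3).1 h1
  rcases (Nat.dvd_prime Nat.prime_three).1 h2 with rfl | rfl
  · exact absurd (CharP.cast_eq_zero F 1) (by rw [Nat.cast_one]; exact one_ne_zero)
  · exact hp

theorem pow_three_eq (A : Matrix D1 D1 F) : A ^ 3 = A * A * A := by rw [pow_succ, pow_two]

/-- **the element `U`** -/
theorem exists_U [Finite F] (hM : MaxAlt H 6 φ) (hL : Lift φ ψ) (h3 : (3 : F) = 0) (hc : Nat.card ↥H ≤ 720)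
    (hq : 9 ≤ Nat.card F) {i : F} (hi : i * i = -1)
    (hne : Representation.invariants (MonoidHom.comp (L F) ψ) ≠ ⊥) :
    Nat.card F = 9 ∧ ∃ U : Matrix D1 D1 F, U ∈ LR F ∧ U ^ 3 ∈ LR F ∧
      (∀ x, rho F (ψ x) * U = U * rho F (ψ x)) ∧ finrank F (LinearMap.ker (Matrix.toLin' U)) < 32 ∧
      ((∃ l : F, U ^ 9 = l • U ∧ (l ^ 2 = -1 ∨ l ^ 4 = -1)) ∨
      (∃ a b c : ZMod 3, (∀ x : ZMod 3, x ^ 3 + a * x ^ 2 + b * x + c ≠ 0) ∧
        U ^ 729 + (a.cast : F) • U ^ 81 + (b.cast : F) • U ^ 9 + (c.cast : F) • U = 0)) := by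
  have hCh : CharP F 3 := charP_three h3
  have h2 : (2 : F) ≠ 0 := by
    intro h2
    apply one_ne_zero (α := F)
    linear_combination h3 - h2
  have hD1 : Nonempty D1 := ⟨topv⟩
  have hCA : CharP (Matrix D1 D1 F) 3 := Matrix.charP 3
  have : Fintype F := Fintype.ofFinite F
  obtain ⟨χ, hχ, hχ1, v, hv0, hv⟩ := exists_chi hM hL hc hne
  have hfew := few_RX h2 hM hc hq χ
  have hvR : v ∈ RX H χ := hv
  set! R : Submodule F (Matrix D1 D1 F) := (RX H χ).map (del F) with hR
  have hmem : ∀ A, A ∈ R ↔ ∃ z ∈ RX H χ, del F z = A := fun A => Submodule.mem_map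
  have hR0 : R ≠ ⊥ := by
    rw [Submodule.ne_bot_iff]
    refine ⟨del F v, (hmem _).2 ⟨v, hvR, rfl⟩, ?_⟩
    intro h
    exact hv0 (Mu.del_inj h)
  have hfr : finrank F R = finrank F ↥(RX H χ) := (Submodule.equivMapOfInjective (del F) Mu.del_injective _).finrank_eq.symm
  have hcl : ∀ B ∈ R, B ^ 3 ∈ R := by
    intro B hB
    obtain ⟨z, hz, rfl⟩ := (hmem _).1 hB
    obtain ⟨w, hw, hw'⟩ := RX_cube h3 hχ hz
    rw [pow_three_eq, ← hw']
    exact (hmem _).2 ⟨w, hw, rfl⟩
  have hn3 : ∀ B ∈ R, ∀ a : F, B ^ 3 = a • B → B = 0 := by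
    intro B hB a h
    obtain ⟨z, hz, rfl⟩ := (hmem _).1 hB
    rw [pow_three_eq] at h
    rw [no_cube h2 hM hc hq hz h, map_zero]
  have hBR : del F v ∈ R := (hmem _).2 ⟨v, hvR, rfl⟩
  have hB0 : del F v ≠ 0 := fun h => hv0 (Mu.del_inj h)
  have hprop : ∀ U ∈ R, U ≠ 0 → U ∈ LR F ∧ U ^ 3 ∈ LR F ∧
      (∀ x, rho F (ψ x) * U = U * rho F (ψ x)) ∧ finrank F (LinearMap.ker (Matrix.toLin' U)) < 32 := by
    intro U hU hU0
    obtain ⟨z, hz, rfl⟩ := (hmem _).1 hU
    refine ⟨del_mem z, ?_, RX_comm hM hL hχ1 hz, small_ker h2 hM hc hq hz ?_⟩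
    · rw [pow_three_eq]
      exact cube_mem h3 (del_mem z)
    · rintro rfl
      exact hU0 (map_zero _)
  rcases card_cases h3 hi with h9 | h81
  · refine ⟨h9, ?_⟩
    rw [h9] at hfew
    have hk : finrank F R ≤ 3 := by
      rw [hfr]
      by_contra hk
      have h4 : 9 ^ 4 ≤ 9 ^ finrank F ↥(RX H χ) := Nat.pow_le_pow_right (by norm_num) (by omega)
      norm_num at h4
      omega
    have hx9 : ∀ x : F, x ^ 9 = x := by
      intro x
      have h5 := FiniteField.pow_card x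
      rwa [← Nat.card_eq_fintype_card, h9] at h5
    rcases skew hx9 hi hR0 hk hcl hn3 with ⟨U, hU, hU0, hl⟩ | ⟨U, hU, hU0, hl⟩
    · obtain ⟨p1, p2, p3, p4⟩ := hprop U hU hU0
      exact ⟨U, p1, p2, p3, p4, Or.inl hl⟩
    · obtain ⟨p1, p2, p3, p4⟩ := hprop U hU hU0
      exact ⟨U, p1, p2, p3, p4, Or.inr hl⟩
  · exfalso
    have hk : finrank F R ≤ 1 := by
      rw [hfr]
      by_contra hk
      have h4 : 81 ^ 2 ≤ Nat.card F ^ finrank F ↥(RX H χ) :=
        (Nat.pow_le_pow_left h81 2).trans (Nat.pow_le_pow_right (by omega) (by omega))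
      have h5 := h4.trans hfew
      norm_num at h5
    have hk1 : finrank F R = 1 := by
      have h4 : finrank F R ≠ 0 := fun h => hR0 (Submodule.finrank_eq_zero.1 h)
      omega
    have hne1 : (⟨del F v, hBR⟩ : R) ≠ 0 := fun h => hB0 (congrArg Subtype.val h)
    obtain ⟨c, hc1⟩ := (finrank_eq_one_iff_of_nonzero' _ hne1).1 hk1 ⟨del F v ^ 3, hcl _ hBR⟩
    exact hB0 (hn3 _ hBR c (congrArg Subtype.val hc1).symm)

end Cfsg.Agent.R2.T2.Orb
end

-- part: R2/T2/Orb/Dec
section
/-!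
# S5929, orbit box: decomposition of modules of `A₆` under a commuting endomorphism (helper2)

* `K T p` : the kernel of `p(T)`; `split_K`, `dvd_K`;
* `Nm ρ W C E k` : the dimensions of the fixed spaces for the dihedral group `⟨b0, t0⟩`; `nm_of`, `nm_add`.
-/

set_option autoImplicit false
set_option linter.unusedSectionVars false

namespace Cfsg.Agent.R2.T2.Orb

open Module Polynomial Equiv
open Cfsg.Agent.H943.RepAdd (subRep coe_subRep)
open Cfsg.Agent.H952.F4 (ev)
open Cfsg.Agent.R2.T1.N6L (Mu)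

universe u v

section gen

variable {F : Type u} [Field F] {E : Type v} [AddCommGroup E] [Module F E]

/-- the kernel of `p(T)` -/
noncomputable def K (T : Module.End F E) (p : F[X]) : Submodule F E := LinearMap.ker (aeval T p)

theorem mem_K {T : Module.End F E} {p : F[X]} {x : E} : x ∈ K T p ↔ aeval T p x = 0 := Iff.rfl

theorem K_comm {T f : Module.End F E} (h : ∀ x, f (T x) = T (f x)) (p : F[X]) : ∀ x ∈ K T p, f x ∈ K T p := by
  intro x hx
  rw [mem_K] at hx ⊢
  rw [← aeval_comm h p x, hx, map_zero]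

theorem K_stab (T : Module.End F E) (p : F[X]) : ∀ x ∈ K T p, T x ∈ K T p := K_comm (fun _ => rfl) p

theorem aeval_mem {T : Module.End F E} {Z : Submodule F E} (hZ : ∀ z ∈ Z, T z ∈ Z) (p : F[X]) : ∀ z ∈ Z, aeval T p z ∈ Z := by
  intro z hz
  have h := aeval_comm (T := T.restrict hZ) (T' := T) (f := Z.subtype) (fun _ => rfl) p ⟨z, hz⟩
  rw [Submodule.subtype_apply, Submodule.subtype_apply] at h
  rw [← h]
  exact Subtype.mem _

theorem aeval_mul_apply (T : Module.End F E) (p q : F[X]) (x : E) : aeval T (p * q) x = aeval T p (aeval T q x) := by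
  rw [map_mul, Module.End.mul_apply]

theorem K_le_mul (T : Module.End F E) (p q : F[X]) : K T p ≤ K T (p * q) := by
  intro x hx
  rw [mem_K, mul_comm, aeval_mul_apply, mem_K.1 hx, map_zero]

theorem K_le_mul' (T : Module.End F E) (p q : F[X]) : K T q ≤ K T (p * q) := by
  rw [mul_comm]; exact K_le_mul T q p

variable [FiniteDimensional F E]

theorem split_K {T : Module.End F E} {p q : F[X]} (h : IsCoprime p q) {Z : Submodule F E} (hZ : ∀ z ∈ Z, T z ∈ Z) :
    finrank F ↥(K T (p * q) ⊓ Z) = finrank F ↥(K T p ⊓ Z) + finrank F ↥(K T q ⊓ Z) := by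
  obtain ⟨a, b, hab⟩ := h
  refine split_of (inf_le_inf_right _ (K_le_mul T p q)) (inf_le_inf_right _ (K_le_mul' T p q)) ?_ ?_
  · rintro w ⟨hw, hwZ⟩
    refine ⟨aeval T (b * q) w, ⟨?_, aeval_mem hZ _ _ hwZ⟩, aeval T (a * p) w, ⟨?_, aeval_mem hZ _ _ hwZ⟩, ?_⟩
    · rw [SetLike.mem_coe, mem_K, ← aeval_mul_apply, show p * (b * q) = b * (p * q) by ring, aeval_mul_apply,
        mem_K.1 hw, map_zero]
    · rw [SetLike.mem_coe, mem_K, ← aeval_mul_apply, show q * (a * p) = a * (p * q) by ring, aeval_mul_apply,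
        mem_K.1 hw, map_zero]
    · rw [← LinearMap.add_apply, ← map_add, add_comm (b * q), hab, map_one, Module.End.one_apply]
  · rintro x ⟨h1, -⟩ ⟨h2, -⟩
    have h3 : aeval T (a * p + b * q) x = x := by rw [hab, map_one, Module.End.one_apply]
    rw [← h3, map_add, LinearMap.add_apply, aeval_mul_apply, aeval_mul_apply, mem_K.1 h1, mem_K.1 h2, map_zero, map_zero,
      add_zero]

theorem dvd_K {d : ℕ} {p : F[X]} (hp : ∀ q : F[X], q.Monic → Irreducible q → q ∣ p → d ∣ q.natDegree)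
    {T : Module.End F E} {W Z : Submodule F E} (hW : W ≤ K T p) (hWT : ∀ w ∈ W, T w ∈ W) (hZ : ∀ z ∈ Z, T z ∈ Z) :
    d ∣ finrank F ↥(W ⊓ Z) :=
  dvd_sub hp (T := T) (fun w hw => ⟨hWT w hw.1, hZ w hw.2⟩) fun _ hw => mem_K.1 (hW hw.1)

theorem eg_stab {T f : Module.End F E} (h : ∀ x, f (T x) = T (f x)) (c : F) : ∀ x ∈ eg f c, T x ∈ eg f c := by
  intro x hx
  rw [mem_eg] at hx ⊢
  rw [h, hx, map_smul]

theorem inf_stab {T : Module.End F E} {A B : Submodule F E} (hA : ∀ x ∈ A, T x ∈ A) (hB : ∀ x ∈ B, T x ∈ B) :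
    ∀ x ∈ A ⊓ B, T x ∈ A ⊓ B := fun x hx => ⟨hA x hx.1, hB x hx.2⟩

end gen

/-! ### elements of `A₆` -/

/-- the element `(0 1 2 3)(4 5)` -/
def b0 : ↥(alternatingGroup (Fin 6)) := ⟨swap 0 1 * swap 1 2 * swap 2 3 * swap 4 5, by
  rw [Equiv.Perm.mem_alternatingGroup]; decide⟩

/-- the element `(0 2)(4 5)` -/
def t0 : ↥(alternatingGroup (Fin 6)) := ⟨swap 0 2 * swap 4 5, by rw [Equiv.Perm.mem_alternatingGroup]; decide⟩

theorem b0_pow : b0 * b0 * b0 * b0 = 1 := by decide
theorem b0_sq_ne : b0 * b0 ≠ 1 := by decide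
theorem t0_sq : t0 * t0 = 1 := by decide
theorem t0_ne : t0 ≠ 1 := by decide
theorem tb_sq : (t0 * b0) * (t0 * b0) = 1 := by decide
theorem tb_ne : t0 * b0 ≠ 1 := by decide
theorem t0_b0 : t0 * b0 = b0 * b0 * b0 * t0 := by decide

theorem ord_two {G : Type*} [Group G] {x : G} (h : x * x = 1) (h1 : x ≠ 1) : orderOf x = 2 :=
  orderOf_eq_prime (by rw [pow_two]; exact h) h1

theorem ord_b0 : orderOf b0 = 4 := by
  have h : orderOf b0 = 2 ^ (1 + 1) := orderOf_eq_prime_pow (by rw [pow_one, pow_two]; exact b0_sq_ne)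
    (by rw [show 2 ^ (1 + 1) = 4 from rfl, pow_succ, pow_succ, pow_two]; exact b0_pow)
  exact h

section rep

variable {F : Type u} [Field F] {E : Type v} [AddCommGroup E] [Module F E] [FiniteDimensional F E]
variable {ρ : Representation F ↥(alternatingGroup (Fin 6)) E}

theorem ev_sub {W : Submodule F E} (hW : ∀ g, ∀ x ∈ W, ρ g x ∈ W) (g : ↥(alternatingGroup (Fin 6))) (c : F) :
    ev (subRep ρ W hW g) c = finrank F ↥(W ⊓ eg (ρ g) c) := by
  have h1 : (W ⊓ eg (ρ g) c) = (Module.End.eigenspace (subRep ρ W hW g) c).map W.subtype := by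
    ext x
    constructor
    · rintro ⟨hx, hx'⟩
      refine ⟨⟨x, hx⟩, ?_, rfl⟩
      rw [SetLike.mem_coe, Module.End.mem_eigenspace_iff]
      exact Subtype.ext (mem_eg.1 hx')
    · rintro ⟨y, hy, rfl⟩
      refine ⟨y.2, ?_⟩
      rw [SetLike.mem_coe, Module.End.mem_eigenspace_iff] at hy
      rw [SetLike.mem_coe, mem_eg]
      have h2 := congrArg Subtype.val hy
      exact h2
  rw [h1, ev, Submodule.finrank_map_subtype_eq]

/-- the numbers of a submodule -/
structure Nm (ρ : Representation F ↥(alternatingGroup (Fin 6)) E) (W : Submodule F E) (C D k : ℕ) : Prop where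
  fc : finrank F ↥(W ⊓ eg (ρ b0) 1) = C
  fe : finrank F ↥(W ⊓ (eg (ρ b0) (-1) ⊓ eg (ρ t0) 1)) = D
  fk : finrank F ↥(W ⊓ (eg (ρ b0) 1 ⊓ eg (ρ t0) (-1))) = k
  dim : finrank F ↥W = C + 4 * D + 2 * k
  le : k ≤ C

/-- the dihedral relations for a submodule -/
theorem nm_of (h2 : (2 : F) ≠ 0) {i : F} (hi : i * i = -1) {W : Submodule F E} (hW : ∀ g, ∀ x ∈ W, ρ g x ∈ W)
    (h : ∀ x y : ↥(alternatingGroup (Fin 6)), orderOf x = 2 → orderOf y = 2 →
      finrank F ↥(W ⊓ eg (ρ x) 1) = finrank F ↥(W ⊓ eg (ρ y) 1)) : ∃ C D k, Nm ρ W C D k ∧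
      finrank F ↥(W ⊓ eg (ρ (b0 * b0)) 1) = C + 2 * D := by
  have hg4 : ∀ w ∈ W, ρ b0 (ρ b0 (ρ b0 (ρ b0 w))) = w := by
    intro w _
    rw [← Module.End.mul_apply, ← Module.End.mul_apply, ← Module.End.mul_apply, ← map_mul, ← map_mul, ← map_mul, b0_pow,
      map_one, Module.End.one_apply]
  have ht2 : ∀ w ∈ W, ρ t0 (ρ t0 w) = w := by
    intro w _
    rw [← Module.End.mul_apply, ← map_mul, t0_sq, map_one, Module.End.one_apply]
  have htg : ∀ w ∈ W, ρ t0 (ρ b0 w) = ρ b0 (ρ b0 (ρ b0 (ρ t0 w))) := by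
    intro w _
    rw [← Module.End.mul_apply, ← map_mul, t0_b0, map_mul, map_mul, map_mul]
    rfl
  have h1 := dih h2 hi (W := W) (g := ρ b0) (t := ρ t0) (hW b0) (hW t0) hg4 ht2 htg
    (by rw [← map_mul]; exact h _ _ (ord_two (by rw [← mul_assoc]; exact b0_pow) b0_sq_ne) (ord_two t0_sq t0_ne))
    (by rw [← map_mul]; exact h _ _ (ord_two tb_sq tb_ne) (ord_two t0_sq t0_ne))
  obtain ⟨e1, e2, e3, e4⟩ := h1
  refine ⟨_, _, _, ⟨rfl, rfl, rfl, ?_, ?_⟩, ?_⟩
  · rw [← inf_assoc, ← inf_assoc]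
    omega
  · rw [← inf_assoc]
    exact e3
  · rw [map_mul, ← inf_assoc]
    exact e4

/-- additivity -/
theorem nm_add {T : Module.End F E} (hT : ∀ g x, ρ g (T x) = T (ρ g x)) {p q : F[X]} (h : IsCoprime p q)
    {C D k C1 D1 k1 C2 D2 k2 : ℕ} (h0 : Nm ρ (K T (p * q)) C D k) (h1 : Nm ρ (K T p) C1 D1 k1)
    (h2 : Nm ρ (K T q) C2 D2 k2) : C = C1 + C2 ∧ D = D1 + D2 ∧ k = k1 + k2 := by
  refine ⟨?_, ?_, ?_⟩
  · rw [← h0.fc, ← h1.fc, ← h2.fc]
    exact split_K h (eg_stab (hT b0) _)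
  · rw [← h0.fe, ← h1.fe, ← h2.fe]
    exact split_K h (inf_stab (eg_stab (hT b0) _) (eg_stab (hT t0) _))
  · rw [← h0.fk, ← h1.fk, ← h2.fk]
    exact split_K h (inf_stab (eg_stab (hT b0) _) (eg_stab (hT t0) _))

/-- divisibility -/
theorem nm_dvd {d : ℕ} {p : F[X]} (hp : ∀ q : F[X], q.Monic → Irreducible q → q ∣ p → d ∣ q.natDegree)
    {T : Module.End F E} (hT : ∀ g x, ρ g (T x) = T (ρ g x)) {W : Submodule F E} (hW : W ≤ K T p)
    (hWT : ∀ w ∈ W, T w ∈ W) {C D k : ℕ} (h : Nm ρ W C D k) : d ∣ C ∧ d ∣ D ∧ d ∣ k := by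
  refine ⟨?_, ?_, ?_⟩
  · rw [← h.fc]
    exact dvd_K hp hW hWT (eg_stab (hT b0) _)
  · rw [← h.fe]
    exact dvd_K hp hW hWT (inf_stab (eg_stab (hT b0) _) (eg_stab (hT t0) _))
  · rw [← h.fk]
    exact dvd_K hp hW hWT (inf_stab (eg_stab (hT b0) _) (eg_stab (hT t0) _))

/-- the pressure in terms of the numbers -/
theorem nm_mu (h2 : (2 : F) ≠ 0) {i : F} (hi : i * i = -1) {τ : F} {a : ↥(alternatingGroup (Fin 6))} {W : Submodule F E}
    (hW : ∀ g, ∀ x ∈ W, ρ g x ∈ W) {n na nb m l : ℕ} (hmu : Mu (subRep ρ W hW) τ a n na nb m l) :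
    Nm ρ W (n + na + nb + 3 * l) (m + l) (na + nb + l) := by
  obtain ⟨C, D, k, h1, h3⟩ := nm_of h2 hi hW (by
    intro x y hx hy
    rw [← ev_sub hW, ← ev_sub hW, hmu.two x hx, hmu.two y hy])
  have e1 := h1.fc
  rw [← ev_sub hW, hmu.four b0 ord_b0] at e1
  rw [← ev_sub hW, hmu.two _ (ord_two (by rw [← mul_assoc]; exact b0_pow) b0_sq_ne)] at h3
  have e2 := h1.dim
  rw [hmu.dim] at e2
  have a1 : C = n + na + nb + 3 * l := e1.symm
  have a2 : D = m + l := by omega
  have a3 : k = na + nb + l := by (clear * - h3 e1 e2; solve | lia | omega)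
  rw [a1, a2, a3] at h1
  exact h1

end rep

end Cfsg.Agent.R2.T2.Orb
end

-- part: R2/T2/Orb/Ext
section
/-!
# S5929, orbit box: the last case (helper2)

`L11` : if `W = ker p(T)` has the numbers `(d, d, 0)` and all irreducible factors of `p` have degree divisible by `d`, the
form is nondegenerate on `W` and there are no invariants, then there is no submodule of `W` without fixed vectors of `b0`.
-/

set_option autoImplicit false
set_option linter.unusedSectionVars false

namespace Cfsg.Agent.R2.T2.Orb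

open Module Polynomial Equiv
open Cfsg.Agent.H943.RepAdd (subRep coe_subRep)
open Cfsg.Agent.H952.F4 (ev)
open Cfsg.Agent.R2.T1.N6L (Mu)

universe u v

section

variable {F : Type u} [Field F] {E : Type v} [AddCommGroup E] [Module F E] [FiniteDimensional F E]
variable {ρ : Representation F ↥(alternatingGroup (Fin 6)) E}

/-- the submodule generated under `T` -/
def gen (T : Module.End F E) (S : Submodule F E) : Submodule F E := ⨆ n : ℕ, S.map (T ^ n)

theorem le_gen (T : Module.End F E) (S : Submodule F E) : S ≤ gen T S := by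
  have h := le_iSup (fun n : ℕ => S.map (T ^ n)) 0
  rw [pow_zero] at h
  intro x hx
  exact h ⟨x, hx, rfl⟩

theorem gen_le {T : Module.End F E} {S W : Submodule F E} (hS : S ≤ W) (hW : ∀ x ∈ W, T x ∈ W) : gen T S ≤ W := by
  refine iSup_le fun n => ?_
  rintro _ ⟨x, hx, rfl⟩
  induction n with
  | zero => exact hS hx
  | succ n ih => rw [pow_succ', Module.End.mul_apply]; exact hW _ ih

theorem map_gen_le {T f : Module.End F E} {S : Submodule F E} (hf : ∀ x, f (T x) = T (f x)) (h : S.map f ≤ S) :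
    (gen T S).map f ≤ gen T S := by
  rw [gen, Submodule.map_iSup]
  refine iSup_mono fun n => ?_
  rintro _ ⟨_, ⟨x, hx, rfl⟩, rfl⟩
  have h1 : ∀ (n : ℕ) (y : E), f ((T ^ n) y) = (T ^ n) (f y) := by
    intro n
    induction n with
    | zero => intro y; rfl
    | succ n ih => intro y; rw [pow_succ, Module.End.mul_apply, Module.End.mul_apply, ih, hf]
  rw [h1]
  exact ⟨f x, h ⟨x, hx, rfl⟩, rfl⟩

theorem le_map_gen {T f : Module.End F E} {S : Submodule F E} (hf : ∀ x, f (T x) = T (f x)) (h : S ≤ S.map f) :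
    gen T S ≤ (gen T S).map f := by
  rw [gen, Submodule.map_iSup]
  refine iSup_mono fun n => ?_
  rintro _ ⟨x, hx, rfl⟩
  have h1 : ∀ (n : ℕ) (y : E), f ((T ^ n) y) = (T ^ n) (f y) := by
    intro n
    induction n with
    | zero => intro y; rfl
    | succ n ih => intro y; rw [pow_succ, Module.End.mul_apply, Module.End.mul_apply, ih, hf]
  obtain ⟨y, hy, rfl⟩ := h hx
  exact ⟨(T ^ n) y, ⟨y, hy, rfl⟩, h1 n y⟩

theorem gen_stab (T : Module.End F E) (S : Submodule F E) : ∀ x ∈ gen T S, T x ∈ gen T S := by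
  have h : (gen T S).map T ≤ gen T S := by
    rw [gen, Submodule.map_iSup]
    refine iSup_le fun n => ?_
    refine le_trans ?_ (le_iSup (fun n : ℕ => S.map (T ^ n)) (n + 1))
    rintro _ ⟨_, ⟨x, hx, rfl⟩, rfl⟩
    refine ⟨x, hx, ?_⟩
    rw [pow_succ', Module.End.mul_apply]
  intro x hx
  exact h ⟨x, hx, rfl⟩

/-- dimension of the image of `g - 1` -/
theorem fr_map_sub (W : Submodule F E) (f : Module.End F E) :
    finrank F ↥(W.map (f - 1)) + finrank F ↥(W ⊓ eg f 1) = finrank F ↥W := by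
  have h := LinearMap.finrank_range_add_finrank_ker ((f - 1).domRestrict W)
  have h1 : LinearMap.range ((f - 1).domRestrict W) = W.map (f - 1) := by
    ext x
    constructor
    · rintro ⟨y, rfl⟩
      exact ⟨y, y.2, rfl⟩
    · rintro ⟨y, hy, rfl⟩
      exact ⟨⟨y, hy⟩, rfl⟩
  have h2 : finrank F ↥(LinearMap.ker ((f - 1).domRestrict W)) = finrank F ↥(W ⊓ eg f 1) := by
    have h3 : W ⊓ eg f 1 = (LinearMap.ker ((f - 1).domRestrict W)).map W.subtype := by
      ext x
      constructor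
      · rintro ⟨hx, hx'⟩
        refine ⟨⟨x, hx⟩, ?_, rfl⟩
        rw [SetLike.mem_coe, LinearMap.mem_ker]
        show (f - 1) x = 0
        rw [LinearMap.sub_apply, Module.End.one_apply, mem_eg1.1 hx', sub_self]
      · rintro ⟨y, hy, rfl⟩
        refine ⟨y.2, ?_⟩
        rw [SetLike.mem_coe, LinearMap.mem_ker] at hy
        have h4 : (f - 1) (y : E) = 0 := hy
        rw [LinearMap.sub_apply, Module.End.one_apply, sub_eq_zero] at h4
        exact mem_eg1.2 h4
    rw [h3, Submodule.finrank_map_subtype_eq]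
  rw [← h1, ← h2]
  exact h

/-- a subspace of smaller dimension has a nonzero vector orthogonal to it -/
theorem exists_perp (B : E →ₗ[F] E →ₗ[F] F) {T0 W : Submodule F E} (h : finrank F T0 < finrank F W) :
    ∃ y ∈ W, y ≠ 0 ∧ ∀ t ∈ T0, B t y = 0 := by
  let f : W →ₗ[F] Module.Dual F T0 :=
    { toFun := fun y => (B.flip y).comp T0.subtype
      map_add' := fun a b => by
        rw [Submodule.coe_add, map_add]
        rfl
      map_smul' := fun c a => by
        rw [Submodule.coe_smul, map_smul]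
        rfl }
  have h1 : LinearMap.ker f ≠ ⊥ := by
    apply LinearMap.ker_ne_bot_of_finrank_lt
    rw [Subspace.dual_finrank_eq]
    exact h
  obtain ⟨y, hy, hy0⟩ := (Submodule.ne_bot_iff _).1 h1
  refine ⟨y, y.2, fun h2 => hy0 (Subtype.ext h2), fun t ht => ?_⟩
  exact LinearMap.congr_fun (LinearMap.mem_ker.1 hy) ⟨t, ht⟩

/-- `A₆` is generated by the conjugates of `b0` -/
theorem all_of_b0 (N : Subgroup ↥(alternatingGroup (Fin 6))) [hN : N.Normal] (h : b0 ∈ N) : N = ⊤ := by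
  have hs : IsSimpleGroup ↥(alternatingGroup (Fin 6)) := alternatingGroup.isSimpleGroup (by rw [Nat.card_fin]; norm_num)
  rcases hs.eq_bot_or_eq_top_of_normal N hN with h1 | h1
  · rw [h1, Subgroup.mem_bot] at h
    exact absurd h (by decide)
  · exact h1

theorem L11 {d : ℕ} (hd0 : 0 < d) {T : Module.End F E} (hT : ∀ g x, ρ g (T x) = T (ρ g x)) {p q : F[X]}
    (hcop : IsCoprime p q) (htop : K T (p * q) = ⊤)
    (hfac : ∀ r : F[X], r.Monic → Irreducible r → r ∣ p → d ∣ r.natDegree) (B : E →ₗ[F] E →ₗ[F] F)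
    (hB : ∀ g x y, B (ρ g x) (ρ g y) = B x y) (hnd : ∀ y, (∀ x, B x y = 0) → y = 0)
    (hadj : ∀ x y, B (aeval T p x) y = B x (aeval T p y)) (hinv : ∀ y, (∀ g, ρ g y = y) → y = 0)
    (hnm : Nm ρ (K T p) d d 0) (hsub : ∀ W : Submodule F E, (∀ g, ∀ x ∈ W, ρ g x ∈ W) → ∃ C D k, Nm ρ W C D k)
    {S : Submodule F E} (hSW : S ≤ K T p) (hS0 : S ≠ ⊥) (hS : ∀ g, ∀ x ∈ S, ρ g x ∈ S)
    (hSb : S ⊓ eg (ρ b0) 1 = ⊥) : False := by
  -- orthogonality
  have horth : ∀ y ∈ K T p, (∀ x ∈ K T p, B x y = 0) → y = 0 := by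
    intro y hy h
    refine hnd y fun x => ?_
    obtain ⟨a, b, hab⟩ := hcop
    have h1 : aeval T (a * p + b * q) x = x := by rw [hab, map_one, Module.End.one_apply]
    rw [← h1, map_add, LinearMap.add_apply, map_add, LinearMap.add_apply, mul_comm a p, aeval_mul_apply, hadj,
      mem_K.1 hy, map_zero, zero_add]
    refine h _ ?_
    rw [mem_K, ← aeval_mul_apply, show p * (b * q) = b * (p * q) by ring, aeval_mul_apply]
    have h2 : x ∈ K T (p * q) := by rw [htop]; trivial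
    rw [mem_K.1 h2, map_zero]
  set! T0 := gen T S with hT0
  have hT0W : T0 ≤ K T p := gen_le hSW (K_stab T p)
  have hT0T : ∀ x ∈ T0, T x ∈ T0 := gen_stab T S
  have hT0g : ∀ g, ∀ x ∈ T0, ρ g x ∈ T0 := by
    intro g x hx
    refine map_gen_le (hT g) ?_ ⟨x, hx, rfl⟩
    rintro _ ⟨y, hy, rfl⟩
    exact hS g y hy
  have hcomm1 : ∀ x, (ρ b0 - 1) (T x) = T ((ρ b0 - 1) x) := by
    intro x
    rw [LinearMap.sub_apply, LinearMap.sub_apply, Module.End.one_apply, Module.End.one_apply, hT, map_sub]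
  -- `b0 - 1` is bijective on `S`
  have hS1 : S ≤ S.map (ρ b0 - 1) := by
    have h1 : S.map (ρ b0 - 1) ≤ S := by
      rintro _ ⟨y, hy, rfl⟩
      exact S.sub_mem (hS b0 y hy) hy
    have h2 := fr_map_sub S (ρ b0)
    rw [hSb, finrank_bot, add_zero] at h2
    rw [Submodule.eq_of_le_of_finrank_eq h1 h2]
  have hT1 : T0 ≤ T0.map (ρ b0 - 1) := le_map_gen hcomm1 hS1
  have hT2 : T0.map (ρ b0 - 1) ≤ T0 := by
    rintro _ ⟨y, hy, rfl⟩
    exact T0.sub_mem (hT0g b0 y hy) hy
  have hT3 : finrank F ↥(T0 ⊓ eg (ρ b0) 1) = 0 := by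
    have h2 := fr_map_sub T0 (ρ b0)
    rw [le_antisymm hT2 hT1] at h2
    omega
  obtain ⟨C, D, k, hn⟩ := hsub T0 hT0g
  have hC : C = 0 := by rw [← hn.fc, hT3]
  have hk : k = 0 := by have := hn.le; omega
  obtain ⟨-, hD, -⟩ := nm_dvd hfac hT hT0W hT0T hn
  have hdim := hn.dim
  have hT00 : finrank F ↥T0 ≠ 0 := by
    intro h
    apply hS0
    rw [eq_bot_iff, ← Submodule.finrank_eq_zero.1 h]
    exact le_gen T S
  have hDd : d ≤ D := Nat.le_of_dvd (by omega) hD
  -- `T0 = (b0 - 1) W`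
  have hW1 := fr_map_sub (K T p) (ρ b0)
  rw [hnm.fc, hnm.dim] at hW1
  have hle : T0 ≤ (K T p).map (ρ b0 - 1) := hT1.trans (Submodule.map_mono hT0W)
  have heq : T0 = (K T p).map (ρ b0 - 1) := Submodule.eq_of_le_of_finrank_le hle (by omega)
  have hlt : finrank F ↥T0 < finrank F ↥(K T p) := by
    rw [heq, hnm.dim]
    omega
  -- the action on `W / T0` is trivial
  let N : Subgroup ↥(alternatingGroup (Fin 6)) :=
    { carrier := {g | ∀ w ∈ K T p, ρ g w - w ∈ T0}
      one_mem' := fun w _ => by rw [map_one, Module.End.one_apply, sub_self]; exact T0.zero_mem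
      mul_mem' := by
        intro a b ha hb w hw
        rw [map_mul, Module.End.mul_apply]
        have h1 := ha _ (K_comm (hT b) p w hw)
        have h2 := T0.add_mem h1 (hb w hw)
        rwa [sub_add_sub_cancel] at h2
      inv_mem' := by
        intro a ha w hw
        have h1 := ha _ (K_comm (hT a⁻¹) p w hw)
        rw [← Module.End.mul_apply, ← map_mul, mul_inv_cancel, map_one, Module.End.one_apply] at h1
        have h2 := T0.neg_mem h1
        rwa [neg_sub] at h2 }
  have hN : N.Normal := by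
    constructor
    intro n hn g w hw
    rw [map_mul, map_mul, Module.End.mul_apply, Module.End.mul_apply]
    have h1 := hT0g g _ (hn _ (K_comm (hT g⁻¹) p w hw))
    rw [map_sub] at h1
    have h3 : ρ g (ρ g⁻¹ w) = w := by
      rw [← Module.End.mul_apply, ← map_mul, mul_inv_cancel, map_one, Module.End.one_apply]
    rwa [h3] at h1
  have hNt := all_of_b0 N (by
    intro w hw
    rw [heq]
    exact ⟨w, hw, by rw [LinearMap.sub_apply, Module.End.one_apply]⟩)
  have hNt' : ∀ g, ∀ w ∈ K T p, ρ g w - w ∈ T0 := by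
    intro g
    have h1 : g ∈ N := by rw [hNt]; trivial
    exact h1
  obtain ⟨y, hy, hy0, hyt⟩ := exists_perp B hlt
  apply hy0
  refine hinv y fun g => ?_
  rw [← sub_eq_zero]
  refine horth _ ((K T p).sub_mem (K_comm (hT g) p y hy) hy) fun x hx => ?_
  have h1 : B x (ρ g y) = B (ρ g⁻¹ x) y := by
    rw [← hB g⁻¹ x (ρ g y), ← Module.End.mul_apply (ρ g⁻¹), ← map_mul, inv_mul_cancel, map_one, Module.End.one_apply]
  rw [map_sub, h1, ← LinearMap.sub_apply, ← map_sub]
  exact hyt _ (hNt' g⁻¹ x hx)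

end

end Cfsg.Agent.R2.T2.Orb
end

-- part: R2/T2/Orb/Last
section
/-!
# S5929, orbit box: the multiplicity step for `p = 3` (helper2)
-/

set_option autoImplicit false
set_option linter.unusedSectionVars false

namespace Cfsg.Agent.R2.T2.Orb

open Module Polynomial Equiv
open Cfsg.Agent.H943.RepAdd (subRep coe_subRep)
open Cfsg.Agent.H952.F4 (ev)
open Cfsg.Agent.R2.T1.N6L (Mu)

universe u v

section poly

variable {F : Type u} [Field F]

theorem cop_X {r : F[X]} (h : r.coeff 0 ≠ 0) : IsCoprime X r := by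
  rw [Irreducible.coprime_iff_not_dvd irreducible_X, X_dvd_iff]
  exact h

theorem cop_pm (h2 : (2 : F) ≠ 0) {c : F} (hc : c ≠ 0) : IsCoprime (X ^ 4 - C c : F[X]) (X ^ 4 + C c) := by
  refine ⟨C (-(2 * c)⁻¹), C (2 * c)⁻¹, ?_⟩
  have h : (2 * c)⁻¹ * (2 * c) = 1 := inv_mul_cancel₀ (mul_ne_zero h2 hc)
  have h3 : C ((2 * c)⁻¹) * (C 2 * C c) = (1 : F[X]) := by rw [← C_mul, ← C_mul, h, C_1]
  rw [show (C 2 : F[X]) = 2 from rfl] at h3
  rw [C_neg]
  linear_combination h3

end poly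

section

variable {F : Type u} [Field F] {E : Type v} [AddCommGroup E] [Module F E] [FiniteDimensional F E]
variable {ρ : Representation F ↥(alternatingGroup (Fin 6)) E}

/-- a submodule without fixed vectors of `b0` -/
theorem small_sub (h2 : (2 : F) ≠ 0) {i : F} (hi : i * i = -1) {τ : F} {a : ↥(alternatingGroup (Fin 6))}
    (hinv : ∀ y, (∀ g, ρ g y = y) → y = 0) {W : Submodule F E} (hW : ∀ g, ∀ x ∈ W, ρ g x ∈ W) {C D : ℕ}
    (hnm : Nm ρ W C D 0) {W' : Submodule F ↥W} (hW' : ∀ g, ∀ x ∈ W', subRep ρ W hW g x ∈ W') (hW0 : W' ≠ ⊥)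
    {n na nb m l : ℕ} (hs : n + na + nb + m + l = 1) (hmu : Mu (subRep (subRep ρ W hW) W' hW') τ a n na nb m l) :
    ∃ S ≤ W, S ≠ ⊥ ∧ (∀ g, ∀ x ∈ S, ρ g x ∈ S) ∧ S ⊓ eg (ρ b0) 1 = ⊥ := by
  have hn := nm_mu h2 hi hW' hmu
  have hk : na + nb + l = 0 := by
    rw [← hn.fk, Submodule.finrank_eq_zero, eq_bot_iff]
    rintro x ⟨-, hx1, hx2⟩
    have h1 := hnm.fk
    rw [Submodule.finrank_eq_zero] at h1
    rw [SetLike.mem_coe, mem_eg] at hx1 hx2
    have h3 : (x : E) ∈ W ⊓ (eg (ρ b0) 1 ⊓ eg (ρ t0) (-1)) :=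
      ⟨x.2, mem_eg.2 (congrArg Subtype.val hx1), mem_eg.2 (congrArg Subtype.val hx2)⟩
    rw [h1, Submodule.mem_bot] at h3
    exact (Submodule.mem_bot F).2 (Subtype.ext h3)
  have hn0 : n = 0 := by
    by_contra hne
    have h1 := hmu.press
    have h3 : finrank F ↥(Representation.invariants (subRep (subRep ρ W hW) W' hW')) ≠ 0 := by omega
    apply h3
    rw [Submodule.finrank_eq_zero, eq_bot_iff]
    intro x hx
    have h4 : ((x : ↥W) : E) = 0 := by
      refine hinv _ fun g => ?_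
      exact congrArg (fun z : ↥W' => ((z : ↥W) : E)) (hx g)
    exact (Submodule.mem_bot F).2 (Subtype.ext (Subtype.ext h4))
  have hfc := hn.fc
  rw [show n + na + nb + 3 * l = 0 by omega, Submodule.finrank_eq_zero] at hfc
  refine ⟨W'.map W.subtype, Submodule.map_subtype_le W W', ?_, ?_, ?_⟩
  · obtain ⟨x, hx, hx0⟩ := (Submodule.ne_bot_iff _).1 hW0
    exact (Submodule.ne_bot_iff _).2 ⟨x, ⟨x, hx, rfl⟩, fun h => hx0 (Subtype.ext h)⟩
  · rintro g _ ⟨x, hx, rfl⟩
    exact ⟨subRep ρ W hW g x, hW' g x hx, rfl⟩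
  · rw [eq_bot_iff]
    rintro _ ⟨⟨x, hx, rfl⟩, hx1⟩
    rw [SetLike.mem_coe, mem_eg] at hx1
    have h3 : x ∈ W' ⊓ eg (subRep ρ W hW b0) 1 := ⟨hx, mem_eg.2 (Subtype.ext hx1)⟩
    rw [hfc, Submodule.mem_bot] at h3
    rw [h3]
    exact Submodule.zero_mem _

/-- the numbers of a submodule, with the pressure -/
theorem nm_press (h2 : (2 : F) ≠ 0) {i : F} (hi : i * i = -1) {τ : F} {a : ↥(alternatingGroup (Fin 6))}
    (hinv : ∀ y, (∀ g, ρ g y = y) → y = 0)
    (hmu : ∀ (W : Submodule F E) (hW : ∀ g, ∀ x ∈ W, ρ g x ∈ W), ∃ n na nb m l, Mu (subRep ρ W hW) τ a n na nb m l)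
    {W : Submodule F E} (hW : ∀ g, ∀ x ∈ W, ρ g x ∈ W) : ∃ C D k, Nm ρ W C D k ∧ C ≤ k + 2 * D := by
  obtain ⟨n, na, nb, m, l, h⟩ := hmu W hW
  refine ⟨_, _, _, nm_mu h2 hi hW h, ?_⟩
  have h1 := h.press
  have h3 : finrank F ↥(Representation.invariants (subRep ρ W hW)) = 0 := by
    rw [Submodule.finrank_eq_zero, eq_bot_iff]
    intro x hx
    have h4 : (x : E) = 0 := by
      refine hinv _ fun g => ?_
      exact congrArg Subtype.val (hx g)
    exact (Submodule.mem_bot F).2 (Subtype.ext h4)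
  omega

/-- the trace of `T ^ 4` -/
theorem trace_four [CharP F 3] (h2 : (2 : F) ≠ 0) {T : Module.End F E} {c : F} (hc : c ≠ 0)
    (h : K T (X * ((X ^ 4 - C c) * (X ^ 4 + C c))) = ⊤) (htr : LinearMap.trace F E (T ^ 4) = 0) :
    finrank F ↥(K T (X ^ 4 - C c)) % 3 = finrank F ↥(K T (X ^ 4 + C c)) % 3 := by
  have hz : ∀ x, aeval T (X * ((X ^ 4 - C c) * (X ^ 4 + C c))) x = 0 := by
    intro x
    have h1 : x ∈ K T (X * ((X ^ 4 - C c) * (X ^ 4 + C c))) := by rw [h]; trivial
    exact h1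
  have h2c : (2 * c)⁻¹ * (2 * c) = 1 := inv_mul_cancel₀ (mul_ne_zero h2 hc)
  have p1 : LinearMap.IsProj (K T (X ^ 4 - C c)) (aeval T (C ((2 * c ^ 2)⁻¹) * (X ^ 4 * (X ^ 4 + C c)))) := by
    constructor
    · intro x
      rw [mem_K, ← aeval_mul_apply, show (X ^ 4 - C c) * (C ((2 * c ^ 2)⁻¹) * (X ^ 4 * (X ^ 4 + C c))) =
        (C ((2 * c ^ 2)⁻¹) * X ^ 3) * (X * ((X ^ 4 - C c) * (X ^ 4 + C c))) by ring, aeval_mul_apply, hz, map_zero]
    · intro x hx
      have h1 : aeval T (C ((2 * c ^ 2)⁻¹) * (X ^ 4 * (X ^ 4 + C c))) x =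
          aeval T ((C ((2 * c ^ 2)⁻¹) * (X ^ 4 + C (2 * c))) * (X ^ 4 - C c) + C 1) x := by
        congr 2
        have h3 : C ((2 * c ^ 2)⁻¹) * C (2 * c ^ 2) = (1 : F[X]) := by
          rw [← C_mul, inv_mul_cancel₀ (mul_ne_zero h2 (pow_ne_zero 2 hc)), C_1]
        rw [C_mul, C_pow] at h3
        rw [C_mul, C_1]
        rw [show (C 2 : F[X]) = 2 from rfl] at h3 ⊢
        linear_combination h3
      rw [h1, map_add, LinearMap.add_apply, aeval_mul_apply, mem_K.1 hx, map_zero, zero_add, C_1, map_one,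
        Module.End.one_apply]
  have p2 : LinearMap.IsProj (K T (X ^ 4 + C c)) (aeval T (C ((2 * c ^ 2)⁻¹) * (X ^ 4 * (X ^ 4 - C c)))) := by
    constructor
    · intro x
      rw [mem_K, ← aeval_mul_apply, show (X ^ 4 + C c) * (C ((2 * c ^ 2)⁻¹) * (X ^ 4 * (X ^ 4 - C c))) =
        (C ((2 * c ^ 2)⁻¹) * X ^ 3) * (X * ((X ^ 4 - C c) * (X ^ 4 + C c))) by ring, aeval_mul_apply, hz, map_zero]
    · intro x hx
      have h1 : aeval T (C ((2 * c ^ 2)⁻¹) * (X ^ 4 * (X ^ 4 - C c))) x =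
          aeval T ((C ((2 * c ^ 2)⁻¹) * (X ^ 4 - C (2 * c))) * (X ^ 4 + C c) + C 1) x := by
        congr 2
        have h3 : C ((2 * c ^ 2)⁻¹) * C (2 * c ^ 2) = (1 : F[X]) := by
          rw [← C_mul, inv_mul_cancel₀ (mul_ne_zero h2 (pow_ne_zero 2 hc)), C_1]
        rw [C_mul, C_pow] at h3
        rw [C_mul, C_1]
        rw [show (C 2 : F[X]) = 2 from rfl] at h3 ⊢
        linear_combination h3
      rw [h1, map_add, LinearMap.add_apply, aeval_mul_apply, mem_K.1 hx, map_zero, zero_add, C_1, map_one,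
        Module.End.one_apply]
  have hT4 : T ^ 4 = c • aeval T (C ((2 * c ^ 2)⁻¹) * (X ^ 4 * (X ^ 4 + C c))) -
      c • aeval T (C ((2 * c ^ 2)⁻¹) * (X ^ 4 * (X ^ 4 - C c))) := by
    have h1 : (X : F[X]) ^ 4 = C c * (C ((2 * c ^ 2)⁻¹) * (X ^ 4 * (X ^ 4 + C c))) -
        C c * (C ((2 * c ^ 2)⁻¹) * (X ^ 4 * (X ^ 4 - C c))) := by
      have h3 : C ((2 * c ^ 2)⁻¹) * C (2 * c ^ 2) = (1 : F[X]) := by
        rw [← C_mul, inv_mul_cancel₀ (mul_ne_zero h2 (pow_ne_zero 2 hc)), C_1]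
      rw [C_mul, C_pow] at h3
      rw [show (C 2 : F[X]) = 2 from rfl] at h3
      linear_combination -X ^ 4 * h3
    have h4 := congrArg (aeval T) h1
    rw [map_sub, map_mul _ (C c), map_mul _ (C c), aeval_C, map_pow, aeval_X, ← Algebra.smul_def, ← Algebra.smul_def] at h4
    exact h4
  rw [hT4, map_sub, map_smul, map_smul, p1.trace, p2.trace, ← smul_sub, smul_eq_zero] at htr
  have h5 := htr.resolve_left hc
  rw [sub_eq_zero] at h5
  exact (CharP.natCast_eq_natCast F 3).1 h5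

/-- the kernel of the identity polynomial -/
theorem K_X (T : Module.End F E) : K T X = LinearMap.ker T := by rw [K, aeval_X]

theorem adj_pow {B : E →ₗ[F] E →ₗ[F] F} {T : Module.End F E} (h : ∀ x y, B (T x) y = - B x (T y)) :
    ∀ (n : ℕ) (x y : E), B ((T ^ (2 * n)) x) y = B x ((T ^ (2 * n)) y) := by
  intro n
  induction n with
  | zero => intro x y; rfl
  | succ n ih =>
    intro x y
    rw [show 2 * (n + 1) = 2 * n + 2 by ring, pow_add, Module.End.mul_apply, ih, pow_two, Module.End.mul_apply, h, h,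
      neg_neg, ← Module.End.mul_apply, ← pow_two, ← Module.End.mul_apply, ← pow_add, ← pow_add, add_comm]

theorem adj_poly {B : E →ₗ[F] E →ₗ[F] F} {T : Module.End F E} (h : ∀ x y, B (T x) y = - B x (T y)) (n : ℕ) (c : F)
    (x y : E) : B (aeval T (X ^ (2 * n) - C c) x) y = B x (aeval T (X ^ (2 * n) - C c) y) := by
  rw [map_sub, map_pow, aeval_X, aeval_C, LinearMap.sub_apply, LinearMap.sub_apply, Module.algebraMap_end_apply,
    Module.algebraMap_end_apply, map_sub, map_sub, LinearMap.sub_apply, map_smul, map_smul, LinearMap.smul_apply,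
    adj_pow h]

/-- **the multiplicity step** -/
theorem last [Finite F] [CharP F 3] (h2 : (2 : F) ≠ 0) (hF : Nat.card F = 9) {i : F} (hi : i * i = -1) {τ : F}
    {a : ↥(alternatingGroup (Fin 6))} {T : Module.End F E} (hT : ∀ g x, ρ g (T x) = T (ρ g x)) (hdim : finrank F E = 56)
    (hinv : ∀ y, (∀ g, ρ g y = y) → y = 0) (hker : finrank F ↥(LinearMap.ker T) < 32)
    (htr : LinearMap.trace F E (T ^ 4) = 0) (B : E →ₗ[F] E →ₗ[F] F) (hB : ∀ g x y, B (ρ g x) (ρ g y) = B x y)
    (hnd : ∀ y, (∀ x, B x y = 0) → y = 0) (hskew : ∀ x y, B (T x) y = - B x (T y))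
    (hrel : (∃ l : F, T ^ 9 = l • T ∧ (l ^ 2 = -1 ∨ l ^ 4 = -1)) ∨
      (∃ a b c : ZMod 3, (∀ x : ZMod 3, x ^ 3 + a * x ^ 2 + b * x + c ≠ 0) ∧
        T ^ 729 + (a.cast : F) • T ^ 81 + (b.cast : F) • T ^ 9 + (c.cast : F) • T = 0))
    (hmu : ∀ (W : Submodule F E) (hW : ∀ g, ∀ x ∈ W, ρ g x ∈ W), ∃ n na nb m l, Mu (subRep ρ W hW) τ a n na nb m l)
    (hsim : ∀ (W : Submodule F E) (hW : ∀ g, ∀ x ∈ W, ρ g x ∈ W), W ≠ ⊥ → ∃ (W' : Submodule F ↥W)
      (hW' : ∀ g, ∀ x ∈ W', subRep ρ W hW g x ∈ W'), W' ≠ ⊥ ∧ ∃ n na nb m l, n + na + nb + m + l = 1 ∧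
        Mu (subRep (subRep ρ W hW) W' hW') τ a n na nb m l)
    {b : ↥(alternatingGroup (Fin 6))} (hb : orderOf b = 4) (hd : (ev (ρ (b * b)) 1 = 24 ∧ ev (ρ b) 1 = 12) ∨
      (ev (ρ (b * b)) 1 = 32 ∧ ev (ρ b) 1 = 12)) : False := by
  have hK : ∀ p, ∀ g, ∀ x ∈ K T p, ρ g x ∈ K T p := fun p g => K_comm (hT g) p
  have hnp : ∀ {W : Submodule F E} (_ : ∀ g, ∀ x ∈ W, ρ g x ∈ W), ∃ C D k, Nm ρ W C D k ∧ C ≤ k + 2 * D :=
    fun hW => nm_press h2 hi hinv hmu hW
  have hsub : ∀ W : Submodule F E, (∀ g, ∀ x ∈ W, ρ g x ∈ W) → ∃ C D k, Nm ρ W C D k := fun W hW => by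
    obtain ⟨C, D, k, h, -⟩ := hnp hW
    exact ⟨C, D, k, h⟩
  -- the numbers of the module
  have htot : ∀ {W : Submodule F E} (_ : W = ⊤) {C D k : ℕ}, Nm ρ W C D k →
      (C = 12 ∧ D = 6 ∧ k = 10) ∨ (C = 12 ∧ D = 10 ∧ k = 2) := by
    rintro W rfl C D k hn
    have htT : ∀ g, ∀ x ∈ (⊤ : Submodule F E), ρ g x ∈ (⊤ : Submodule F E) := fun _ _ _ => trivial
    obtain ⟨n, na, nb, m, l, hmu1⟩ := hmu ⊤ htT
    have hn1 := nm_mu h2 hi htT hmu1
    have e1 := hmu1.four b hb
    have e2 := hmu1.two (b * b) (by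
      rw [← pow_two, orderOf_pow, hb]; rfl)
    have e3 := hmu1.dim
    have ht : finrank F ↥(⊤ : Submodule F E) = 56 := by rw [finrank_top, hdim]
    rw [ev_sub htT, top_inf_eq] at e1 e2
    have f1 := hn.fc
    have f2 := hn.fe
    have f3 := hn.fk
    rw [hn1.fc] at f1
    rw [hn1.fe] at f2
    rw [hn1.fk] at f3
    rw [ht] at e3
    rcases hd with ⟨d1, d2⟩ | ⟨d1, d2⟩
    · rw [ev] at d1 d2
      rw [d1] at e2
      rw [d2] at e1
      left
      (clear * - e1 e2 e3 f1 f2 f3; solve | lia | omega)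
    · rw [ev] at d1 d2
      rw [d1] at e2
      rw [d2] at e1
      right
      (clear * - e1 e2 e3 f1 f2 f3; solve | lia | omega)
  have hfin : ∀ {d : ℕ} (_ : 0 < d) {p q : F[X]} (_ : IsCoprime p q) (_ : K T (p * q) = ⊤)
      (_ : ∀ r : F[X], r.Monic → Irreducible r → r ∣ p → d ∣ r.natDegree)
      (_ : ∀ x y, B (aeval T p x) y = B x (aeval T p y)) (_ : Nm ρ (K T p) d d 0), False := by
    intro d hd0 p q hcop htop hfac hadj hnm
    have hW0 : K T p ≠ ⊥ := by
      intro h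
      have h1 := hnm.dim
      rw [h, finrank_bot] at h1
      omega
    obtain ⟨W', hW', hW0', n, na, nb, m, l, hs, hmu1⟩ := hsim (K T p) (hK p) hW0
    obtain ⟨S, hSW, hS0, hS, hSb⟩ := small_sub h2 hi hinv (hK p) hnm hW' hW0' hs hmu1
    exact L11 hd0 hT hcop htop hfac B hB hnd hadj hinv hnm hsub hSW hS0 hS hSb
  obtain ⟨C0, D0, k0, n0, pr0⟩ := hnp (hK X)
  have hdim0 := n0.dim
  rw [K_X] at hdim0
  rcases hrel with ⟨l, hl, hl' | hl'⟩ | ⟨a', b', c', hirr, hrel⟩
  · -- `l ^ 2 = -1`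
    obtain ⟨μ, hμ⟩ : ∃ μ : F, μ ^ 2 = l := by
      refine ⟨1 - l, ?_⟩
      have h3 : (3 : F) = 0 := by
        have := CharP.cast_eq_zero F 3
        exact_mod_cast this
      linear_combination hl' - l * h3
    have hμ4 : μ ^ 4 = -1 := by rw [← hl', ← hμ]; ring
    have hμ0 : μ ≠ 0 := by
      rintro rfl
      norm_num at hμ4
    have hμ4' : (-μ) ^ 4 = -1 := by rw [← hμ4]; ring
    have hC : (X ^ 4 + C μ : F[X]) = X ^ 4 - C (-μ) := by rw [C_neg, sub_neg_eq_add]
    have htop : K T (X * ((X ^ 4 - C μ) * (X ^ 4 + C μ))) = ⊤ := by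
      rw [eq_top_iff]
      intro x _
      rw [mem_K, show (X * ((X ^ 4 - C μ) * (X ^ 4 + C μ)) : F[X]) = X ^ 9 - C l * X by rw [← hμ, C_pow]; ring,
        map_sub, map_mul, map_pow, aeval_X, aeval_C, ← Algebra.smul_def, hl, sub_self, LinearMap.zero_apply]
    have cop1 : IsCoprime X ((X ^ 4 - C μ) * (X ^ 4 + C μ)) := cop_X (by
      rw [show ((X ^ 4 - C μ) * (X ^ 4 + C μ) : F[X]) = X ^ 8 - C (μ ^ 2) by rw [C_pow]; ring, coeff_sub, coeff_C_zero,
        coeff_X_pow, if_neg (by norm_num), zero_sub]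
      exact neg_ne_zero.2 (pow_ne_zero 2 hμ0))
    have cop2 : IsCoprime (X ^ 4 - C μ) (X ^ 4 + C μ) := cop_pm h2 hμ0
    obtain ⟨C3, D3, k3, n3⟩ := hsub _ (hK (X * ((X ^ 4 - C μ) * (X ^ 4 + C μ))))
    obtain ⟨C4, D4, k4, n4⟩ := hsub _ (hK ((X ^ 4 - C μ) * (X ^ 4 + C μ)))
    obtain ⟨C1, D1, k1, n1, pr1⟩ := hnp (hK (X ^ 4 - C μ))
    obtain ⟨C2, D2, k2, n2, pr2⟩ := hnp (hK (X ^ 4 + C μ))
    obtain ⟨a1, a2, a3⟩ := nm_add hT cop1 n3 n0 n4
    obtain ⟨a4, a5, a6⟩ := nm_add hT cop2 n4 n1 n2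
    have hf1 : ∀ r : F[X], r.Monic → Irreducible r → r ∣ (X ^ 4 - C μ) → 4 ∣ r.natDegree :=
      fun r _ hr h => deg4 hF h2 hμ4 hr h
    have hf2 : ∀ r : F[X], r.Monic → Irreducible r → r ∣ (X ^ 4 + C μ) → 4 ∣ r.natDegree :=
      fun r _ hr h => deg4 hF h2 hμ4' hr (by rw [← hC]; exact h)
    obtain ⟨⟨x1, b1⟩, ⟨y1, b2⟩, ⟨z1, b3⟩⟩ := nm_dvd hf1 hT le_rfl (K_stab T _) n1
    obtain ⟨⟨x2, b4⟩, ⟨y2, b5⟩, ⟨z2, b6⟩⟩ := nm_dvd hf2 hT le_rfl (K_stab T _) n2
    have htr4 := trace_four h2 hμ0 htop htr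
    rw [n1.dim, n2.dim] at htr4
    have l0 := n0.le
    have l1 := n1.le
    have l2 := n2.le
    have key : C1 = 4 ∧ D1 = 4 ∧ k1 = 0 := by
      subst b1 b2 b3 b4 b5 b6
      rcases htot htop n3 with ⟨t1, t2, t3⟩ | ⟨t1, t2, t3⟩
      · exfalso
        have u1 : z1 ≤ x1 := by (clear * - l1; omega)
        have u2 : z2 ≤ x2 := by omega
        have u3 : x1 + x2 ≤ z1 + z2 := by (clear * - a1 a3 l0 a4 a6 t1 t3; omega)
        obtain rfl : x1 = z1 := by (clear * - a1 a3 l0 l1 a4 a6 l2 t1 t3; omega)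
        obtain rfl : x2 = z2 := by (clear * - a1 a3 l0 a4 l2 t1 t3 a6; omega)
        have u6 : y1 + y2 = 1 := by (clear * - hker hdim0 a1 a2 a3 a4 a5 t1 t2 t3 a6; (solve | lia | omega))
        obtain ⟨rfl, rfl⟩ | ⟨rfl, rfl⟩ : (y1 = 0 ∧ y2 = 1) ∨ (y1 = 1 ∧ y2 = 0) := by (clear * - u6; omega)
        · omega
        · omega
      · obtain rfl : z1 = 0 := by omega
        obtain rfl : z2 = 0 := by omega
        have u1 : x1 + x2 ≤ 2 := by (clear * - a1 a3 l0 a4 t1 t3 a6; omega)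
        have u2 : y1 + y2 = 2 := by (clear * - hker hdim0 a1 a2 a3 l0 a4 a5 t1 t2 t3 a6; (solve | lia | omega))
        have u3 : x1 + x2 = 2 := by (clear * - pr0 a1 a2 a3 l0 a4 a5 t1 t2 t3 a6 u2; (solve | lia | omega))
        obtain rfl : x2 = 2 - x1 := by (clear * - pr0 a1 a2 a3 a4 a5 t1 t2 t3 pr1 pr2 htr4 u2; (solve | lia | omega))
        obtain rfl : y2 = 2 - y1 := by (clear * - hker u2; omega)
        have u4 : y1 ≤ 2 := by (clear * - a2 t1 t2 a5; omega)
        have u5 : x1 ≤ 2 := by (clear * - pr1 u3; omega)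
        interval_cases y1 <;> interval_cases x1 <;> (clear * - htr4 pr1 pr2; omega)
    obtain ⟨rfl, rfl, rfl⟩ := key
    refine hfin (d := 4) (by norm_num) (p := X ^ 4 - C μ) (q := X * (X ^ 4 + C μ)) ?_ ?_ hf1 ?_ n1
    · exact IsCoprime.mul_right (cop1.symm.of_mul_left_left) cop2
    · rw [← htop]; (with_reducible congr 1); ring
    · intro x y
      exact adj_poly hskew 2 μ x y
  · -- `l ^ 4 = -1`
    have hl0 : l ≠ 0 := by
      rintro rfl
      norm_num at hl'
    have htop : K T (X * (X ^ 8 - C l)) = ⊤ := by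
      rw [eq_top_iff]
      intro x _
      rw [mem_K, show (X * (X ^ 8 - C l) : F[X]) = X ^ 9 - C l * X by ring,
        map_sub, map_mul, map_pow, aeval_X, aeval_C, ← Algebra.smul_def, hl, sub_self, LinearMap.zero_apply]
    have cop1 : IsCoprime X (X ^ 8 - C l) := cop_X (by
      rw [coeff_sub, coeff_C_zero, coeff_X_pow, if_neg (by norm_num), zero_sub]
      exact neg_ne_zero.2 hl0)
    obtain ⟨C3, D3, k3, n3⟩ := hsub _ (hK (X * (X ^ 8 - C l)))
    obtain ⟨C1, D1, k1, n1, pr1⟩ := hnp (hK (X ^ 8 - C l))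
    obtain ⟨a1, a2, a3⟩ := nm_add hT cop1 n3 n0 n1
    have hf1 : ∀ r : F[X], r.Monic → Irreducible r → r ∣ (X ^ 8 - C l) → 8 ∣ r.natDegree :=
      fun r _ hr h => deg8 hF h2 hl' hr h
    obtain ⟨⟨x1, b1⟩, ⟨y1, b2⟩, ⟨z1, b3⟩⟩ := nm_dvd hf1 hT le_rfl (K_stab T _) n1
    have l0 := n0.le
    have l1 := n1.le
    have key : C1 = 8 ∧ D1 = 8 ∧ k1 = 0 := by
      rcases htot htop n3 with ⟨t1, t2, t3⟩ | ⟨t1, t2, t3⟩
      · exfalso
        omega
      · (clear * - hker pr0 hdim0 a1 a2 a3 b1 b2 b3 t1 t2 t3; solve | lia | omega)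
    obtain ⟨rfl, rfl, rfl⟩ := key
    refine hfin (d := 8) (by norm_num) (p := X ^ 8 - C l) (q := X) cop1.symm ?_ hf1 ?_ n1
    · rw [← htop]; (with_reducible congr 1); ring
    · intro x y
      exact adj_poly hskew 4 l x y
  · -- the cubic polynomial
    set! r : F[X] := X ^ 728 + C (a'.cast : F) * X ^ 80 + C (b'.cast : F) * X ^ 8 + C (c'.cast : F) with hr
    have hc0 : (c'.cast : F) ≠ 0 := by
      intro h
      have h1 : c' = 0 := by
        have : Fact (Nat.Prime 3) := ⟨by norm_num⟩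
        apply (ZMod.castHom (dvd_refl 3) F).injective
        rw [map_zero, ZMod.castHom_apply, h]
      exact hirr 0 (by rw [h1]; ring)
    have htop : K T (X * r) = ⊤ := by
      rw [eq_top_iff]
      intro x _
      rw [mem_K, show (X * r : F[X]) = X ^ 729 + C (a'.cast : F) * X ^ 81 + C (b'.cast : F) * X ^ 9 +
        C (c'.cast : F) * X by rw [hr]; ring, map_add, map_add, map_add, map_mul, map_mul, map_mul, map_pow, map_pow, map_pow,
        aeval_X, aeval_C, aeval_C, aeval_C, ← Algebra.smul_def, ← Algebra.smul_def, ← Algebra.smul_def, hrel,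
        LinearMap.zero_apply]
    have cop1 : IsCoprime X r := cop_X (by
      rw [hr]
      simpa using hc0)
    obtain ⟨C3, D3, k3, n3⟩ := hsub _ (hK (X * r))
    obtain ⟨C1, D1, k1, n1, pr1⟩ := hnp (hK r)
    obtain ⟨a1, a2, a3⟩ := nm_add hT cop1 n3 n0 n1
    have hf1 : ∀ s : F[X], s.Monic → Irreducible s → s ∣ r → 13 ∣ s.natDegree :=
      fun s _ hs h => deg13 hF hirr hs h
    obtain ⟨⟨x1, b1⟩, ⟨y1, b2⟩, ⟨z1, b3⟩⟩ := nm_dvd hf1 hT le_rfl (K_stab T _) n1
    have l0 := n0.le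
    have l1 := n1.le
    rcases htot htop n3 with ⟨t1, t2, t3⟩ | ⟨t1, t2, t3⟩
    · omega
    · omega

end

end Cfsg.Agent.R2.T2.Orb
end

-- part: R2/T2/Orb/Three
section
/-!
# S5929, orbit box, `p = 3`: no fixed vectors on the adjoint module (helper2)
-/

set_option autoImplicit false
set_option linter.unusedSectionVars false
set_option maxRecDepth 100000

namespace Cfsg.Agent.R2.T2.Orb

open Cfsg Cfsg.Lie Module Matrix
open Cfsg.Agent.R2.T1 Cfsg.Agent.R2.PX Cfsg.Agent.R2.T1.Mu Cfsg.Agent.R2.T2.Alg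
open Cfsg.Agent.H943.E7V.Block (D1 rho)
open Cfsg.Agent.H943.RepAdd (subRep)
open Cfsg.Agent.H952.F4 (ev es MaxAlt)
open Cfsg.Agent.R2.T1.N6L (Dat exists_mu exists_simple)

universe u

variable {F : Type u} [Field F] {H : Subgroup ↥(chevE7.group F)}
variable {φ : ↥(alternatingGroup (Fin 6)) →* ↥(chevE7.group F)} {ψ : ↥(alternatingGroup (Fin 6)) →* Gh F}

/-- **the orbit box for `p = 3`** -/
theorem no_inv_three [Finite F] (hM : MaxAlt H 6 φ) (hL : Lift φ ψ) (h3 : (3 : F) = 0) (hc : Nat.card ↥H ≤ 720)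
    (hq : 9 ≤ Nat.card F) {τ : F} {a b : ↥(alternatingGroup (Fin 6))}
    (hd : Dat ψ τ a b 24 12 12 10 12 ∨ Dat ψ τ a b 32 12 12 12 10) :
    Representation.invariants (MonoidHom.comp (L F) ψ) = ⊥ := by
  by_contra hne
  have hCh : CharP F 3 := charP_three h3
  have h2 : (2 : F) ≠ 0 := by
    intro h2
    apply one_ne_zero (α := F)
    linear_combination h3 - h2
  obtain ⟨hτ, ha, hb, hd'⟩ : τ * τ + τ - 1 = 0 ∧ orderOf a = 5 ∧ orderOf b = 4 ∧
      ((ev (V F (ψ (b * b))) 1 = 24 ∧ ev (V F (ψ b)) 1 = 12) ∨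
      (ev (V F (ψ (b * b))) 1 = 32 ∧ ev (V F (ψ b)) 1 = 12)) := by
    rcases hd with h | h
    · exact ⟨h.hτ, h.oa, h.ob, Or.inl ⟨h.two, h.four⟩⟩
    · exact ⟨h.hτ, h.oa, h.ob, Or.inr ⟨h.two, h.four⟩⟩
  have hi : (τ - 1) * (τ - 1) = -1 := by linear_combination hτ + (1 - τ) * h3
  obtain ⟨h9, U, hU1, hU3, hcomm, hker, hrel⟩ := exists_U hM hL h3 hc hq hi hne
  have hpow : ∀ n : ℕ, Matrix.toLin' (U ^ n) = (Matrix.toLin' U) ^ n := fun n => Matrix.toLin'_pow U n
  refine last (ρ := (MonoidHom.comp (V F) ψ : Representation F ↥(alternatingGroup (Fin 6)) (D1 → F))) h2 h9 hi (τ := τ)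
    (a := a) (T := Matrix.toLin' U) ?_ finrank_V ?_ hker ?_ (sf F) ?_ (fun y h => sf_nondeg h) ?_ ?_ ?_ ?_ hb hd'
  · intro g x
    show V F (ψ g) (Matrix.toLin' U x) = Matrix.toLin' U (V F (ψ g) x)
    rw [Matrix.toLin'_apply, Matrix.toLin'_apply, V_apply, V_apply, Matrix.mulVec_mulVec, Matrix.mulVec_mulVec, hcomm]
  · intro y hy
    have h1 := no_fixed hM (by norm_num) (by norm_num) hL
    have h4 : y ∈ Representation.invariants (MonoidHom.comp (V F) ψ) := hy
    rw [h1] at h4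
    exact (Submodule.mem_bot F).1 h4
  · rw [← hpow, Matrix.trace_toLin'_eq, show U ^ 4 = U * U ^ 3 from pow_succ' U 3]
    exact trace_mul (by linear_combination 4 * h3) hU1 hU3
  · intro g x y
    exact sf_V (ψ g) x y
  · intro x y
    obtain ⟨z, rfl⟩ := mem_LR.1 hU1
    rw [Matrix.toLin'_apply, Matrix.toLin'_apply]
    exact sf_del z x y
  · rcases hrel with ⟨l, hl, hl'⟩ | ⟨a', b', c', h, hl⟩
    · left
      refine ⟨l, ?_, hl'⟩
      rw [← hpow, hl, map_smul]
    · right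
      refine ⟨a', b', c', h, ?_⟩
      rw [← hpow, ← hpow, ← hpow, ← map_smul, ← map_smul, ← map_smul, ← map_add, ← map_add, ← map_add, hl, map_zero]
  · intro W hW
    exact exists_mu h3 hτ ha _
  · intro W hW hW0
    have hnt : Nontrivial ↥W := (Submodule.nontrivial_iff_ne_bot).2 hW0
    obtain ⟨W', hW', h0, h⟩ := exists_simple h3 hτ ha (subRep (MonoidHom.comp (V F) ψ :
      Representation F ↥(alternatingGroup (Fin 6)) (D1 → F)) W hW)
    refine ⟨W', hW', h0, ?_⟩
    rcases h with h | h | h | h | h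
    · exact ⟨1, 0, 0, 0, 0, rfl, h⟩
    · exact ⟨0, 1, 0, 0, 0, rfl, h⟩
    · exact ⟨0, 0, 1, 0, 0, rfl, h⟩
    · exact ⟨0, 0, 0, 1, 0, rfl, h⟩
    · exact ⟨0, 0, 0, 0, 1, rfl, h⟩

end Cfsg.Agent.R2.T2.Orb
end

private theorem dce_5e96df41e2f2 : _root_.True := by
  try have : _root_.True := by simp only [_root_.Cfsg.Agent.R2.T2.Orb.gen.eq_1]
  try have : _root_.True := by simp only [_root_.Cfsg.Agent.R2.T2.Orb.K.eq_1]
  exact _root_.True.intro
end

-- part: R2/T1/N6R/Main
section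
prune_inst 0x51064040140020000008082212000601000042200400800004001000000806009822041182001121200080100010048115c0000420000000a000400001d0000008004009108000842008e000080000000000000300000000000000000000000000000000
set_option linter.all false
open scoped Cfsg.Agent.FastGrp

-- part: R2/T1/N6C/Cnt
section
/-!
# S5929, `n = 6`, `p = 3`, box C2: the orbit of an adapted subspace (helper14)

* `orbit_le` : `|G| ≤ |H| |T|` if a spanning family of an `H`-stable subspace belongs to the stable set `T`;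
* `no_adapt` : an `H`-stable subspace spanned by `e, g, f`, `e ≠ 0`, `DD g g = DD e f` does not exist.
-/

set_option autoImplicit false
set_option maxRecDepth 100000

namespace Cfsg.Agent.R2.T1.N6C

open Cfsg Cfsg.Lie Module
open Cfsg.Agent.R2.T1 Cfsg.Agent.R2.PX
open Cfsg.Agent.H943.E7V.Block (D1 rho)
open Cfsg.Agent.H952.F4 (ev MaxAlt)

universe u
variable {F : Type u} [Field F]

/-- **the orbit of a family spanning an `H`-stable subspace** -/
theorem orbit_le {M : Type*} [AddCommGroup M] [Module F M] [Finite F] [FiniteDimensional F M]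
    {H : Subgroup ↥(chevE7.group F)} (hM : IsCoatom H) {ρ : Representation F (Gh F) M} (hρ : Irr ρ)
    {W : Submodule F M} (hW : Stab ρ H W) (h0 : W ≠ ⊥) (h1 : W ≠ ⊤) {ι : Type} [Finite ι] {b : ι → M}
    (hb : W = Submodule.span F (Set.range b)) (T : Set (ι → M)) (hT : ∀ (g : Gh F), ∀ c ∈ T, (fun i => ρ g (c i)) ∈ T)
    (hbT : b ∈ T) : Nat.card ↥(chevE7.group F) ≤ Nat.card ↥H * Nat.card ↥T := by
  classical
  have hfinM : Finite M := Module.finite_of_finite F
  have hSt := St_eq hM hρ hW h0 h1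
  have : Finite ↥(chevE7.group F) := inferInstance
  have : Finite (Gh F) := inferInstance
  -- the cosets
  have h3 : (H.comap (ad F)).index ≤ Nat.card ↥T := by
    have h4 : ∀ g g' : Gh F, (fun i => ρ g (b i)) = (fun i => ρ g' (b i)) → g⁻¹ * g' ∈ H.comap (ad F) := by
      intro g g' h
      rw [← hSt]
      refine mem_St_of fun w hw => ?_
      rw [hb] at hw
      induction hw using Submodule.span_induction with
      | mem y hy =>
        obtain ⟨i, rfl⟩ := hy
        have h5 := congrFun h i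
        rw [map_mul, Module.End.mul_apply, ← h5, ρ_inv, hb]
        exact Submodule.subset_span ⟨i, rfl⟩
      | zero => rw [map_zero]; exact zero_mem _
      | add y z _ _ hy hz => rw [map_add]; exact add_mem hy hz
      | smul t y _ hy => rw [map_smul]; exact W.smul_mem t hy
    rw [Subgroup.index]
    refine Nat.card_le_card_of_injective (fun c : Gh F ⧸ H.comap (ad F) => (⟨fun i => ρ c.out (b i), hT _ _ hbT⟩ : ↥T)) ?_
    intro c c' h
    have h5 := h4 _ _ (congrArg Subtype.val h)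
    rw [← QuotientGroup.out_eq' c, ← QuotientGroup.out_eq' c']
    exact QuotientGroup.eq.2 h5
  rw [Subgroup.index_comap_of_surjective H ad_surjective] at h3
  calc Nat.card ↥(chevE7.group F) = Nat.card ↥H * H.index := (Subgroup.card_mul_index H).symm
    _ ≤ _ := Nat.mul_le_mul_left _ h3

/-- **no adapted subspace** -/
theorem no_adapt [Finite F] (h2 : (2 : F) ≠ 0) (hq : 3 ≤ Nat.card F) {H : Subgroup ↥(chevE7.group F)} (hM : IsCoatom H)
    (hc : Nat.card ↥H ≤ 1440) {W : Submodule F (D1 → F)} (hW : Stab (V F) H W) {e g f : D1 → F} (he : e ≠ 0)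
    (hs : W = Submodule.span F {e, g, f}) (hD : DD F g g = DD F e f) : False := by
  have hb : W = Submodule.span F (Set.range ![e, g, f]) := by
    rw [hs, Matrix.range_cons, Matrix.range_cons, Matrix.range_cons, Matrix.range_empty, Set.union_empty]
    rfl
  have h0 : W ≠ ⊥ := by
    intro h
    apply he
    have h3 : e ∈ W := by rw [hs]; exact Submodule.subset_span (by simp)
    rwa [h, Submodule.mem_bot] at h3
  have h1 : W ≠ ⊤ := by
    intro h
    have h3 : finrank F ↥W ≤ 3 := by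
      rw [hb]
      exact (finrank_range_le_card (R := F) ![e, g, f]).trans (by rw [Fintype.card_fin])
    rw [h, finrank_top, finrank_V] at h3
    omega
  have h3 := orbit_le hM irrV hW h0 h1 hb (TS F) (by
    intro x c hc
    obtain ⟨hc1, hc2⟩ := hc
    refine ⟨?_, ?_⟩
    · intro h
      apply hc1
      have h4 := congrArg (V F x⁻¹) h
      rwa [Mu.inv_V, map_zero] at h4
    · show DD F (V F x (c 1)) (V F x (c 1)) = DD F (V F x (c 0)) (V F x (c 2))
      rw [Mu.DD_conj, Mu.DD_conj, hc2]) ⟨he, hD⟩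
  have h4 := card_TS (F := F) h2
  have h5 := order_ge3 hq
  set q := Nat.card F with hqd
  have h6 : Nat.card ↥(chevE7.group F) ≤ 1440 * (q ^ 124 + 56 * q ^ 112) := h3.trans (Nat.mul_le_mul hc h4)
  have h7 : q ^ 133 = q ^ 9 * q ^ 124 := by rw [← pow_add]
  have h8 : q ^ 124 = q ^ 12 * q ^ 112 := by rw [← pow_add]
  have h9 : 3 ^ 9 ≤ q ^ 9 := Nat.pow_le_pow_left hq 9
  have h10 : 3 ^ 12 ≤ q ^ 12 := Nat.pow_le_pow_left hq 12
  have h11 : 3 ^ 9 * q ^ 124 ≤ q ^ 133 := by rw [h7]; exact Nat.mul_le_mul_right _ h9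
  have h12 : 3 ^ 12 * q ^ 112 ≤ q ^ 124 := by rw [h8]; exact Nat.mul_le_mul_right _ h10
  have h13 : 0 < q ^ 112 := Nat.pow_pos (by omega)
  norm_num at h11 h12
  omega

end Cfsg.Agent.R2.T1.N6C
end

-- part: R2/T1/N6R/Main
section
/-!
# S5929, `n = 6`, `p = 3`, packet C2-rep: no submodule of dimension three (helper7)

* `no_three` : the module of degree 56 has no `A₆`-submodule of dimension three if `A₆` has no fixed vectors on the adjoint
  module, `|H| ≤ 720`, and the elements of order five are not fused in `H`;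
* `nofuse` : the elements of order five are not fused if the multiplicities of their eigenvalues are different;
* `hno` : the form which is used in C3.
-/

set_option autoImplicit false
set_option maxRecDepth 100000

namespace Cfsg.Agent.R2.T1.N6R

open Cfsg Cfsg.Lie Module Matrix Equiv Equiv.Perm
open Cfsg.Agent.H943.E7V.Block (D1 rho)
open Cfsg.Agent.H952.F4 (ev es MaxAlt)
open Cfsg.Agent.R2.T1 Cfsg.Agent.R2.PX Cfsg.Agent.R2.T1.Mu

universe u

variable {F : Type u} [Field F]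

/-! ### the Casimir element -/

/-- the sum over an orthogonal matrix -/
theorem sum_orth {M : Type*} [AddCommGroup M] [Module F M] (B : (D1 → F) →ₗ[F] (D1 → F) →ₗ[F] M) (v : Fin 3 → D1 → F)
    {A : Matrix (Fin 3) (Fin 3) F} (hA : A * Aᵀ = 1) :
    ∑ j, B (∑ i, A i j • v i) (∑ k, A k j • v k) = ∑ i, B (v i) (v i) := by
  have h1 : ∀ j, B (∑ i, A i j • v i) (∑ k, A k j • v k) = ∑ i, ∑ k, (A i j * A k j) • B (v i) (v k) := by
    intro j
    rw [map_sum B, LinearMap.sum_apply]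
    refine Finset.sum_congr rfl fun i _ => ?_
    rw [map_smul, LinearMap.smul_apply, map_sum, Finset.smul_sum]
    refine Finset.sum_congr rfl fun k _ => ?_
    rw [map_smul, smul_smul]
  rw [Finset.sum_congr rfl fun j _ => h1 j, Finset.sum_comm]
  refine Finset.sum_congr rfl fun i _ => ?_
  rw [Finset.sum_comm]
  have h2 : ∀ k, ∑ j, (A i j * A k j) • B (v i) (v k) = (if i = k then (1 : F) else 0) • B (v i) (v k) := by
    intro k
    rw [← Finset.sum_smul]
    congr 1
    have h3 := congrFun (congrFun hA i) k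
    rw [Matrix.mul_apply, Matrix.one_apply] at h3
    rw [← h3]
    rfl
  rw [Finset.sum_congr rfl fun k _ => h2 k]
  simp

variable {M : A6 →* Matrix (Fin 3) (Fin 3) F} {ψ : A6 →* Gh F}

/-- the homomorphisms of the three-dimensional module -/
def Hm (M : A6 →* Matrix (Fin 3) (Fin 3) F) (ψ : A6 →* Gh F) : Submodule F ((Fin 3 → F) →ₗ[F] (D1 → F)) where
  carrier := {f | ∀ g x, f (M g *ᵥ x) = V F (ψ g) (f x)}
  add_mem' := by
    intro f f' h h' g x
    rw [LinearMap.add_apply, LinearMap.add_apply, h, h', map_add]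
  zero_mem' := by
    intro g x
    rw [LinearMap.zero_apply, LinearMap.zero_apply, map_zero]
  smul_mem' := by
    intro a f h g x
    rw [LinearMap.smul_apply, LinearMap.smul_apply, h, map_smul]

theorem Hm_basis {f : (Fin 3 → F) →ₗ[F] (D1 → F)} (hf : f ∈ Hm M ψ) (g : A6) (j : Fin 3) :
    V F (ψ g) (f (Pi.single j 1)) = ∑ i, M g i j • f (Pi.single i 1) := by
  rw [← hf g]
  have h1 : M g *ᵥ Pi.single j 1 = ∑ i, M g i j • (Pi.single i 1 : Fin 3 → F) := by
    funext k
    rw [Matrix.mulVec_single_one, Finset.sum_apply]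
    simp [Pi.single_apply, Matrix.col_apply]
  rw [h1, map_sum]
  simp only [map_smul]

/-- **the Casimir element is zero** -/
theorem casimir (h2 : (2 : F) ≠ 0) (h : Nor M u1 u2 uc) {f : (Fin 3 → F) →ₗ[F] (D1 → F)} (hf : f ∈ Hm M ψ)
    (hinv : Representation.invariants (MonoidHom.comp (L F) ψ) = ⊥) :
    DD F (f (Pi.single 0 1)) (f (Pi.single 0 1)) + DD F (f (Pi.single 1 1)) (f (Pi.single 1 1)) +
      DD F (f (Pi.single 2 1)) (f (Pi.single 2 1)) = 0 := by
  obtain ⟨z, hz⟩ : ∃ z, z = dd (f (Pi.single 0 1)) (f (Pi.single 0 1)) + dd (f (Pi.single 1 1)) (f (Pi.single 1 1)) +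
    dd (f (Pi.single 2 1)) (f (Pi.single 2 1)) := ⟨_, rfl⟩
  have hdz : del F z = DD F (f (Pi.single 0 1)) (f (Pi.single 0 1)) + DD F (f (Pi.single 1 1)) (f (Pi.single 1 1)) +
      DD F (f (Pi.single 2 1)) (f (Pi.single 2 1)) := by
    rw [hz, map_add, map_add, del_dd, del_dd, del_dd]
  have hz0 : z ∈ Representation.invariants (MonoidHom.comp (L F) ψ) := by
    rw [Representation.mem_invariants]
    intro g
    change L F (ψ g) z = z
    apply Mu.del_injective
    have e1 : L F (ψ g) z = dd (V F (ψ g) (f (Pi.single 0 1))) (V F (ψ g) (f (Pi.single 0 1))) +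
        dd (V F (ψ g) (f (Pi.single 1 1))) (V F (ψ g) (f (Pi.single 1 1))) +
        dd (V F (ψ g) (f (Pi.single 2 1))) (V F (ψ g) (f (Pi.single 2 1))) := by
      rw [hz, map_add, map_add, _root_.Cfsg.Agent.R2.T1.Mu.dd_L h2, _root_.Cfsg.Agent.R2.T1.Mu.dd_L h2, _root_.Cfsg.Agent.R2.T1.Mu.dd_L h2]
    rw [e1, hdz, map_add, map_add, del_dd, del_dd, del_dd]
    have h3 := sum_orth (DDL F) (fun i => f (Pi.single i 1)) (orth6 h2 h g)
    rw [Fin.sum_univ_three, Fin.sum_univ_three (fun i => (DDL F) (f (Pi.single i 1)) (f (Pi.single i 1)))] at h3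
    rw [← Hm_basis hf, ← Hm_basis hf, ← Hm_basis hf] at h3
    simp only [DDL_apply] at h3
    exact h3
  rw [hinv, Submodule.mem_bot] at hz0
  rw [← hdz, hz0, map_zero]

/-! ### stability -/

variable {H : Subgroup ↥(chevE7.group F)} {φ : A6 →* ↥(chevE7.group F)}

/-- the basis `e, g, f` -/
theorem no_adapted [Finite F] (h3 : (3 : F) = 0) {i : F} (hi : i * i = -1) (hM : MaxAlt H 6 φ)
    (h : Nor M u1 u2 uc) {f : (Fin 3 → F) →ₗ[F] (D1 → F)} (hf : f ∈ Hm M ψ) (hf0 : f ≠ 0)
    (hinv : Representation.invariants (MonoidHom.comp (L F) ψ) = ⊥) (hst : Stab (V F) H (LinearMap.range f)) : False := by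
  have h2 : (2 : F) ≠ 0 := by
    intro h2
    have h' : (1 : F) = 0 := by linear_combination h3 - h2
    exact one_ne_zero h'
  obtain ⟨v0, hv0⟩ : ∃ v, v = f (Pi.single 0 1) := ⟨_, rfl⟩
  obtain ⟨v1, hv1⟩ : ∃ v, v = f (Pi.single 1 1) := ⟨_, rfl⟩
  obtain ⟨v2, hv2⟩ : ∃ v, v = f (Pi.single 2 1) := ⟨_, rfl⟩
  have hcas := casimir h2 h hf hinv
  rw [← hv0, ← hv1, ← hv2] at hcas
  have a1 := Hm_basis hf u1 0
  have a2 := Hm_basis hf u1 1
  have a3 := Hm_basis hf uc 0
  have a4 := Hm_basis hf uc 1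
  rw [h.m1, Fin.sum_univ_three, ← hv0, ← hv1, ← hv2] at a1 a2
  rw [h.mc, Fin.sum_univ_three, ← hv0, ← hv1, ← hv2] at a3 a4
  simp only [_root_.Fin.isValue, _root_.Matrix.of_apply, _root_.Matrix.cons_val', _root_.Matrix.cons_val_zero, _root_.Matrix.cons_val_fin_one, _root_.one_smul, _root_.Matrix.cons_val_one, _root_.zero_smul, _root_.add_zero, _root_.Matrix.cons_val, _root_.neg_smul, _root_.zero_add] at a1 a2 a3 a4
  -- the range
  have hr : ∀ x : Fin 3 → F, f x = x 0 • v0 + x 1 • v1 + x 2 • v2 := by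
    intro x
    have h4 : x = x 0 • (Pi.single 0 1 : Fin 3 → F) + x 1 • (Pi.single 1 1 : Fin 3 → F) +
        x 2 • (Pi.single 2 1 : Fin 3 → F) := by
      funext k
      (revert k; simp only [_root_.Fin.forall_fin_succ, Fin.isValue, _root_.Pi.add_apply, _root_.Pi.smul_apply, _root_.smul_eq_mul, _root_.Pi.single_eq_same, _root_.mul_one, _root_.ne_eq, _root_.zero_ne_one, _root_.not_false_eq_true, _root_.Pi.single_eq_of_ne, _root_.MulZeroClass.mul_zero, _root_.add_zero, Fin.reduceEq, _root_.Fin.succ_ne_zero, _root_.zero_add, _root_.Fin.succ_zero_eq_one, _root_.Fin.succ_one_eq_two, _root_.IsEmpty.forall_iff, _root_.and_self])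
    conv_lhs => rw [h4]
    rw [map_add, map_add, map_smul, map_smul, map_smul, hv0, hv1, hv2]
  have hne : v0 + i • v1 ≠ 0 := by
    intro h0
    apply hf0
    have h4 := congrArg (V F (ψ u1)) h0
    rw [map_add, map_smul, a1, a2, map_zero, smul_neg] at h4
    have h5 : (2 : F) • v0 = 0 := by
      have : (2 : F) • v0 = (v0 + i • v1) + (v0 + -(i • v1)) := by rw [two_smul]; abel
      rw [this, h0, h4, add_zero]
    have h6 : v0 = 0 := (smul_eq_zero.1 h5).resolve_left h2
    have h7 : v1 = 0 := by rw [← a3, h6, map_zero]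
    have h8 : v2 = 0 := by rw [← a4, h7, map_zero]
    refine LinearMap.ext fun x => ?_
    rw [hr, h6, h7, h8, smul_zero, smul_zero, smul_zero, LinearMap.zero_apply, add_zero, add_zero]
  have hspan : LinearMap.range f = Submodule.span F {v0 + i • v1, i • v2, v0 - i • v1} := by
    apply le_antisymm
    · rintro _ ⟨x, rfl⟩
      have hm1 : v0 + i • v1 ∈ Submodule.span F {v0 + i • v1, i • v2, v0 - i • v1} := Submodule.subset_span (by simp only [_root_.Set.mem_insert_iff, _root_.Set.mem_singleton_iff, _root_.true_or])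
      have hm2 : i • v2 ∈ Submodule.span F {v0 + i • v1, i • v2, v0 - i • v1} := Submodule.subset_span (by simp)
      have hm3 : v0 - i • v1 ∈ Submodule.span F {v0 + i • v1, i • v2, v0 - i • v1} := Submodule.subset_span (by simp)
      have k0 : v0 = (2 : F)⁻¹ • ((v0 + i • v1) + (v0 - i • v1)) := by
        rw [add_add_sub_cancel, ← two_smul F v0, smul_smul, inv_mul_cancel₀ h2, one_smul]
      have k1 : v1 = (-i * (2 : F)⁻¹) • ((v0 + i • v1) - (v0 - i • v1)) := by
        have : (v0 + i • v1) - (v0 - i • v1) = ((2 : F) * i) • v1 := by rw [mul_smul, two_smul]; abel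
        rw [this, smul_smul, show -i * (2 : F)⁻¹ * (2 * i) = - (i * i) * ((2 : F)⁻¹ * 2) by ring, hi,
          inv_mul_cancel₀ h2, neg_neg, one_mul, one_smul]
      have k2 : v2 = (-i) • (i • v2) := by
        rw [smul_smul, neg_mul, hi, neg_neg, one_smul]
      have l0 : v0 ∈ Submodule.span F {v0 + i • v1, i • v2, v0 - i • v1} := by
        rw [show (v0 ∈ Submodule.span F {v0 + i • v1, i • v2, v0 - i • v1}) =
          ((2 : F)⁻¹ • ((v0 + i • v1) + (v0 - i • v1)) ∈ Submodule.span F {v0 + i • v1, i • v2, v0 - i • v1}) by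
            rw [← k0]]
        exact Submodule.smul_mem _ _ (Submodule.add_mem _ hm1 hm3)
      have l1 : v1 ∈ Submodule.span F {v0 + i • v1, i • v2, v0 - i • v1} := by
        rw [show (v1 ∈ Submodule.span F {v0 + i • v1, i • v2, v0 - i • v1}) =
          ((-i * (2 : F)⁻¹) • ((v0 + i • v1) - (v0 - i • v1)) ∈
            Submodule.span F {v0 + i • v1, i • v2, v0 - i • v1}) by rw [← k1]]
        exact Submodule.smul_mem _ _ (Submodule.sub_mem _ hm1 hm3)
      have l2 : v2 ∈ Submodule.span F {v0 + i • v1, i • v2, v0 - i • v1} := by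
        rw [show (v2 ∈ Submodule.span F {v0 + i • v1, i • v2, v0 - i • v1}) =
          ((-i) • (i • v2) ∈ Submodule.span F {v0 + i • v1, i • v2, v0 - i • v1}) by rw [← k2]]
        exact Submodule.smul_mem _ _ hm2
      rw [hr]
      exact Submodule.add_mem _ (Submodule.add_mem _ (Submodule.smul_mem _ _ l0) (Submodule.smul_mem _ _ l1))
        (Submodule.smul_mem _ _ l2)
    · rw [Submodule.span_le]
      have n0 : v0 ∈ LinearMap.range f := ⟨_, hv0.symm⟩
      have n1 : v1 ∈ LinearMap.range f := ⟨_, hv1.symm⟩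
      have n2 : v2 ∈ LinearMap.range f := ⟨_, hv2.symm⟩
      rintro x (rfl | rfl | rfl)
      · exact Submodule.add_mem _ n0 (Submodule.smul_mem _ _ n1)
      · exact Submodule.smul_mem _ _ n2
      · exact Submodule.sub_mem _ n0 (Submodule.smul_mem _ _ n1)
  refine N6C.no_adapt h2 ?_ hM.coatom (by simpa only [↓ _root_.reduceIte] using hM.card) hst hne hspan ?_
  · -- `3 ≤ |F|`
    have h4 : (1 : F) ≠ 0 := one_ne_zero
    have h5 : (2 : F) ≠ 1 := by
      intro h5
      exact h4 (by linear_combination h5)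
    classical
    have h6 : ({0, 1, 2} : Finset F).card = 3 := by
      rw [Finset.card_insert_of_notMem, Finset.card_insert_of_notMem, Finset.card_singleton]
      · rw [Finset.mem_singleton]; exact Ne.symm h5
      · rw [Finset.mem_insert, Finset.mem_singleton]
        rintro (h7 | h7)
        · exact h4 h7.symm
        · exact h2 h7.symm
    have := Fintype.ofFinite F
    rw [Nat.card_eq_fintype_card, ← h6]
    exact Finset.card_le_univ _
  · rw [sub_eq_add_neg, DD_add_left, DD_add_right, DD_add_right, DD_neg_right, DD_neg_right, DD_smul_left, DD_smul_right,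
      DD_smul_left, DD_smul_right, DD_smul_left, DD_smul_right, smul_smul, smul_smul, hi, DD_comm v1 v0, neg_one_smul,
      neg_one_smul]
    have h9 : DD F v2 v2 = - (DD F v0 v0 + DD F v1 v1) := by
      rw [eq_neg_iff_add_eq_zero, add_comm]
      exact hcas
    rw [h9]
    abel

/-- elements of the preimage of `A₆` -/
theorem pre_sign {g : Gh F} {x : A6} (hL : Lift φ ψ) (h : ad F g = φ x) : ∃ ε : F, (ε = 1 ∨ ε = -1) ∧
    ∀ v, V F g v = ε • V F (ψ x) v := by
  rw [← hL, ad_eq_iff] at h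
  rcases h with rfl | h
  · exact ⟨1, Or.inl rfl, fun v => by rw [one_smul]⟩
  · exact ⟨-1, Or.inr rfl, fun v => by rw [h, LinearMap.neg_apply, neg_one_smul]⟩

/-- the elements of order five are not fused -/
theorem no_fuse_all (hM : MaxAlt H 6 φ) {a : A6} (ha : orderOf a = 5)
    (hnf : ∀ h ∈ H, h * φ a * h⁻¹ ≠ φ (a * a)) {h : ↥(chevE7.group F)} (hh : h ∈ H) {α : A6 →* A6}
    (hα : ∀ x, φ (α x) = h * φ x * h⁻¹) (x : A6) (hx : orderOf x = 5) : ¬ IsConj (x * x) (α x) := by
  intro hc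
  obtain ⟨z, hz⟩ := isConj_iff.1 hc
  have ha5 : a ^ 5 = 1 := by rw [← ha, pow_orderOf_eq_one]
  have hne : a ^ 3 ≠ 1 := by
    intro h1
    have := orderOf_dvd_of_pow_eq_one h1
    rw [ha] at this
    exact absurd this (by norm_num)
  rcases cls6 (ha.trans hx.symm) with h1 | h1 | ⟨-, h1⟩
  · exact hne h1
  · obtain ⟨y, rfl⟩ := isConj_iff.1 h1
    have hmem : (φ (z * y))⁻¹ * h * φ y ∈ H := H.mul_mem (H.mul_mem (H.inv_mem (hM.le ⟨_, rfl⟩)) hh) (hM.le ⟨_, rfl⟩)
    apply hnf _ hmem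
    have e1 := hα (y * a * y⁻¹)
    rw [← hz] at e1
    have e2 : h * φ y * φ a * (φ y)⁻¹ * h⁻¹ = φ (z * (y * a * y⁻¹ * (y * a * y⁻¹)) * z⁻¹) := by
      rw [e1]; simp only [map_mul, map_inv]; group
    calc (φ (z * y))⁻¹ * h * φ y * φ a * ((φ (z * y))⁻¹ * h * φ y)⁻¹
        = (φ (z * y))⁻¹ * (h * φ y * φ a * (φ y)⁻¹ * h⁻¹) * φ (z * y) := by group
      _ = φ ((z * y)⁻¹ * (z * (y * a * y⁻¹ * (y * a * y⁻¹)) * z⁻¹) * (z * y)) := by
          rw [e2]; simp only [map_mul, map_inv]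
      _ = φ (a * a) := by congr 1; group
  · obtain ⟨y, rfl⟩ := isConj_iff.1 h1
    have hmem : (φ (z * y))⁻¹ * h * φ y ∈ H := H.mul_mem (H.mul_mem (H.inv_mem (hM.le ⟨_, rfl⟩)) hh) (hM.le ⟨_, rfl⟩)
    apply hnf _ hmem
    have e1 := hα (y * (a * a) * y⁻¹)
    rw [← hz] at e1
    have e2 : h * φ y * φ (a * a) * (φ y)⁻¹ * h⁻¹ = φ (z * (y * (a * a) * y⁻¹ * (y * (a * a) * y⁻¹)) * z⁻¹) := by
      rw [e1]; simp only [map_mul, map_inv]; group
    have e3 : (φ (z * y))⁻¹ * h * φ y * φ (a * a) * ((φ (z * y))⁻¹ * h * φ y)⁻¹ = φ (a * a * (a * a)) := by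
      calc (φ (z * y))⁻¹ * h * φ y * φ (a * a) * ((φ (z * y))⁻¹ * h * φ y)⁻¹
          = (φ (z * y))⁻¹ * (h * φ y * φ (a * a) * (φ y)⁻¹ * h⁻¹) * φ (z * y) := by group
        _ = φ ((z * y)⁻¹ * (z * (y * (a * a) * y⁻¹ * (y * (a * a) * y⁻¹)) * z⁻¹) * (z * y)) := by
            rw [e2]; simp only [map_mul, map_inv]
        _ = φ (a * a * (a * a)) := by congr 1; group
    generalize (φ (z * y))⁻¹ * h * φ y = k at e3
    have e4 : k * φ a * k⁻¹ = (k * φ (a * a) * k⁻¹) ^ 3 := by
      rw [← MulAut.conj_apply, ← MulAut.conj_apply, ← map_pow, ← map_pow]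
      congr 2
      calc a = a ^ 5 * a := by rw [ha5, one_mul]
        _ = (a * a) ^ 3 := by simp only [pow_succ, pow_zero, one_mul, mul_assoc]
    rw [e4, e3, ← map_pow]
    congr 1
    calc (a * a * (a * a)) ^ 3 = a ^ 5 * a ^ 5 * (a * a) := by simp only [pow_succ, pow_zero, one_mul, mul_assoc]
      _ = a * a := by rw [ha5, one_mul, one_mul]

/-- **no submodule of dimension three** -/
theorem no_three [Finite F] (h3 : (3 : F) = 0) {i : F} (hi : i * i = -1) (hM : MaxAlt H 6 φ) (hL : Lift φ ψ)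
    (hc : Nat.card ↥H ≤ 720) (hinv : Representation.invariants (MonoidHom.comp (L F) ψ) = ⊥) {a : A6}
    (ha : orderOf a = 5) (hnf : ∀ h ∈ H, h * φ a * h⁻¹ ≠ φ (a * a)) {W : Submodule F (D1 → F)}
    (hW : ∀ g, ∀ w ∈ W, V F (ψ g) w ∈ W) (hd : finrank F ↥W = 3) : False := by
  have h2 : (2 : F) ≠ 0 := by
    intro h2
    have h' : (1 : F) = 0 := by linear_combination h3 - h2
    exact one_ne_zero h'
  -- the representation on `W`
  let ρ : Representation F A6 ↥W :=
    { toFun := fun g => (V F (ψ g)).restrict (hW g)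
      map_one' := by
        refine LinearMap.ext fun w => Subtype.ext ?_
        rw [LinearMap.coe_restrict_apply, map_one, map_one]
        rfl
      map_mul' := by
        intro g h
        refine LinearMap.ext fun w => Subtype.ext ?_
        rw [Module.End.mul_apply, LinearMap.coe_restrict_apply, LinearMap.coe_restrict_apply,
          LinearMap.coe_restrict_apply, map_mul, map_mul, Module.End.mul_apply] }
  have hρ : ∀ g (w : ↥W), ((ρ g w : ↥W) : D1 → F) = V F (ψ g) w := fun g w => rfl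
  have hfix := no_fixed hM (by norm_num) (by norm_num) hL
  have hne : ∃ w, ρ u1 w ≠ w := by
    by_contra hcon
    push Not at hcon
    have hker : ρ.ker = ⊤ := by
      have hs : IsSimpleGroup A6 := alternatingGroup.isSimpleGroup (by simp)
      rcases hs.eq_bot_or_eq_top_of_normal ρ.ker inferInstance with h4 | h4
      · exfalso
        have h5 : u1 ∈ ρ.ker := by
          rw [MonoidHom.mem_ker]
          exact LinearMap.ext hcon
        rw [h4, Subgroup.mem_bot] at h5
        exact tet6.n1 h5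
      · exact h4
    have h4 : W ≤ Representation.invariants (MonoidHom.comp (V F) ψ) := by
      intro w hw
      rw [Representation.mem_invariants]
      intro g
      have h5 : g ∈ ρ.ker := by rw [hker]; trivial
      rw [MonoidHom.mem_ker] at h5
      have h6 := hρ g ⟨w, hw⟩
      rw [h5] at h6
      exact h6.symm
    rw [hfix, le_bot_iff] at h4
    rw [h4, finrank_bot] at hd
    omega
  obtain ⟨M, e, hN, he⟩ := exists_nor h2 ρ hd tet6 hne
  let f0 : (Fin 3 → F) →ₗ[F] (D1 → F) := W.subtype ∘ₗ (e : (Fin 3 → F) →ₗ[F] ↥W)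
  have hf0 : f0 ∈ Hm M ψ := by
    intro g x
    change ((e (M g *ᵥ x) : ↥W) : D1 → F) = V F (ψ g) ((e x : ↥W) : D1 → F)
    rw [he, hρ]
  have hf00 : f0 ≠ 0 := by
    intro h4
    have h5 : ((e (Pi.single 0 1) : ↥W) : D1 → F) = 0 := congrArg (fun f => f (Pi.single 0 1)) h4
    rw [Submodule.coe_eq_zero, LinearEquiv.map_eq_zero_iff] at h5
    have h6 := congrFun h5 0
    simp at h6
  by_cases hHX : H ≤ φ.range
  · refine no_adapted h3 hi hM hN hf0 hf00 hinv ?_
    rintro g hg _ ⟨x, rfl⟩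
    obtain ⟨y, hy⟩ := hHX hg
    obtain ⟨ε, -, hε⟩ := pre_sign hL hy.symm
    rw [hε, ← hf0 y]
    exact Submodule.smul_mem _ _ ⟨_, rfl⟩
  -- an element of `H` outside
  obtain ⟨h0, hh0, hh0X⟩ := Set.not_subset.1 hHX
  obtain ⟨k, hk⟩ := ad_surjective h0
  have hex : ∀ x, ∃ b, φ b = h0 * φ x * h0⁻¹ := fun x => hM.norm h0 hh0 _ ⟨x, rfl⟩
  choose α' hα' using hex
  let α : A6 →* A6 := MonoidHom.mk' α' fun x y => hM.inj (by
    rw [hα', map_mul, map_mul, hα', hα']; group)
  have hα : ∀ x, φ (α x) = h0 * φ x * h0⁻¹ := hα'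
  have hαinj : Function.Injective α := by
    intro x y hxy
    apply hM.inj
    have h1 : h0 * φ x * h0⁻¹ = h0 * φ y * h0⁻¹ := by rw [← hα, ← hα, hxy]
    exact mul_left_cancel (mul_right_cancel h1)
  have hnfa := no_fuse_all hM ha hnf hh0 hα
  obtain ⟨P, hP, hPM⟩ := exists_twist h3 hN hαinj hnfa
  have hkψ : ∀ x, k * ψ x * k⁻¹ = ψ (α x) := by
    have h4 := Odd.hom_eq (alt_perfect (by norm_num)) (f1 := (MulAut.conj k).toMonoidHom.comp ψ) (f2 := ψ.comp α) (by
      intro x
      show ad F (k * ψ x * k⁻¹) = ad F (ψ (α x))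
      rw [map_mul, map_mul, map_inv, hL, hL, hα, hk])
    exact h4
  obtain ⟨y, hy⟩ := hM.sq h0 hh0
  have hαα : ∀ g, α (α g) = y * g * y⁻¹ := by
    intro g
    apply hM.inj
    rw [hα, hα, map_mul, map_mul, map_inv, hy]
    group
  obtain ⟨ε, hε1, hε⟩ := pre_sign (g := k * k) (x := y) hL (by rw [map_mul, hk, hy])
  obtain ⟨ν, hν⟩ := twist_sq h2 hi hN hP hPM hαα hε1
  have hu : IsUnit P.det := isUnit_iff_ne_zero.2 hP
  -- the operator
  let Θ : ((Fin 3 → F) →ₗ[F] (D1 → F)) →ₗ[F] ((Fin 3 → F) →ₗ[F] (D1 → F)) :=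
    { toFun := fun f => (V F k) ∘ₗ f ∘ₗ Matrix.toLin' P⁻¹
      map_add' := by
        intro f f'
        refine LinearMap.ext fun x => ?_
        simp only [_root_.LinearMap.coe_comp, _root_.Function.comp_apply, _root_.Matrix.toLin'_apply, _root_.LinearMap.add_apply, _root_.map_add]
      map_smul' := by
        intro c f
        refine LinearMap.ext fun x => ?_
        simp only [_root_.LinearMap.coe_comp, _root_.LinearMap.coe_smul, _root_.Function.comp_apply, _root_.Matrix.toLin'_apply, _root_.Pi.smul_apply, _root_.map_smul, _root_.RingHom.id_apply, _root_.LinearMap.smul_apply] }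
  have hΘ : ∀ f x, Θ f x = V F k (f (P⁻¹ *ᵥ x)) := fun f x => by
    change V F k (f (Matrix.toLin' P⁻¹ x)) = _
    rw [Matrix.toLin'_apply]
  have hC : ∀ f ∈ Hm M ψ, Θ f ∈ Hm M ψ := by
    intro f hf g' x
    have hαs : Function.Surjective α := Finite.injective_iff_surjective.1 hαinj
    obtain ⟨g, rfl⟩ := hαs g'
    have e1 : P⁻¹ *ᵥ (M (α g) *ᵥ x) = M g *ᵥ (P⁻¹ *ᵥ x) := by
      rw [Matrix.mulVec_mulVec, Matrix.mulVec_mulVec]
      congr 1
      calc P⁻¹ * M (α g) = P⁻¹ * (M (α g) * (P * P⁻¹)) := by rw [Matrix.mul_nonsing_inv _ hu, mul_one]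
        _ = P⁻¹ * (M (α g) * P * P⁻¹) := by rw [mul_assoc]
        _ = P⁻¹ * (P * M g * P⁻¹) := by rw [hPM]
        _ = (P⁻¹ * P) * M g * P⁻¹ := by simp only [mul_assoc]
        _ = M g * P⁻¹ := by rw [Matrix.nonsing_inv_mul _ hu, one_mul]
    rw [hΘ, hΘ, e1, hf g, ← V_mul, ← V_mul, ← hkψ]
    congr 2
    group
  have hΘΘ : Θ (Θ f0) = (ν * ν) • f0 := by
    refine LinearMap.ext fun x => ?_
    rw [hΘ, hΘ, ← V_mul, hε, ← hf0 y, LinearMap.smul_apply, ← map_smul, ← map_smul]
    congr 1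
    have h5 := congrArg (fun A : Matrix (Fin 3) (Fin 3) F => A *ᵥ x) hν
    simp only [Matrix.smul_mulVec, Matrix.one_mulVec] at h5
    rw [← h5, Matrix.mulVec_mulVec, Matrix.mulVec_mulVec]
  obtain ⟨f, hf, hfne, ν', hν'⟩ := exists_eig hC hf00 hf0 hΘΘ
  refine no_adapted h3 hi hM hN hf hfne hinv ?_
  have hstk : ∀ x, V F k (f x) = f (ν' • (P *ᵥ x)) := by
    intro x
    have h5 := congrArg (fun A : (Fin 3 → F) →ₗ[F] (D1 → F) => A (P *ᵥ x)) hν'
    simp only [hΘ, LinearMap.smul_apply] at h5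
    rw [Matrix.mulVec_mulVec, Matrix.nonsing_inv_mul _ hu, Matrix.one_mulVec] at h5
    rw [h5, map_smul]
  -- the index
  have hidx : ∀ h ∈ H, h ∉ φ.range → h0⁻¹ * h ∈ φ.range := by
    intro h hh hhX
    have hfinH : Finite ↥(chevE7.group F) := inferInstance
    have hcX : Nat.card ↥(φ.range.subgroupOf H) = 360 := by
      rw [Nat.card_congr (Subgroup.subgroupOfEquivOfLe hM.le).toEquiv,
        ← Nat.card_congr (MonoidHom.ofInjective hM.inj).toEquiv]
      have h5 := two_mul_nat_card_alternatingGroup (α := Fin 6)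
      rw [Nat.card_perm, Nat.card_fin, show Nat.factorial 6 = 720 from rfl] at h5
      omega
    have h5 := Subgroup.card_mul_index (φ.range.subgroupOf H)
    rw [hcX] at h5
    have h6 : (φ.range.subgroupOf H).index ≠ 1 := by
      intro h6
      rw [Subgroup.index_eq_one, Subgroup.subgroupOf_eq_top] at h6
      exact hHX h6
    have h7 : (φ.range.subgroupOf H).index ≠ 0 := Subgroup.index_ne_zero_of_finite
    have h8 : (φ.range.subgroupOf H).index = 2 := by omega
    have h9 := Subgroup.mul_mem_iff_of_index_two h8 (a := (⟨h0, hh0⟩ : ↥H)⁻¹) (b := (⟨h, hh⟩ : ↥H))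
    rw [Subgroup.inv_mem_iff, Subgroup.mem_subgroupOf, Subgroup.mem_subgroupOf, Subgroup.mem_subgroupOf] at h9
    exact h9.2 ⟨fun h10 => absurd h10 hh0X, fun h10 => absurd h10 hhX⟩
  rintro g hg _ ⟨x, rfl⟩
  by_cases hgX : ad F g ∈ φ.range
  · obtain ⟨y', hy'⟩ := hgX
    obtain ⟨ε', -, hε'⟩ := pre_sign hL hy'.symm
    rw [hε', ← hf y']
    exact Submodule.smul_mem _ _ ⟨_, rfl⟩
  · obtain ⟨y', hy'⟩ := hidx _ hg hgX
    obtain ⟨ε', -, hε'⟩ := pre_sign (g := k⁻¹ * g) (x := y') hL (by rw [map_mul, map_inv, hk, hy'])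
    have h6 : V F g (f x) = V F k (V F (k⁻¹ * g) (f x)) := by rw [← V_mul, mul_inv_cancel_left]
    rw [h6, hε', ← hf y', map_smul, hstk]
    exact Submodule.smul_mem _ _ ⟨_, rfl⟩

/-! ### the multiplicities of the elements of order five -/

/-- the eigenvalues of the square -/
theorem ker_qd_sq (h2 : (2 : F) ≠ 0) {E : Type*} [AddCommGroup E] [Module F E] {τ : F} (hτ : τ * τ + τ - 1 = 0)
    {T : Module.End F E} (hT : T ^ 5 = 1) : LinearMap.ker (Five.qd τ (T * T)) = LinearMap.ker (Five.qd (-1 - τ) T) := by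
  have hfac : Five.qd τ (T * T) = (T * T + (-1 - τ) • T + 1) * Five.qd (-1 - τ) T := by
    rw [Five.qd, Five.qd]
    have h1 : ((-1 - τ) * (-1 - τ)) = 2 + τ := by linear_combination hτ
    simp only [mul_add, add_mul, mul_sub, smul_mul_assoc, mul_smul_comm, mul_one, one_mul, smul_smul, h1, smul_add]
    have h3 : (2 + τ) • (T * T) = T * T + T * T + τ • (T * T) := by rw [add_smul, two_smul]
    rw [h3]
    simp only [mul_assoc]
    abel
  apply le_antisymm
  · intro x hx
    rw [LinearMap.mem_ker] at hx ⊢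
    rw [hfac, Module.End.mul_apply] at hx
    generalize Five.qd (-1 - τ) T x = y at hx ⊢
    obtain ⟨s, hs⟩ : ∃ s : F, s = 1 + τ := ⟨_, rfl⟩
    have hss : s * s = s + 1 := by rw [hs]; linear_combination hτ
    have hx' : T (T y) = s • T y - y := by
      have h4 : T (T y) + (-1 - τ) • T y + y = 0 := hx
      have h5 : T (T y) = - ((-1 - τ) • T y) - y := by
        rw [eq_sub_iff_add_eq, eq_neg_iff_add_eq_zero]
        rw [← h4]; abel
      rw [h5, ← neg_smul, hs]
      congr 2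
      ring
    have h5 : T (T (T (T (T y)))) = y := by
      have h6 := congrArg (fun A : Module.End F E => A y) hT
      simp only [pow_succ, pow_zero, one_mul, Module.End.mul_apply, Module.End.one_apply] at h6
      exact h6
    have e1 : T (T (T y)) = s • T y - s • y := by
      rw [hx', map_sub, map_smul, hx', smul_sub, smul_smul, hss, add_smul, one_smul]
      abel
    have e2 : T (T (T (T y))) = T y - s • y := by
      rw [e1, map_sub, map_smul, map_smul, hx', smul_sub, smul_smul, hss, add_smul, one_smul]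
      abel
    have e3 : T (T (T (T (T y)))) = - y := by
      rw [e2, map_sub, map_smul, hx']
      abel
    rw [e3] at h5
    have h6 : (2 : F) • y = 0 := by rw [two_smul]; nth_rewrite 1 [← h5]; exact neg_add_cancel y
    exact (smul_eq_zero.1 h6).resolve_left h2
  · intro x hx
    rw [LinearMap.mem_ker] at hx ⊢
    rw [hfac, Module.End.mul_apply, hx, map_zero]

/-- **the elements of order five are not fused** -/
theorem nofuse (h2 : (2 : F) ≠ 0) (hL : Lift φ ψ) {τ : F} (hτ : τ * τ + τ - 1 = 0) {a : A6} (ha : orderOf a = 5)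
    (hne : finrank F ↥(LinearMap.ker (Five.qd τ (V F (ψ a)))) ≠
      finrank F ↥(LinearMap.ker (Five.qd (-1 - τ) (V F (ψ a))))) (h : ↥(chevE7.group F)) :
    h * φ a * h⁻¹ ≠ φ (a * a) := by
  intro he
  obtain ⟨k, rfl⟩ := ad_surjective h
  have ha5 : a ^ 5 = 1 := by rw [← ha, pow_orderOf_eq_one]
  have h1 : k * ψ a * k⁻¹ = ψ (a * a) := by
    apply odd_unique (k := 5) (by decide)
    · rw [map_mul, map_mul, map_inv, hL, hL, he]
    · rw [← MulAut.conj_apply, ← map_pow, ← map_pow, ha5, map_one, map_one]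
    · rw [← map_pow, ← pow_two, pow_right_comm, ha5, one_pow, map_one]
  have hk : k * ψ a = ψ (a * a) * k := by rw [← h1]; group
  have hc : ∀ x, V F k (V F (ψ a) x) = V F (ψ (a * a)) (V F k x) := by
    intro x
    rw [← V_mul, ← V_mul, hk]
  have hq : ∀ x, V F k (Five.qd τ (V F (ψ a)) x) = Five.qd τ (V F (ψ (a * a))) (V F k x) := by
    intro x
    simp only [Five.qd, LinearMap.add_apply, LinearMap.sub_apply, LinearMap.smul_apply, Module.End.mul_apply,
      Module.End.one_apply, map_add, map_sub, map_smul, hc]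
  have hT : (V F (ψ a)) ^ 5 = 1 := by rw [← map_pow, ← map_pow, ha5, map_one, map_one]
  apply hne
  rw [← ker_qd_sq h2 hτ hT, ← map_mul, ← map_mul]
  have hki : ∀ x, V F k⁻¹ (V F k x) = x := V_inv k
  have hki' : ∀ x, V F k (V F k⁻¹ x) = x := fun x => by rw [← V_mul, mul_inv_cancel, V_one]
  let e : (D1 → F) ≃ₗ[F] (D1 → F) := LinearEquiv.ofLinearMap (V F k) (V F k⁻¹) (LinearMap.ext hki') (LinearMap.ext hki)
  have h3 : Submodule.map (e : (D1 → F) →ₗ[F] (D1 → F)) (LinearMap.ker (Five.qd τ (V F (ψ a)))) =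
      LinearMap.ker (Five.qd τ (V F (ψ (a * a)))) := by
    ext x
    rw [Submodule.mem_map, LinearMap.mem_ker]
    constructor
    · rintro ⟨y, hy, rfl⟩
      rw [LinearMap.mem_ker] at hy
      change Five.qd τ (V F (ψ (a * a))) (V F k y) = 0
      rw [← hq, hy, map_zero]
    · intro hx
      refine ⟨V F k⁻¹ x, ?_, hki' x⟩
      rw [LinearMap.mem_ker]
      have h4 := hq (V F k⁻¹ x)
      rw [hki', hx] at h4
      rw [← hki (Five.qd τ (V F (ψ a)) (V F k⁻¹ x)), h4, map_zero]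
  rw [← h3]
  exact (LinearEquiv.finrank_map_eq e _).symm

/-- **the form which is used in C3** -/
theorem hno [Finite F] (h3 : (3 : F) = 0) (hM : MaxAlt H 6 φ) (hL : Lift φ ψ) (hc : Nat.card ↥H ≤ 720)
    (hinv : Representation.invariants (MonoidHom.comp (L F) ψ) = ⊥) {τ : F} {a b : A6} {d2 d4 d5 u v : ℕ}
    (hd : N6L.Dat ψ τ a b d2 d4 d5 u v) (huv : u ≠ v) (U : Submodule F (D1 → F))
    (hU : ∀ g, ∀ x ∈ U, V F (ψ g) x ∈ U) (hU3 : finrank F ↥U = 3) : False := by
  have h2 : (2 : F) ≠ 0 := by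
    intro h2
    have h' : (1 : F) = 0 := by linear_combination h3 - h2
    exact one_ne_zero h'
  have hi : (2 * τ + 1) * (2 * τ + 1) = (-1 : F) := by linear_combination 4 * hd.hτ + 2 * h3
  refine no_three h3 hi hM hL hc hinv hd.oa (fun h _ => nofuse h2 hL hd.hτ hd.oa ?_ h) hU hU3
  rw [hd.qu, hd.qv]
  omega

end Cfsg.Agent.R2.T1.N6R
end
end

-- part: R2/T1/N6L/Patt
section
set_option linter.all false
open scoped Cfsg.Agent.FastGrp

-- part: R2/T1/N6R/Card
section
/-!
# S5929, `n = 6`: the order of `H` (helper7)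

* `card_of_nofuse` : `|H| ≤ 720` if an element of order five is not conjugate to its square;
* `card_H` : the same from the multiplicities of the eigenvalues.
-/

set_option autoImplicit false

namespace Cfsg.Agent.R2.T1.N6R

open Cfsg Cfsg.Lie Module Equiv Equiv.Perm
open Cfsg.Agent.H943.E7V.Block (D1 rho)
open Cfsg.Agent.H952.F4 (ev es MaxAlt)
open Cfsg.Agent.R2.T1

universe u

variable {F : Type u} [Field F] {H : Subgroup ↥(chevE7.group F)} {φ : A6 →* ↥(chevE7.group F)} {ψ : A6 →* Gh F}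

theorem card_of_nofuse [Finite F] (hM : MaxAlt H 6 φ) {a : A6} (ha : orderOf a = 5)
    (hnf : ∀ h ∈ H, h * φ a * h⁻¹ ≠ φ (a * a)) : Nat.card ↥H ≤ 720 := by
  refine N6D.card_le_720 hM (N6D.odd_of_five hM fun h hh x hx5 hx1 he => ?_)
  obtain ⟨α, hα⟩ := N6D.exists_aut hM hh
  have hx : orderOf x = 5 := orderOf_eq_prime hx5 hx1
  refine no_fuse_all hM ha hnf hh (α := α.toMonoidHom) hα x hx ?_
  have h1 : α x = x * x := by
    apply hM.inj
    rw [hα, he, pow_two]
  change IsConj (x * x) (α x)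
  rw [h1]

/-- **`|H| ≤ 720`** -/
theorem card_H [Finite F] (h2 : (2 : F) ≠ 0) (hM : MaxAlt H 6 φ) (hL : Lift φ ψ) {τ : F} {a b : A6}
    {d2 d4 d5 u v : ℕ} (hd : N6L.Dat ψ τ a b d2 d4 d5 u v) (huv : u ≠ v) : Nat.card ↥H ≤ 720 := by
  refine card_of_nofuse hM hd.oa fun h _ => nofuse h2 hL hd.hτ hd.oa ?_ h
  rw [hd.qu, hd.qv]
  omega

end Cfsg.Agent.R2.T1.N6R
end

-- part: R2/T1/N6L/Patt
section
/-!
# S5929, `n = 6`, `p = 3`, lift: the two patterns (helper7, helper11)

* `nine_le` : `9 ≤ |F|`;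
* `patterns` : `|H| ≤ 720`, `9 ≤ |F|`, and the pattern is `Q1` or `Q3`.
-/

set_option autoImplicit false

namespace Cfsg.Agent.R2.T1.N6L

open Cfsg Cfsg.Lie Module
open Cfsg.Agent.H943.E7V.Block (D1 rho)
open Cfsg.Agent.H952.F4 (ev es MaxAlt)
open Cfsg.Agent.R2.T1

universe u

variable {F : Type u} [Field F]

/-- `F` contains the field with nine elements -/
theorem nine_le [Finite F] (h3 : (3 : F) = 0) {τ : F} (hτ : τ * τ + τ - 1 = 0) : 9 ≤ Nat.card F := by
  classical
  have h2 : (2 : F) ≠ 0 := by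
    intro h2
    have h' : (1 : F) = 0 := by linear_combination h3 - h2
    exact one_ne_zero h'
  have hi : (2 * τ + 1) * (2 * τ + 1) = (-1 : F) := by linear_combination 4 * hτ + 2 * h3
  have hF := Fintype.ofFinite F
  have hprime : Fact (Nat.Prime 3) := ⟨Nat.prime_three⟩
  have hchar : CharP F 3 := by
    obtain ⟨p, hp⟩ := CharP.exists F
    have h1 : p ∣ 3 := (CharP.cast_eq_zero_iff F p 3).1 (by exact_mod_cast h3)
    have h4 : p = 3 := ((Nat.dvd_prime Nat.prime_three).1 h1).resolve_left (CharP.char_ne_one F p)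
    rwa [← h4]
  obtain ⟨n, -, hn⟩ := FiniteField.card F 3
  rw [Nat.card_eq_fintype_card, hn]
  have hn1 : (n : ℕ) ≠ 1 := by
    intro h1
    rw [h1, pow_one] at hn
    have hi0 : (2 * τ + 1 : F) ≠ 0 := by
      intro h0
      rw [h0, zero_mul] at hi
      exact one_ne_zero (neg_eq_zero.1 hi.symm)
    have h5 := FiniteField.pow_card_sub_one_eq_one (2 * τ + 1 : F) hi0
    rw [hn, show 3 - 1 = 2 by norm_num, pow_two, hi] at h5
    apply h2
    linear_combination -h5
  have hn2 : 2 ≤ (n : ℕ) := by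
    have := n.pos
    omega
  calc 9 = 3 ^ 2 := by norm_num
    _ ≤ 3 ^ (n : ℕ) := Nat.pow_le_pow_right (by norm_num) hn2

variable {H : Subgroup ↥(chevE7.group F)} {φ : ↥(alternatingGroup (Fin 6)) →* ↥(chevE7.group F)}
  {ψ : ↥(alternatingGroup (Fin 6)) →* Gh F}

/-- **the two patterns** -/
theorem patterns [Finite F] (h3 : (3 : F) = 0) (hM : MaxAlt H 6 φ) (hL : Lift φ ψ) :
    Nat.card ↥H ≤ 720 ∧ 9 ≤ Nat.card F ∧ ∃ (τ : F) (a b : ↥(alternatingGroup (Fin 6))),
      Dat ψ τ a b 24 12 12 10 12 ∨ Dat ψ τ a b 32 12 12 12 10 := by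
  have h2 : (2 : F) ≠ 0 := by
    intro h2
    have h' : (1 : F) = 0 := by linear_combination h3 - h2
    exact one_ne_zero h'
  obtain ⟨x, b, a, hx, hb, ha, hS⟩ := scott245 hM hL
  obtain ⟨τ, h⟩ := pats h3 hx hb ha hS
  rcases h with h | h
  · exact ⟨N6R.card_H h2 hM hL h (by norm_num), nine_le h3 h.hτ, τ, a, b, Or.inl h⟩
  · exact ⟨N6R.card_H h2 hM hL h (by norm_num), nine_le h3 h.hτ, τ, a, b, Or.inr h⟩

end Cfsg.Agent.R2.T1.N6L
end
end

-- part: R2/T1/N6L/Main
section
prune_inst 0x300000000000000000000000000000000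
set_option linter.all false
open scoped Cfsg.Agent.FastGrp

-- part: R2/T1/N6L/Q3
section
/-!
# S5929, n = 6, p = 3: the pattern `Q3` is impossible (helper14)

`noQ3` : the fixed spaces on the adjoint module have the dimensions 69, 39, 27, and `69 + 39 + 27 > 133`.
-/

set_option autoImplicit false

namespace Cfsg.Agent.R2.T1.N6L

open Cfsg Cfsg.Lie Module
open Cfsg.Agent.H943.E7V.Block (D1 rho)
open Cfsg.Agent.H952.F4 (ev es MaxAlt)
open Cfsg.Agent.R2.T1

universe u

variable {F : Type u} [Field F]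

/-- involutions -/
theorem l_two [Finite F] (h2 : (2 : F) ≠ 0) {x : Gh F} (hx : x ^ 2 = 1) (h : ev (V F x) 1 = 24 ∨ ev (V F x) 1 = 32) :
    ev (L F x) 1 = 69 := by
  obtain ⟨P, hP, h1, h3⟩ := patF chk2 (by exact_mod_cast h2) hx
  simp only [T2, List.mem_cons, List.not_mem_nil, or_false] at hP
  rcases hP with rfl | rfl | rfl | rfl
  all_goals simp only [List.getD_cons_zero] at h1 h3
  all_goals omega

/-- elements of order 4 -/
theorem l_four [Finite F] (h2 : (2 : F) ≠ 0) {x : Gh F} (hx : x ^ 4 = 1) (h4 : ev (V F x) 1 = 12)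
    (hs : ev (V F (x ^ 2)) 1 = 32) : ev (L F x) 1 = 39 := by
  have h4' : ((4 : ℕ) : F) ≠ 0 := by
    have : ((4 : ℕ) : F) = 2 * 2 := by norm_num
    rw [this]
    exact mul_ne_zero h2 h2
  obtain ⟨p, hpp, hp, hcop⟩ := exists_char h4'
  obtain ⟨ζ, hζ, P, hP, h5⟩ := pat chk4 (by norm_num) p hcop hx
  have hζ2 : ζ ^ 2 = -1 := by
    have h6 : ζ ^ 2 * ζ ^ 2 = 1 := by rw [← pow_add]; exact hζ.pow_eq_one
    rcases mul_self_eq_one_iff.1 h6 with h7 | h7
    · exact absurd h7 (hζ.pow_ne_one_of_pos_of_lt (by norm_num) (by norm_num))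
    · exact h7
  obtain ⟨h6, h7⟩ := h5 0 (by norm_num)
  have h8 := (h5 2 (by norm_num)).1
  rw [pow_zero] at h6 h7
  rw [ev_V_one, h4] at h6
  rw [ev_L_one] at h7
  rw [hζ2, ev_V_neg_one] at h8
  have h9 : ev (V F (x ^ 2)) 1 = ev (V F x) 1 + ev (V F x) (-1) := by
    rw [map_pow]
    exact E5.ev_sq h2 _
  simp only [T4, List.mem_cons, List.not_mem_nil, or_false] at hP
  rw [h7]
  rcases hP with rfl | rfl | rfl | rfl | rfl | rfl | rfl | rfl | rfl | rfl | rfl | rfl | rfl | rfl | rfl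
  all_goals simp only [List.getD_cons_zero, List.getD_cons_succ] at h6 h7 h8 ⊢
  all_goals omega

/-- elements of order 5 -/
theorem l_five [Finite F] (h5 : (5 : F) ≠ 0) {x : Gh F} (hx : x ^ 5 = 1) (h12 : ev (V F x) 1 = 12) {τ : F}
    (hτ : τ * τ + τ - 1 = 0) (hu : finrank F ↥(LinearMap.ker (Five.qd τ (V F x))) = 2 * 12) : ev (L F x) 1 = 27 := by
  obtain ⟨P, hP, h1, h2, h3⟩ := patF5 h5 hx
  rw [h12] at h1
  have key : ∀ P ∈ T5, 12 = P.1.getD 0 0 → P.1.getD 1 0 ≠ P.1.getD 2 0 ∧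
      ((12 = P.1.getD 1 0 ∨ 12 = P.1.getD 2 0) → P.2.getD 0 0 = 27) := by decide
  obtain ⟨k1, k2⟩ := key P hP h1
  rcases h3 with ⟨h4, -⟩ | ⟨t, h4, h6, -, h7, -⟩
  · exact absurd h4 k1
  · rw [h2]
    apply k2
    have h8 : (t - τ) * (t - (-1 - τ)) = 0 := by linear_combination h4 - hτ
    rcases mul_eq_zero.1 h8 with h9 | h9
    · rw [sub_eq_zero.1 h9, hu] at h6
      left
      omega
    · rw [sub_eq_zero.1 h9, show -1 - (-1 - τ) = τ by ring, hu] at h7
      right
      omega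

theorem ev_isConj {G : Type*} [Group G] {M : Type*} [AddCommGroup M] [Module F M] (ρ : Representation F G M) {x y : G}
    (h : IsConj x y) : ev (ρ y) 1 = ev (ρ x) 1 := by
  obtain ⟨c, rfl⟩ := isConj_iff.1 h
  exact N6D.ev_cj ρ c x

/-- **the pattern `Q3`** -/
theorem noQ3 [Finite F] (h3 : (3 : F) = 0) {ψ : ↥(alternatingGroup (Fin 6)) →* Gh F} {τ : F}
    {a b : ↥(alternatingGroup (Fin 6))} (hd : Dat ψ τ a b 32 12 12 12 10)
    (hinv : Representation.invariants (MonoidHom.comp (L F) ψ) = ⊥) : False := by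
  have h2 : (2 : F) ≠ 0 := by
    intro h2
    have h' : (1 : F) = 0 := by linear_combination h3 - h2
    exact one_ne_zero h'
  have h5 : (5 : F) ≠ 0 := by
    intro h5
    apply h2
    linear_combination h5 - h3
  obtain ⟨x, y, z, hx, hy, hz, hle⟩ := scott245L h2 hinv
  have hb2 : orderOf (b * b) = 2 := by
    rw [← pow_two, orderOf_pow_of_dvd (by norm_num) (by rw [hd.ob]; norm_num), hd.ob]
  have e1 : ev (L F (ψ x)) 1 = 69 := by
    have hx2 : x ^ 2 = 1 := by rw [← hx, pow_orderOf_eq_one]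
    refine l_two h2 (by rw [← map_pow, hx2, map_one]) (Or.inr ?_)
    rw [← hd.two]
    rcases N6R.cls6 (hb2.trans hx.symm) with h | h | ⟨h, -⟩
    · have := orderOf_dvd_of_pow_eq_one h
      rw [hb2] at this
      omega
    · exact ev_isConj (MonoidHom.comp (V F) ψ) h
    · omega
  have e2 : ev (L F (ψ y)) 1 = 39 := by
    have hy4 : y ^ 4 = 1 := by rw [← hy, pow_orderOf_eq_one]
    have hc : IsConj b y := by
      rcases N6R.cls6 (hd.ob.trans hy.symm) with h | h | ⟨h, -⟩
      · have := orderOf_dvd_of_pow_eq_one h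
        rw [hd.ob] at this
        omega
      · exact h
      · rw [hd.ob] at h
        omega
    refine l_four h2 (by rw [← map_pow, hy4, map_one]) ?_ ?_
    · rw [← hd.four]
      exact ev_isConj (MonoidHom.comp (V F) ψ) hc
    · rw [← hd.two, ← map_pow, pow_two]
      refine ev_isConj (MonoidHom.comp (V F) ψ) (x := b * b) (y := y * y) ?_
      obtain ⟨c, rfl⟩ := isConj_iff.1 hc
      exact isConj_iff.2 ⟨c, by group⟩
  have e3 : ev (L F (ψ z)) 1 = 27 := by
    have ha5 : a ^ 5 = 1 := by rw [← hd.oa, pow_orderOf_eq_one]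
    have ha5' : (ψ a) ^ 5 = 1 := by rw [← map_pow, ha5, map_one]
    have e : ev (L F (ψ a)) 1 = 27 := l_five h5 ha5' hd.five hd.hτ hd.qu
    rw [← e]
    rcases N6R.cls6 (hd.oa.trans hz.symm) with h | h | ⟨-, h⟩
    · have := orderOf_dvd_of_pow_eq_one h
      rw [hd.oa] at this
      omega
    · exact ev_isConj (MonoidHom.comp (L F) ψ) h
    · exact (ev_isConj (MonoidHom.comp (L F) ψ) h).trans (N6D.ev_pow_five ha5 (MonoidHom.comp (L F) ψ))
  omega

end Cfsg.Agent.R2.T1.N6L
end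

-- part: R2/T1/N6L/Main
section
/-!
# S5929: n = 6, p = 3, lift (assembly: helper14)
-/

set_option autoImplicit false

namespace Cfsg.Agent.R2.T1.N6L

open Cfsg Cfsg.Lie Module
open Cfsg.Agent.H943.E7V.Block (D1 rho)
open Cfsg.Agent.H952.F4 (ev es MaxAlt)
open Cfsg.Agent.R2.T1

universe u

variable {F : Type u} [Field F] {H : Subgroup ↥(chevE7.group F)}
  {φ : ↥(alternatingGroup (Fin 6)) →* ↥(chevE7.group F)} {ψ : ↥(alternatingGroup (Fin 6)) →* Gh F}

/-- **the box `six3` of S5929** -/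
theorem six3 [Finite F] (hM : MaxAlt H 6 φ) (hL : Lift φ ψ) (h3 : (3 : F) = 0) : False := by
  obtain ⟨hc, hq, τ, a, b, hd⟩ := patterns h3 hM hL
  have hinv := Cfsg.Agent.R2.T2.Orb.no_inv_three hM hL h3 hc hq hd
  rcases hd with hd | hd
  · exact no_q1 h3 hM hL hd fun U hU h => N6R.hno h3 hM hL hc hinv hd (by norm_num) U hU h
  · exact noQ3 h3 hd hinv

end Cfsg.Agent.R2.T1.N6L
end
end

-- part: R2/T1/N6B/Neg
section
prune_inst 0x300000000000000000000000000000000
set_option linter.all false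
open scoped Cfsg.Agent.FastGrp

/-!
# Elements of order 8 are not conjugate to their negatives (helper22)
-/

set_option autoImplicit false
set_option maxRecDepth 100000
set_option linter.unusedSectionVars false

namespace Cfsg.Agent.R2.T1.N6B

open Cfsg Cfsg.Lie Module
open Cfsg.Agent.H943.E7V.Block (D1 rho)
open Cfsg.Agent.H952.F4 (ev es)
open Cfsg.Agent.R2.T1 Cfsg.Agent.R2.T1.Five

universe u

theorem ev_neg_eq {K V : Type*} [Field K] [AddCommGroup V] [Module K V] (T : Module.End K V) (μ : K) :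
    ev (-T) μ = ev T (-μ) := by
  have h : (-T).eigenspace μ = T.eigenspace (-μ) := by
    ext v
    rw [Module.End.mem_eigenspace_iff, Module.End.mem_eigenspace_iff, LinearMap.neg_apply, neg_smul, neg_eq_iff_eq_neg]
  unfold ev
  rw [h]

section
variable {F : Type u} [Field F] [Finite F]

/-- **no element of order 8 is conjugate to its negative** -/
theorem no_neg (h2 : (2 : F) ≠ 0) {k g : Gh F} (hk : V F (k ^ 4) = -1) (hg : V F (g * k * g⁻¹) = - V F k) : False := by
  have h8 : ((8 : ℕ) : F) ≠ 0 := by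
    have : ((8 : ℕ) : F) = 2 * (2 * 2) := by norm_num
    rw [this]
    exact mul_ne_zero h2 (mul_ne_zero h2 h2)
  obtain ⟨p, hpp, hp, hcop⟩ := exists_char h8
  set f := algebraMap F (AlgebraicClosure F) with hf
  have hx : k ^ 8 = 1 := by
    apply V_injective
    have h1 : k ^ 8 = k ^ 4 * k ^ 4 := by rw [← pow_add]
    rw [h1, map_mul, hk, map_one]
    refine LinearMap.ext fun v => ?_
    show - - v = v
    exact _root_.neg_neg v
  have hch : CharP (AlgebraicClosure F) p := charP_of_injective_algebraMap f.injective p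
  have hNk : ((8 : ℕ) : AlgebraicClosure F) ≠ 0 := by
    intro h0
    have h1 : p ∣ 8 := (CharP.cast_eq_zero_iff (AlgebraicClosure F) p 8).1 h0
    have h2 : p ∣ 1 := by
      rw [← hcop]
      exact Nat.dvd_gcd h1 dvd_rfl
    exact (Fact.out : p.Prime).one_lt.ne' (Nat.dvd_one.1 h2)
  have : NeZero ((8 : ℕ) : AlgebraicClosure F) := ⟨hNk⟩
  obtain ⟨ζ, hζ⟩ : ∃ ζ : AlgebraicClosure F, IsPrimitiveRoot ζ 8 :=
    HasEnoughRootsOfUnity.exists_primitiveRoot (AlgebraicClosure F) 8
  have hζ0 : ζ ≠ 0 := hζ.ne_zero (by norm_num)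
  have hζu : IsPrimitiveRoot (Units.mk0 ζ hζ0) 8 := IsPrimitiveRoot.coe_units_iff.1 hζ
  obtain ⟨m, hP, h1⟩ := exists_row chkP8 (by norm_num) hζu (frame p (by norm_num) hcop hx)
  have h2K : (2 : AlgebraicClosure F) ≠ 0 := by
    have h := (map_ne_zero f).2 h2
    rwa [map_ofNat] at h
  have hneg : ∀ a b : Gh F, V F a = - V F b → V (AlgebraicClosure F) (emb f a) = - V (AlgebraicClosure F) (emb f b) := by
    intro a b hab
    have h3 : (rho F a) = -(rho F b) := by
      have h4 : Matrix.toLin' (rho F a) = Matrix.toLin' (-(rho F b)) := by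
        rw [map_neg]
        exact hab
      exact Matrix.toLin'.injective h4
    refine LinearMap.ext fun v => ?_
    rw [V_apply, rho_emb, h3]
    show _ = -(rho (AlgebraicClosure F) (emb f b)).mulVec v
    rw [rho_emb, ← Matrix.neg_mulVec]
    congr 1
    ext i j
    simp
  have hk' : V (AlgebraicClosure F) (emb f k ^ 4) = -1 := by
    have h3 := hneg (k ^ 4) 1 (by rw [hk, map_one])
    rwa [map_one, map_one, map_pow] at h3
  have hev : ∀ j, ev (V (AlgebraicClosure F) (emb f k)) (ζ ^ (2 * j)) = 0 := by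
    intro j
    rw [ev, Submodule.finrank_eq_zero, eq_bot_iff]
    intro v hv
    rw [Module.End.mem_eigenspace_iff] at hv
    have h3 : ∀ n : ℕ, V (AlgebraicClosure F) (emb f k ^ n) v = ((ζ ^ (2 * j)) ^ n) • v := by
      intro n
      induction n with
      | zero => rw [pow_zero, pow_zero, map_one, one_smul]; rfl
      | succ n ih => rw [pow_succ', map_mul, Module.End.mul_apply, ih, map_smul, hv, smul_smul, pow_succ]
    have h4 := h3 4
    have h5 : (ζ ^ (2 * j)) ^ 4 = 1 := by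
      rw [← pow_mul, show 2 * j * 4 = 8 * j by ring, pow_mul, hζ.pow_eq_one, one_pow]
    rw [hk', h5, one_smul] at h4
    have h6 : -v = v := h4
    have h7 : (2 : AlgebraicClosure F) • v = 0 := by
      rw [two_smul]
      nth_rewrite 1 [← h6]
      exact neg_add_cancel v
    exact (Submodule.mem_bot _).2 ((smul_eq_zero.1 h7).resolve_left h2K)
  have e0 := h1 0 (by norm_num)
  have e1 := h1 1 (by norm_num)
  have e2 := h1 2 (by norm_num)
  have e4 := h1 4 (by norm_num)
  have e5 := h1 5 (by norm_num)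
  have e6 := h1 6 (by norm_num)
  change ev (V (AlgebraicClosure F) (emb f k)) (ζ ^ 0) = _ at e0
  change ev (V (AlgebraicClosure F) (emb f k)) (ζ ^ 1) = _ at e1
  change ev (V (AlgebraicClosure F) (emb f k)) (ζ ^ 2) = _ at e2
  change ev (V (AlgebraicClosure F) (emb f k)) (ζ ^ 4) = _ at e4
  change ev (V (AlgebraicClosure F) (emb f k)) (ζ ^ 5) = _ at e5
  change ev (V (AlgebraicClosure F) (emb f k)) (ζ ^ 6) = _ at e6
  rw [show 0 = 2 * 0 by norm_num, hev] at e0
  rw [show 2 = 2 * 1 by norm_num, hev] at e2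
  rw [show 4 = 2 * 2 by norm_num, hev] at e4
  rw [show 6 = 2 * 3 by norm_num, hev] at e6
  have hz4 : ζ ^ 4 = -1 := by
    have h3 : (ζ ^ 4 - 1) * (ζ ^ 4 + 1) = 0 := by linear_combination hζ.pow_eq_one
    rcases mul_eq_zero.1 h3 with h4 | h4
    · exfalso
      have h5 := (hζ.pow_eq_one_iff_dvd 4).1 (by linear_combination h4)
      omega
    · linear_combination h4
  have h15 : m 1 = m 5 := by
    rw [← e1, ← e5]
    have h3 := Cfsg.Agent.H952.F4.TabLin.ev_conj (V (AlgebraicClosure F)) (emb f g) (emb f k) (ζ ^ 1)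
    rw [← map_mul, ← map_inv, ← map_mul, hneg _ _ hg, ev_neg_eq] at h3
    rw [← h3]
    congr 1
    rw [pow_succ ζ 4, hz4]
    ring
  unfold P8 at hP
  simp only [← e0, ← e2, ← e4, ← e6] at hP
  simp [h15] at hP

end

end Cfsg.Agent.R2.T1.N6B
end

-- part: R2/T1/N6B/Conj
section
prune_inst 0x300000000000000000000000000000000
set_option linter.all false
open scoped Cfsg.Agent.FastGrp

-- part: R2/T1/N6B/Grp
section
/-!
# The covering group of `A₆`: automorphisms (helper22)

* `hodd` : no element of `H` acts on `A₆` as an odd permutation;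
* `conj_four` : the elements of order 4 of `A₆` are conjugate.
-/

set_option autoImplicit false
set_option maxRecDepth 100000
set_option linter.unusedSectionVars false

namespace Cfsg.Agent.R2.T1.N6B

open Cfsg Cfsg.Lie Module Equiv
open Cfsg.Agent.H943.E7V.Block (D1 rho)
open Cfsg.Agent.H952.F4 (ev es MaxAlt)
open Cfsg.Agent.R2.T1

universe u

/-- `A₆` -/
abbrev A6 : Type := ↥(alternatingGroup (Fin 6))

/-- conjugation with a permutation -/
def cj (τ : Perm (Fin 6)) (a : A6) : A6 := ⟨τ * a * τ⁻¹, by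
  rw [Perm.mem_alternatingGroup, Perm.sign_mul, Perm.sign_mul, Perm.sign_inv, Perm.mem_alternatingGroup.1 a.2, mul_one,
    Int.units_mul_self]⟩

theorem cj_coe (τ : Perm (Fin 6)) (a : A6) : ((cj τ a : A6) : Perm (Fin 6)) = τ * a * τ⁻¹ := rfl

theorem cj_mul (τ μ : Perm (Fin 6)) (a : A6) : cj τ (cj μ a) = cj (τ * μ) a := by
  apply Subtype.ext
  rw [cj_coe, cj_coe, cj_coe, mul_inv_rev]
  simp only [mul_assoc]

theorem cj_self (c a : A6) : cj (c : Perm (Fin 6)) a = c * a * c⁻¹ := rfl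

theorem cj_one (a : A6) : cj 1 a = a := by
  apply Subtype.ext
  rw [cj_coe, inv_one, mul_one, one_mul]

section
variable {F : Type u} [Field F] {H : Subgroup ↥(chevE7.group F)} {φ : A6 →* ↥(chevE7.group F)}

/-- `s` acts as `τ` -/
def Acts (φ : A6 →* ↥(chevE7.group F)) (s : ↥(chevE7.group F)) (τ : Perm (Fin 6)) : Prop := ∀ a, s * φ a * s⁻¹ = φ (cj τ a)

theorem Acts.mul {s r : ↥(chevE7.group F)} {τ μ : Perm (Fin 6)} (hs : Acts φ s τ) (hr : Acts φ r μ) : Acts φ (s * r) (τ * μ) := by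
  intro a
  have h1 : s * r * φ a * (s * r)⁻¹ = s * (r * φ a * r⁻¹) * s⁻¹ := by group
  rw [h1, hr, hs, cj_mul]

theorem Acts.self (c : A6) : Acts φ (φ c) c := by
  intro a
  rw [cj_self, map_mul, map_mul, map_inv]

theorem Acts.inv {s : ↥(chevE7.group F)} {τ : Perm (Fin 6)} (hs : Acts φ s τ) : Acts φ s⁻¹ τ⁻¹ := by
  intro a
  have h1 := hs (cj τ⁻¹ a)
  rw [cj_mul, mul_inv_cancel, cj_one] at h1
  rw [← h1]
  group

theorem Acts.uniq (hM : MaxAlt H 6 φ) {s r : ↥(chevE7.group F)} {τ : Perm (Fin 6)} (hs : Acts φ s τ) (hr : Acts φ r τ) :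
    s = r := by
  have h1 : r⁻¹ * s = 1 := by
    refine centralizer_eq hM (by norm_num) fun a => ?_
    have h2 : s * φ a * s⁻¹ = r * φ a * r⁻¹ := by rw [hs, hr]
    calc φ a * (r⁻¹ * s) = r⁻¹ * (r * φ a * r⁻¹) * s := by group
      _ = r⁻¹ * (s * φ a * s⁻¹) * s := by rw [h2]
      _ = r⁻¹ * s * φ a := by group
  exact (inv_mul_eq_one.1 h1).symm

/-- the transposition `(4 5)` -/
def t45 : Perm (Fin 6) := swap 4 5
/-- the transposition `(2 3)` -/
def t23 : Perm (Fin 6) := swap 2 3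
/-- `(2 4)(3 5)` -/
def dd : A6 := ⟨swap 2 4 * swap 3 5, by rw [Perm.mem_alternatingGroup]; decide⟩
/-- `(4 5)(2 3)` -/
def ee : A6 := ⟨swap 4 5 * swap 2 3, by rw [Perm.mem_alternatingGroup]; decide⟩
/-- `(0 1 2)` -/
def c012 : A6 := ⟨swap 0 1 * swap 1 2, by rw [Perm.mem_alternatingGroup]; decide⟩

theorem ee_type : (ee : Perm (Fin 6)).cycleType = {2, 2} := by decide +kernel
theorem ce_type : ((c012 * ee * (c012 * ee) : A6) : Perm (Fin 6)).cycleType = {2, 2} := by decide +kernel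
theorem c012_cube : c012 ^ 3 = 1 := by decide +kernel
theorem c012_t : cj t45 c012 = c012 := by decide +kernel
theorem dtd : (dd : Perm (Fin 6)) * t45 * (dd : Perm (Fin 6))⁻¹ = t23 := by decide +kernel
theorem tt : t45 * t45 = 1 := by decide +kernel
theorem te : t45 * t23 = (ee : Perm (Fin 6)) := rfl
theorem ttt : t23 * t45 * t23⁻¹ = t45 := by decide +kernel

/-- **no element of `H` acts as an odd permutation** -/
theorem hodd [Finite F] (h2 : (2 : F) ≠ 0) (hM : MaxAlt H 6 φ) (hc : Cover φ) (h : ↥(chevE7.group F)) (τ : Perm (Fin 6))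
    (hτ : Perm.sign τ = -1) (hact : Acts φ h τ) : False := by
  -- the element acting as a transposition
  have hc0 : t45 * τ⁻¹ ∈ alternatingGroup (Fin 6) := by
    rw [Perm.mem_alternatingGroup, Perm.sign_mul, Perm.sign_inv, hτ]
    decide
  have hs : Acts φ (φ ⟨t45 * τ⁻¹, hc0⟩ * h) t45 := by
    have h1 := (Acts.self (φ := φ) ⟨t45 * τ⁻¹, hc0⟩).mul hact
    have h3 : t45 * τ⁻¹ * τ = t45 := by group
    have h4 : ((⟨t45 * τ⁻¹, hc0⟩ : A6) : Perm (Fin 6)) * τ = t45 := h3
    rwa [h4] at h1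
  obtain ⟨S, hS⟩ := ad_surjective (φ ⟨t45 * τ⁻¹, hc0⟩ * h)
  rw [← hS] at hs
  obtain ⟨D, hD⟩ := ad_surjective (φ dd)
  have hr : Acts φ (ad F (D * S * D⁻¹)) t23 := by
    rw [map_mul, map_mul, map_inv, hD]
    have h1 := ((Acts.self (φ := φ) dd).mul hs).mul (Acts.self (φ := φ) dd).inv
    rwa [dtd] at h1
  have hSS : ad F (S * S) = 1 := by
    rw [map_mul]
    refine Acts.uniq hM (hs.mul hs) ?_
    rw [tt]
    intro a
    rw [cj_one, one_mul, inv_one, mul_one]
  obtain ⟨R, hR⟩ : ∃ R, R = D * S * D⁻¹ := ⟨_, rfl⟩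
  rw [← hR] at hr
  have hRR : R * R = S * S := by
    have h1 : R * R = D * (S * S) * D⁻¹ := by rw [hR]; group
    rw [h1, ker_comm hSS D]
    group
  have hSR : ad F (S * R) = φ ee := by
    rw [map_mul]
    refine Acts.uniq hM (hs.mul hr) ?_
    rw [te]
    exact Acts.self ee
  have hRS : ad F (R * S * R⁻¹) = ad F S := by
    rw [map_mul, map_mul, map_inv]
    refine Acts.uniq hM ((hr.mul hs).mul hr.inv) ?_
    rw [ttt]
    exact hs
  have hsq := hc.sq (by norm_num) hM.inj ee_type hSR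
  have h11 : (1 : Module.End F (D1 → F)) ≠ -1 := by
    intro h0
    have h7 := congrArg (fun T : Module.End F (D1 → F) => T (fun _ => 1)) h0
    have h8 := congrFun h7 topv
    change (1 : F) = -1 at h8
    apply h2
    linear_combination h8
  rcases ad_eq_iff.1 hRS with h1 | h1
  · -- `S` and `R` commute
    have h3 : S * R * (S * R) = (S * S) * (S * S) := by
      have h4 : R * S = S * R := by
        nth_rewrite 2 [← h1]
        group
      calc S * R * (S * R) = S * (R * S) * R := by group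
        _ = S * (S * R) * R := by rw [h4]
        _ = S * S * (R * R) := by group
        _ = S * S * (S * S) := by rw [hRR]
    rw [h3, ker_sq hSS, map_one] at hsq
    exact h11 hsq
  · -- the element of order 8
    obtain ⟨C, hC, hC3⟩ := odd_lift (F := F) (g := φ c012) (k := 3) (by decide) (by rw [← map_pow, c012_cube, map_one])
    have hSC : S * C * S⁻¹ = C := by
      refine odd_unique (k := 3) (by decide) ?_ ?_ hC3
      · rw [map_mul, map_mul, map_inv, hC, hs, c012_t]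
      · rw [conj_pow, hC3, mul_one, mul_inv_cancel]
    have hx4 : V F ((C * (S * R)) ^ 4) = -1 := by
      have h3 : ad F (C * (S * R) * (C * (S * R))) = φ (c012 * ee * (c012 * ee)) := by
        rw [map_mul, map_mul (ad F) C, hC, hSR, ← map_mul, ← map_mul]
      have h4 := hc.sq (by norm_num) hM.inj ce_type h3
      have h5 : (C * (S * R)) ^ 4 = C * (S * R) * (C * (S * R)) * (C * (S * R) * (C * (S * R))) := by
        rw [show (4 : ℕ) = 2 * 2 from rfl, pow_mul, sq, sq]
      rw [h5]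
      exact h4
    refine no_neg h2 (k := C * (S * R)) (g := S) hx4 ?_
    have h3 : S * (C * (S * R)) * S⁻¹ = (S * C * S⁻¹) * (S * (S * R) * S⁻¹) := by group
    rw [h3, hSC]
    -- `V (S R) = - V (R S)`
    have h5 : ∀ v, V F (R * S) v = - V F (S * R) v := by
      intro v
      have h6 : V F (R * S) v = V F (R * S * R⁻¹) (V F R v) := by
        rw [← V_mul, inv_mul_cancel_right]
      rw [h6, h1, LinearMap.neg_apply, V_mul]
    have h7 : ∀ v, V F (S * (S * R) * S⁻¹) v = - V F (S * R) v := by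
      intro v
      have h8 : V F (S * (S * R) * S⁻¹) v = V F S (V F (S * R) (V F S⁻¹ v)) := by
        rw [V_mul, V_mul]
      have h9 : V F (S * R) (V F S⁻¹ v) = - V F (R * S) (V F S⁻¹ v) := by rw [h5, _root_.neg_neg]
      rw [h8, h9, ← V_mul, mul_assoc, mul_inv_cancel, mul_one, map_neg, ← V_mul]
    refine LinearMap.ext fun v => ?_
    rw [V_mul, h7, map_neg, LinearMap.neg_apply, ← V_mul]

end

end Cfsg.Agent.R2.T1.N6B
end

-- part: R2/T1/N6B/Conj
section
/-!
# The elements of order 4 of `A₆` (helper22)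
-/

set_option autoImplicit false
set_option maxRecDepth 100000
set_option linter.unusedSectionVars false

namespace Cfsg.Agent.R2.T1.N6B

open Cfsg Cfsg.Lie Module Equiv
open Cfsg.Agent.H943.E7V.Block (D1 rho)
open Cfsg.Agent.H952.F4 (ev es MaxAlt)
open Cfsg.Agent.R2.T1

universe u

theorem type_four {a : Perm (Fin 6)} (hs : Perm.sign a = 1) (h4 : a ^ 4 = 1) (h2 : a ^ 2 ≠ 1) : a.cycleType = {4, 2} := by
  have hsum : a.cycleType.sum ≤ 6 := by
    rw [Perm.sum_cycleType]
    exact (Finset.card_le_univ _).trans (by simp)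
  have hdvd : ∀ n ∈ a.cycleType, n ∣ 4 := fun n hn => (Perm.dvd_of_mem_cycleType hn).trans (orderOf_dvd_of_pow_eq_one h4)
  have h4m : 4 ∈ a.cycleType := by
    by_contra hno
    apply h2
    rw [← orderOf_dvd_iff_pow_eq_one, ← Perm.lcm_cycleType, Multiset.lcm_dvd]
    intro n hn
    have h5 := Nat.le_of_dvd (by norm_num) (hdvd n hn)
    have h6 := hdvd n hn
    interval_cases n
    · exact absurd h6 (by decide)
    · exact one_dvd 2
    · exact dvd_rfl
    · exact absurd h6 (by decide)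
    · exact absurd hn hno
  obtain ⟨m, hm⟩ := Multiset.exists_cons_of_mem h4m
  have hsg := Perm.sign_of_cycleType a
  rw [hs, hm] at hsg
  rw [hm, Multiset.sum_cons] at hsum
  have hge : ∀ n ∈ m, 2 ≤ n := fun n hn => Perm.two_le_of_mem_cycleType (σ := a) (by rw [hm]; exact Multiset.mem_cons_of_mem hn)
  rcases Multiset.empty_or_exists_mem m with rfl | ⟨b, hb⟩
  · exact absurd hsg (by decide)
  · obtain ⟨m', rfl⟩ := Multiset.exists_cons_of_mem hb
    rw [Multiset.sum_cons] at hsum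
    have h5 := hge b hb
    rcases Multiset.empty_or_exists_mem m' with rfl | ⟨c, hc⟩
    · rw [hm]
      have h6 : b = 2 := by
        rw [Multiset.sum_zero] at hsum
        omega
      rw [h6]
      rfl
    · obtain ⟨m'', rfl⟩ := Multiset.exists_cons_of_mem hc
      rw [Multiset.sum_cons] at hsum
      have h6 := hge c (Multiset.mem_cons_of_mem hc)
      omega

theorem conj_four {a b : A6} (ha : a ^ 4 = 1) (ha2 : a ^ 2 ≠ 1) (hb : b ^ 4 = 1) (hb2 : b ^ 2 ≠ 1) :
    ∃ c : A6, c * a * c⁻¹ = b := by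
  have key : ∀ {a : A6}, a ^ 4 = 1 → a ^ 2 ≠ 1 → (a : Perm (Fin 6)).cycleType = {4, 2} := by
    intro a h4 h2
    refine type_four (Perm.mem_alternatingGroup.1 a.2) ?_ ?_
    · have := congrArg (fun x : A6 => (x : Perm (Fin 6))) h4
      simpa using this
    · intro h0
      apply h2
      apply Subtype.ext
      simpa using h0
  have h1 := key ha ha2
  have h2 := key hb hb2
  obtain ⟨τ, hτ⟩ := isConj_iff.1 (Perm.isConj_iff_cycleType_eq.2 (h1.trans h2.symm))
  rcases Int.units_eq_one_or (Perm.sign τ) with hs | hs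
  · exact ⟨⟨τ, Perm.mem_alternatingGroup.2 hs⟩, Subtype.ext hτ⟩
  · -- the four-cycle of `a`
    have h4m : 4 ∈ (a : Perm (Fin 6)).cycleType := by rw [h1]; decide
    obtain ⟨c, d, hcd, hdis, hcy, hcard⟩ := Perm.mem_cycleType_iff.1 h4m
    have hsc : Perm.sign c = -1 := by
      rw [hcy.sign, hcard]
      decide
    have hcomm : c * a * c⁻¹ = a := by
      rw [hcd, ← mul_assoc, mul_assoc (c * c), ← (hdis.commute.inv_left).eq]
      group
    refine ⟨⟨τ * c, ?_⟩, Subtype.ext ?_⟩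
    · rw [Perm.mem_alternatingGroup, Perm.sign_mul, hs, hsc]
      decide
    · show τ * c * (a : Perm (Fin 6)) * (τ * c)⁻¹ = b
      rw [← hτ, mul_inv_rev]
      calc τ * c * (a : Perm (Fin 6)) * (c⁻¹ * τ⁻¹) = τ * (c * a * c⁻¹) * τ⁻¹ := by simp only [mul_assoc]
        _ = τ * a * τ⁻¹ := by rw [hcomm]

section
variable {F : Type u} [Field F] {H : Subgroup ↥(chevE7.group F)} {φ : A6 →* ↥(chevE7.group F)}

/-- **adjustment** -/
theorem exists_adj [Finite F] (h2 : (2 : F) ≠ 0) (hM : MaxAlt H 6 φ) {x : Gh F} (hx : V F (x ^ 4) = -1)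
    (hxm : ad F x ∈ φ.range) {h : Gh F} (hh : ad F h ∈ H) :
    ∃ y : Gh F, ad F y ∈ φ.range ∧ y * h * x * (y * h)⁻¹ = x := by
  obtain ⟨a, ha⟩ := hxm
  obtain ⟨b, hb⟩ := hM.norm _ hh _ ⟨a, rfl⟩
  have hx4 : ad F (x ^ 4) = 1 := ad_eq_one_iff.2 (Or.inr hx)
  have h11 : (1 : Module.End F (D1 → F)) ≠ -1 := by
    intro h0
    have h7 := congrArg (fun T : Module.End F (D1 → F) => T (fun _ => 1)) h0
    have h8 := congrFun h7 topv
    change (1 : F) = -1 at h8
    apply h2
    linear_combination h8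
  have hx2 : ad F (x ^ 2) ≠ 1 := by
    intro h0
    have h1 := ker_sq h0
    rw [← pow_add] at h1
    rw [h1, map_one] at hx
    exact h11 hx
  have ha4 : a ^ 4 = 1 := hM.inj (by rw [map_pow, ha, ← map_pow, hx4, map_one])
  have ha2 : a ^ 2 ≠ 1 := by
    intro h0
    apply hx2
    rw [map_pow, ← ha, ← map_pow, h0, map_one]
  have hb4 : b ^ 4 = 1 := hM.inj (by rw [map_pow, hb, conj_pow, ← map_pow, ha4, map_one, mul_one, mul_inv_cancel])
  have hb2 : b ^ 2 ≠ 1 := by
    intro h0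
    apply ha2
    apply hM.inj
    have h1 : φ b ^ 2 = 1 := by rw [← map_pow, h0, map_one]
    rw [hb, conj_pow, ← map_pow] at h1
    rw [map_one]
    have h3 := congrArg (fun t => (ad F h)⁻¹ * t * ad F h) h1
    simp only [mul_one, inv_mul_cancel] at h3
    rw [← h3]
    group
  obtain ⟨c, hc⟩ := conj_four hb4 hb2 ha4 ha2
  obtain ⟨y, hy⟩ := ad_surjective (φ c)
  refine ⟨y, ⟨c, hy.symm⟩, ?_⟩
  have h3 : ad F (y * h * x * (y * h)⁻¹) = ad F x := by
    rw [← ha, ← hc, map_mul φ, map_mul φ, map_inv φ, hb, ← hy, ha]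
    simp only [map_mul, map_inv]
    group
  rcases ad_eq_iff.1 h3 with h4 | h4
  · exact h4
  · exact (no_neg h2 hx h4).elim

end

end Cfsg.Agent.R2.T1.N6B
end
end
end
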